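import Cfsg.Agent.Lib.CoprimeGen
import Cfsg.Agent.Lib.Comp.PComp

/-!
Coprime action of elementary abelian groups: generation by centralizers of hyperplanes.
-/

set_option autoImplicit false
set_option linter.unusedSectionVars false

namespace CfsgLib.Signalizer

open Cfsg Subgroup
open scoped commutatorElement

universe u
variable {G : Type u} [Group G] [Finite G] {p : ℕ} [Fact p.Prime]

theorem orderOf_eq_prime_of_ea {A : Subgroup G} (hA : IsElementaryAbelian p A) {a : G} (ha : a ∈ A) (ha1 : a ≠ 1) :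
    orderOf a = p :=
  orderOf_eq_prime (hA.2 a ha) ha1

theorem isPGroup_ea {A : Subgroup G} (hA : IsElementaryAbelian p A) : IsPGroup p A :=
  fun a => ⟨1, Subtype.ext (by push_cast; rw [pow_one]; exact hA.2 a a.2)⟩

theorem ea_le {A B : Subgroup G} (hA : IsElementaryAbelian p A) (hB : B ≤ A) : IsElementaryAbelian p B :=
  ⟨⟨⟨fun x y => Subtype.ext (show (x : G) * y = y * x from
    congrArg Subtype.val (hA.1.is_comm.comm ⟨x, hB x.2⟩ ⟨y, hB y.2⟩))⟩⟩,
    fun a ha => hA.2 a (hB ha)⟩

theorem ea_comm {A : Subgroup G} (hA : IsElementaryAbelian p A) {a b : G} (ha : a ∈ A) (hb : b ∈ A) :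
    a * b = b * a :=
  congrArg Subtype.val (hA.1.is_comm.comm ⟨a, ha⟩ ⟨b, hb⟩)

theorem ea_coprime {A K : Subgroup G} (hA : IsElementaryAbelian p A) (hK : ¬ p ∣ Nat.card K) :
    (Nat.card A).Coprime (Nat.card K) := by
  obtain ⟨n, hn⟩ := IsPGroup.iff_card.mp (isPGroup_ea hA)
  rw [hn]
  exact Nat.Coprime.pow_left n ((Fact.out : p.Prime).coprime_iff_not_dvd.mpr hK)

theorem ea_solvable {A : Subgroup G} (hA : IsElementaryAbelian p A) : Group.IsSolvable A :=
  Group.isSolvable_of_comm fun a b => hA.1.is_comm.comm a b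

theorem ea_not_cyclic {A : Subgroup G} (hA : IsElementaryAbelian p A) (h2 : p < Nat.card A) : ¬ IsCyclic A := by
  intro h
  obtain ⟨g, hg⟩ := h.exists_ofOrder_eq_natCard
  have : orderOf g ∣ p := orderOf_dvd_of_pow_eq_one (Subtype.ext (by push_cast; exact hA.2 g g.2))
  exact absurd (hg ▸ Nat.le_of_dvd (Fact.out : p.Prime).pos this) (not_le.mpr h2)

theorem mem_sup_of_ea {A B C : Subgroup G} (hA : IsElementaryAbelian p A) (hB : B ≤ A) (hC : C ≤ A) {x : G}
    (hx : x ∈ B ⊔ C) : ∃ b ∈ B, ∃ c ∈ C, x = b * c :=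
  Comp.mem_sup_of_commutator_eq_bot (Subgroup.commutator_eq_bot_iff_le_centralizer.mpr
    fun b hb c hc => ea_comm hA (hC hc) (hB hb)) hx

theorem card_sup_zpowers_le {A B : Subgroup G} (hA : IsElementaryAbelian p A) (hB : B ≤ A) {e : G} (he : e ∈ A) :
    Nat.card ↥(B ⊔ Subgroup.zpowers e) ≤ Nat.card B * p := by
  have hf : Function.Surjective (fun z : B × Subgroup.zpowers e =>
      (⟨z.1 * z.2, Subgroup.mul_mem_sup z.1.2 z.2.2⟩ : ↥(B ⊔ Subgroup.zpowers e))) := by
    rintro ⟨x, hx⟩
    obtain ⟨b, hb, c, hc, rfl⟩ := mem_sup_of_ea hA hB (Subgroup.zpowers_le.mpr he) hx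
    exact ⟨(⟨b, hb⟩, ⟨c, hc⟩), rfl⟩
  refine (Nat.card_le_card_of_surjective _ hf).trans ?_
  rw [Nat.card_prod, Nat.card_zpowers]
  exact Nat.mul_le_mul_left _ (Nat.le_of_dvd (Fact.out : p.Prime).pos (orderOf_dvd_of_pow_eq_one (hA.2 e he)))

theorem le_normalizer_centralizer {A B : Subgroup G} (hA : IsElementaryAbelian p A) (hB : B ≤ A) :
    A ≤ Subgroup.normalizer ((Subgroup.centralizer (B : Set G) : Subgroup G) : Set G) := by
  intro a ha
  refine Comp.mem_normalizer_of_maps fun x hx b hb => ?_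
  have e : ∀ z ∈ B, z * a = a * z := fun z hz => ea_comm hA (hB hz) ha
  calc b * (a * x * a⁻¹) = (b * a) * x * a⁻¹ := by group
    _ = a * (b * x) * a⁻¹ := by rw [e b hb]; group
    _ = a * (x * b) * a⁻¹ := by rw [hx b hb]
    _ = a * x * (b * a⁻¹) := by group
    _ = a * x * (a⁻¹ * b) := by
        rw [ea_comm hA (hB hb) (inv_mem ha)]
    _ = a * x * a⁻¹ * b := by group

theorem inf_normalizes {A X Y : Subgroup G} (hX : A ≤ Subgroup.normalizer (X : Set G))
    (hY : A ≤ Subgroup.normalizer (Y : Set G)) : A ≤ Subgroup.normalizer ((X ⊓ Y : Subgroup G) : Set G) :=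
  fun a ha => Comp.mem_normalizer_of_maps fun _ hz =>
    ⟨(Subgroup.mem_normalizer_iff.mp (hX ha) _).mp hz.1, (Subgroup.mem_normalizer_iff.mp (hY ha) _).mp hz.2⟩

theorem centralizer_singleton_normalizes {A : Subgroup G} (hA : IsElementaryAbelian p A) {a : G} (ha : a ∈ A) :
    A ≤ Subgroup.normalizer ((Subgroup.centralizer ({a} : Set G) : Subgroup G) : Set G) := by
  have h := le_normalizer_centralizer hA (Subgroup.zpowers_le.mpr ha)
  rwa [Subgroup.zpowers_eq_closure, Subgroup.centralizer_closure] at h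

/-- `K` is generated by the centralizers of the subgroups of index at most `p` of `A` above `D`. -/
theorem gen_above {A K : Subgroup G} (hA : IsElementaryAbelian p A) (hK : ¬ p ∣ Nat.card K)
    (hAK : A ≤ Subgroup.normalizer (K : Set G)) :
    ∀ D : Subgroup G, D ≤ A → K ⊓ Subgroup.centralizer (D : Set G) ≤
      ⨆ B : {B : Subgroup G // B ≤ A ∧ B.relIndex A ≤ p}, K ⊓ Subgroup.centralizer ((B : Subgroup G) : Set G) := by
  intro D
  induction hn : Nat.card A - Nat.card D using Nat.strong_induction_on generalizing D with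
  | h n ih =>
    intro hDA
    subst hn
    by_cases hidx : D.relIndex A ≤ p
    · exact le_iSup (fun B : {B : Subgroup G // B ≤ A ∧ B.relIndex A ≤ p} =>
        K ⊓ Subgroup.centralizer ((B : Subgroup G) : Set G)) ⟨D, hDA, hidx⟩
    have hcard : Nat.card D * D.relIndex A = Nat.card A := by
      have h := (D.subgroupOf A).card_mul_index
      rwa [Nat.card_congr (Subgroup.subgroupOfEquivOfLe hDA).toEquiv] at h
    have hp := (Fact.out : p.Prime).one_lt
    have hDlt : Nat.card D * p < Nat.card A := by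
      rw [← hcard]
      exact Nat.mul_lt_mul_of_pos_left (not_le.mp hidx) Nat.card_pos
    obtain ⟨e₁, he₁, he₁D⟩ : ∃ e ∈ A, e ∉ D := by
      by_contra h
      push Not at h
      have h1 := Subgroup.card_le_of_le (show A ≤ D from fun x hx => h x hx)
      have h2 : Nat.card D ≤ Nat.card D * p := Nat.le_mul_of_pos_right _ (by omega)
      omega
    set D₁ := D ⊔ Subgroup.zpowers e₁ with hD₁
    obtain ⟨e₂, he₂, he₂D⟩ : ∃ e ∈ A, e ∉ D₁ := by
      by_contra h
      push Not at h
      have h1 := Subgroup.card_le_of_le (show A ≤ D₁ from fun x hx => h x hx)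
      have h2 := card_sup_zpowers_le hA hDA he₁
      rw [← hD₁] at h2
      exact absurd (h1.trans h2) (not_le.mpr hDlt)
    set E := Subgroup.zpowers e₁ ⊔ Subgroup.zpowers e₂ with hE
    have hEA : E ≤ A := sup_le (Subgroup.zpowers_le.mpr he₁) (Subgroup.zpowers_le.mpr he₂)
    have hED : ∀ e ∈ E, e ∈ D → e = 1 := by
      intro e he heD
      obtain ⟨x, hx, y, hy, rfl⟩ := mem_sup_of_ea hA (Subgroup.zpowers_le.mpr he₁) (Subgroup.zpowers_le.mpr he₂) he
      have hy1 : y = 1 := by
        by_contra hy1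
        refine he₂D ?_
        have hyD : y ∈ D₁ := by
          have : y = x⁻¹ * (x * y) := by group
          rw [this]
          exact mul_mem (Subgroup.mem_sup_right (inv_mem hx)) (Subgroup.mem_sup_left heD)
        have hcy : Subgroup.zpowers y = Subgroup.zpowers e₂ := by
          refine Subgroup.eq_of_le_of_card_ge (Subgroup.zpowers_le.mpr hy) ?_
          rw [Nat.card_zpowers, Nat.card_zpowers, orderOf_eq_prime_of_ea hA (hEA (Subgroup.mem_sup_right hy)) hy1]
          exact Nat.le_of_dvd (Fact.out : p.Prime).pos (orderOf_dvd_of_pow_eq_one (hA.2 e₂ he₂))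
        exact (Subgroup.zpowers_le.mpr hyD) (hcy ▸ Subgroup.mem_zpowers e₂)
      subst hy1
      rw [mul_one] at heD ⊢
      by_contra hx1
      refine he₁D ?_
      have hcx : Subgroup.zpowers x = Subgroup.zpowers e₁ := by
        refine Subgroup.eq_of_le_of_card_ge (Subgroup.zpowers_le.mpr hx) ?_
        rw [Nat.card_zpowers, Nat.card_zpowers, orderOf_eq_prime_of_ea hA (hEA (Subgroup.mem_sup_left hx)) hx1]
        exact Nat.le_of_dvd (Fact.out : p.Prime).pos (orderOf_dvd_of_pow_eq_one (hA.2 e₁ he₁))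
      exact (Subgroup.zpowers_le.mpr heD) (hcx ▸ Subgroup.mem_zpowers e₁)
    have hEcard : p < Nat.card E := by
      have he1 : e₁ ≠ 1 := fun h => he₁D (h ▸ one_mem D)
      have h1 : Subgroup.zpowers e₁ < E :=
        lt_of_le_of_ne le_sup_left (fun h => he₂D (Subgroup.mem_sup_right (h ▸ Subgroup.mem_sup_right
          (Subgroup.mem_zpowers e₂))))
      rw [← orderOf_eq_prime_of_ea hA he₁ he1, ← Nat.card_zpowers]
      rcases lt_or_eq_of_le (Subgroup.card_le_of_le h1.le) with h | h
      · exact h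
      · exact absurd (Subgroup.eq_of_le_of_card_ge h1.le h.ge) h1.ne
    set KD := K ⊓ Subgroup.centralizer (D : Set G) with hKD
    haveI : IsMulCommutative E := (ea_le hA hEA).1
    have hnorm : E ≤ Subgroup.normalizer (KD : Set G) :=
      hEA.trans (inf_normalizes hAK (le_normalizer_centralizer hA hDA))
    have hcop : (Nat.card E).Coprime (Nat.card KD) :=
      (ea_coprime (ea_le hA hEA) hK).coprime_dvd_right (Subgroup.card_dvd_of_le inf_le_left)
    rw [← coprime_generated_by_centralizers (ea_not_cyclic (ea_le hA hEA) hEcard) hnorm hcop]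
    refine iSup₂_le fun e he => ?_
    set D' := D ⊔ Subgroup.zpowers e with hD'
    have hD'A : D' ≤ A := sup_le hDA (Subgroup.zpowers_le.mpr (hEA he.1))
    have hlt : D < D' := lt_of_le_of_ne le_sup_left fun h =>
      he.2 (hED e he.1 (h ▸ Subgroup.mem_sup_right (Subgroup.mem_zpowers e)))
    have hclt : Nat.card D < Nat.card D' := by
      rcases lt_or_eq_of_le (Subgroup.card_le_of_le hlt.le) with h | h
      · exact h
      · exact absurd (Subgroup.eq_of_le_of_card_ge hlt.le h.ge) hlt.ne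
    refine le_trans ?_ (ih _ (by have := Subgroup.card_le_of_le hD'A; omega) D' rfl hD'A)
    refine le_inf (inf_le_left.trans inf_le_left) ?_
    rw [hD', Subgroup.le_centralizer_iff]
    refine sup_le ?_ (Subgroup.zpowers_le.mpr ?_)
    · rw [Subgroup.le_centralizer_iff]; exact inf_le_left.trans inf_le_right
    · intro x hx
      exact Subgroup.mem_centralizer_singleton_iff.mp hx.2

theorem gen_index {A K : Subgroup G} (hA : IsElementaryAbelian p A) (hK : ¬ p ∣ Nat.card K)
    (hAK : A ≤ Subgroup.normalizer (K : Set G)) :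
    K = ⨆ B : {B : Subgroup G // B ≤ A ∧ B.relIndex A ≤ p}, K ⊓ Subgroup.centralizer ((B : Subgroup G) : Set G) := by
  refine le_antisymm (le_trans ?_ (gen_above hA hK hAK ⊥ bot_le)) (iSup_le fun B => inf_le_left)
  refine le_inf le_rfl fun x _ b hb => ?_
  rw [show b = 1 from hb]
  simp

/-- A subgroup of index `p` of a nontrivial elementary abelian group containing a given proper subgroup. -/
theorem exists_hyperplane {A : Subgroup G} (hA : IsElementaryAbelian p A) {B : Subgroup G} (hB : B ≤ A)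
    (hne : B ≠ A) : ∃ D : Subgroup G, B ≤ D ∧ D ≤ A ∧ D.relIndex A = p := by
  obtain ⟨D, ⟨hBD, hDA⟩, hmax⟩ := (Set.toFinite {D : Subgroup G | B ≤ D ∧ D < A}).exists_maximal
    ⟨B, le_rfl, lt_of_le_of_ne hB hne⟩
  refine ⟨D, hBD, hDA.le, ?_⟩
  obtain ⟨e, he, heD⟩ := SetLike.exists_of_lt hDA
  have hsup : D ⊔ Subgroup.zpowers e = A := by
    refine (sup_le hDA.le (Subgroup.zpowers_le.mpr he)).eq_or_lt.resolve_right fun h => heD ?_
    exact (hmax ⟨hBD.trans le_sup_left, h⟩ le_sup_left) (Subgroup.mem_sup_right (Subgroup.mem_zpowers e))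
  have hcard : Nat.card D * D.relIndex A = Nat.card A := by
    have h := (D.subgroupOf A).card_mul_index
    rwa [Nat.card_congr (Subgroup.subgroupOfEquivOfLe hDA.le).toEquiv] at h
  have h2 := card_sup_zpowers_le hA hDA.le he
  rw [hsup, ← hcard] at h2
  have hle : D.relIndex A ≤ p := Nat.le_of_mul_le_mul_left h2 Nat.card_pos
  have hdvd : D.relIndex A ∣ Nat.card A := ⟨Nat.card D, by rw [← hcard, mul_comm]⟩
  obtain ⟨n, hn⟩ := IsPGroup.iff_card.mp (isPGroup_ea hA)
  rw [hn] at hdvd
  obtain ⟨j, -, hj⟩ := (Nat.dvd_prime_pow (Fact.out : p.Prime)).mp hdvd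
  have hj0 : j ≠ 0 := fun h => hDA.ne (le_antisymm hDA.le (Subgroup.relIndex_eq_one.mp (by rw [hj, h, pow_zero])))
  have hj1 : j ≤ 1 := by
    by_contra hj1
    have : p ^ 2 ≤ p := (Nat.pow_le_pow_right (Fact.out : p.Prime).pos (by omega)).trans (hj ▸ hle)
    nlinarith [(Fact.out : p.Prime).one_lt]
  rw [hj, show j = 1 by omega, pow_one]

end CfsgLib.Signalizer
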