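import Cfsg.Agent.Lib.Signalizer.Coprime
import Cfsg.Agent.Lib.Comp.PCompMore
import Cfsg.Prelude.Def_Balance

/-!
Solvable signalizer functors: the family, the transitivity theorem and its consequences.
-/

set_option autoImplicit false
set_option linter.unusedSectionVars false

namespace CfsgLib.Signalizer

open Cfsg Subgroup
open scoped commutatorElement

universe u
variable {G : Type u} [Group G] [Finite G] {p : ℕ} [Fact p.Prime] {A : Subgroup G} {θ : G → Subgroup G}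

theorem inv_to_normalizer {A U : Subgroup G} (h : ∀ b ∈ A, ∀ u ∈ U, b * u * b⁻¹ ∈ U) :
    A ≤ Subgroup.normalizer (U : Set G) :=
  fun b hb => Comp.mem_normalizer_of_maps (h b hb)

theorem inv_of_normalizer {A U : Subgroup G} (h : A ≤ Subgroup.normalizer (U : Set G)) :
    ∀ b ∈ A, ∀ u ∈ U, b * u * b⁻¹ ∈ U :=
  fun _ hb u hu => (Subgroup.mem_normalizer_iff.mp (h hb) u).mp hu

theorem theta_normalized (hθ : IsSolvableSignalizerFunctor p A θ) {a : G} (ha : a ∈ A) (ha1 : a ≠ 1) :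
    A ≤ Subgroup.normalizer (θ a : Set G) :=
  inv_to_normalizer (hθ.1.2.2.1 a ha ha1)

theorem family_sub (hθ : IsSolvableSignalizerFunctor p A θ) {X U : Subgroup G} (hX : X ∈ signalizerFamily p A θ)
    (hle : U ≤ X) (hinv : A ≤ Subgroup.normalizer (U : Set G)) : U ∈ signalizerFamily p A θ := by
  obtain ⟨hs, hp, -, hc⟩ := hX
  exact ⟨Group.isSolvable_of_isSolvable_injective (f := Subgroup.inclusion hle) (Subgroup.inclusion_injective _),
    fun h => hp (h.trans (Subgroup.card_dvd_of_le hle)), inv_of_normalizer hinv,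
    fun a ha ha1 => (inf_le_inf_right _ hle).trans (hc a ha ha1)⟩

theorem theta_mem (hθ : IsSolvableSignalizerFunctor p A θ) {a : G} (ha : a ∈ A) (ha1 : a ≠ 1) :
    θ a ∈ signalizerFamily p A θ :=
  ⟨hθ.2 a ha ha1, hθ.1.2.1 a ha ha1, hθ.1.2.2.1 a ha ha1, fun b hb hb1 => hθ.1.2.2.2 a ha ha1 b hb hb1⟩

theorem isSolvable_sup' {X Y : Subgroup G} (hX : Group.IsSolvable X) (hY : Group.IsSolvable Y)
    (hn : Y ≤ Subgroup.normalizer (X : Set G)) : Group.IsSolvable ↥(X ⊔ Y) := by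
  set M := X ⊔ Y with hM
  haveI : (X.subgroupOf M).Normal :=
    (Subgroup.normal_subgroupOf_iff_le_normalizer le_sup_left).mpr (sup_le Subgroup.le_normalizer hn)
  refine (Group.isSolvable_iff_subgroup_quotient (X.subgroupOf M)).mpr
    ⟨Group.isSolvable_of_isSolvable_injective (f := (Subgroup.subgroupOfEquivOfLe (le_sup_left : X ≤ M)).toMonoidHom)
      (Subgroup.subgroupOfEquivOfLe (le_sup_left : X ≤ M)).injective, ?_⟩
  refine Group.isSolvable_of_surjective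
    (f := (QuotientGroup.mk' (X.subgroupOf M)).comp (Subgroup.inclusion (le_sup_right : Y ≤ M))) ?_
  intro z
  obtain ⟨⟨m, hm⟩, rfl⟩ := QuotientGroup.mk'_surjective _ z
  obtain ⟨x, hx, y, hy, e⟩ := mem_sup_of_le_normalizer hn (show m ∈ X ⊔ Y from hm)
  refine ⟨⟨y, hy⟩, (QuotientGroup.mk'_eq_mk' _).mpr ⟨⟨y⁻¹ * m, mul_mem (inv_mem (Subgroup.mem_sup_right hy)) hm⟩,
    ?_, Subtype.ext (by simp)⟩⟩
  show y⁻¹ * m ∈ X
  rw [← e, ← mul_assoc]
  exact (Subgroup.mem_normalizer_iff''.mp (hn hy) x).mp hx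

theorem card_sup_dvd {X Y : Subgroup G} (hn : Y ≤ Subgroup.normalizer (X : Set G)) :
    Nat.card ↥(X ⊔ Y) ∣ Nat.card Y * Nat.card X := by
  set M := X ⊔ Y with hM
  haveI : (X.subgroupOf M).Normal :=
    (Subgroup.normal_subgroupOf_iff_le_normalizer le_sup_left).mpr (sup_le Subgroup.le_normalizer hn)
  have h := card_sup_dvd_mul (Y.subgroupOf M) (X.subgroupOf M)
  have e : Y.subgroupOf M ⊔ X.subgroupOf M = ⊤ := by
    rw [← Subgroup.subgroupOf_sup le_sup_right le_sup_left, sup_comm, Subgroup.subgroupOf_self]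
  rwa [e, Subgroup.card_top, Nat.card_congr (Subgroup.subgroupOfEquivOfLe (le_sup_right : Y ≤ M)).toEquiv,
    Nat.card_congr (Subgroup.subgroupOfEquivOfLe (le_sup_left : X ≤ M)).toEquiv] at h

theorem sup_mem (hA : IsElementaryAbelian p A) (hθ : IsSolvableSignalizerFunctor p A θ) {X Y : Subgroup G}
    (hX : X ∈ signalizerFamily p A θ) (hY : Y ∈ signalizerFamily p A θ)
    (hn : Y ≤ Subgroup.normalizer (X : Set G)) : X ⊔ Y ∈ signalizerFamily p A θ := by
  have hXA := inv_to_normalizer hX.2.2.1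
  have hYA := inv_to_normalizer hY.2.2.1
  refine ⟨isSolvable_sup' hX.1 hY.1 hn, fun h => ?_, fun b hb u hu => ?_, fun a ha ha1 => ?_⟩
  · rcases (Fact.out : p.Prime).dvd_mul.mp (h.trans (card_sup_dvd hn)) with h | h
    · exact hY.2.1 h
    · exact hX.2.1 h
  · have hle : X ⊔ Y ≤ (X ⊔ Y).comap (MulAut.conj b).toMonoidHom :=
      sup_le (fun x hx => Subgroup.mem_sup_left (hX.2.2.1 b hb x hx))
        (fun y hy => Subgroup.mem_sup_right (hY.2.2.1 b hb y hy))
    exact hle hu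
  · rintro z ⟨hz, hza⟩
    obtain ⟨x, hx, y, hy, rfl⟩ := mem_sup_of_le_normalizer hn hz
    have hza' : ∀ b ∈ Subgroup.zpowers a, b * (x * y) = x * y * b := by
      intro b hb
      obtain ⟨i, rfl⟩ := Subgroup.mem_zpowers_iff.mp hb
      exact ((show Commute a (x * y) from (Subgroup.mem_centralizer_singleton_iff.mp hza).symm).zpow_left i).eq
    have hAz : Subgroup.zpowers a ≤ A := Subgroup.zpowers_le.mpr ha
    have hfix : ∀ b ∈ Subgroup.zpowers a, b * y * b⁻¹ * y⁻¹ ∈ X ⊓ Y := by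
      intro b hb
      have hY' := hY.2.2.1 b (hAz hb) y hy
      refine Subgroup.mem_inf.mpr ⟨?_, mul_mem hY' (inv_mem hy)⟩
      have h1 : b * y * b⁻¹ * y⁻¹ = (b * x * b⁻¹)⁻¹ * x := by
        have h := hza' b hb
        calc b * y * b⁻¹ * y⁻¹ = (b * x * b⁻¹)⁻¹ * (b * (x * y)) * b⁻¹ * y⁻¹ := by group
          _ = (b * x * b⁻¹)⁻¹ * (x * y * b) * b⁻¹ * y⁻¹ := by rw [h]
          _ = _ := by group
      rw [h1]
      exact mul_mem (inv_mem (hX.2.2.1 b (hAz hb) x hx)) hx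
    have hcop : (Nat.card (Subgroup.zpowers a)).Coprime (Nat.card Y) :=
      ea_coprime (ea_le hA hAz) hY.2.1
    obtain ⟨c, hc, hyc⟩ := coprime_fixed_quotient (hAz.trans hYA) hcop (Or.inl (ea_solvable (ea_le hA hAz)))
      inf_le_right (fun g hg => Comp.mem_normalizer_of_maps fun w hw =>
        Subgroup.mem_inf.mpr ⟨(Subgroup.mem_normalizer_iff.mp (hn hg) w).mp hw.1, mul_mem (mul_mem hg hw.2) (inv_mem hg)⟩)
      (hAz.trans (inf_normalizes hXA hYA)) hy hfix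
    have hca : c ∈ Subgroup.centralizer ({a} : Set G) :=
      Subgroup.mem_centralizer_singleton_iff.mpr (hc.2 a (Subgroup.mem_zpowers a)).symm
    have hxX : x * y * c⁻¹ ∈ X := by
      have h1 : (y⁻¹ * c)⁻¹ ∈ X := inv_mem hyc.1
      have h2 : c * (y⁻¹ * c)⁻¹ * c⁻¹ ∈ X := (Subgroup.mem_normalizer_iff.mp (hn hc.1) _).mp h1
      rw [show x * y * c⁻¹ = x * (c * (y⁻¹ * c)⁻¹ * c⁻¹) by group]
      exact mul_mem hx h2
    have hxa : x * y * c⁻¹ ∈ Subgroup.centralizer ({a} : Set G) := mul_mem hza (inv_mem hca)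
    rw [show x * y = x * y * c⁻¹ * c by group]
    exact mul_mem (hX.2.2.2 a ha ha1 (Subgroup.mem_inf.mpr ⟨hxX, hxa⟩))
      (hY.2.2.2 a ha ha1 (Subgroup.mem_inf.mpr ⟨hc.1, hca⟩))

theorem quotient_balance (hA : IsElementaryAbelian p A) (hθ : IsSolvableSignalizerFunctor p A θ)
    (N : Subgroup G) [N.Normal] {a b : G} (ha : a ∈ A) (ha1 : a ≠ 1) (hb : b ∈ A) (hb1 : b ≠ 1) :
    (θ a).map (QuotientGroup.mk' N) ⊓ Subgroup.centralizer {QuotientGroup.mk' N b} ≤
      (θ b).map (QuotientGroup.mk' N) := by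
  rintro _ ⟨⟨x, hx, rfl⟩, hc⟩
  have hbA : Subgroup.zpowers b ≤ A := Subgroup.zpowers_le.mpr hb
  have hθA := theta_normalized hθ ha ha1
  have hc' : Commute (QuotientGroup.mk' N x) (QuotientGroup.mk' N b) := Subgroup.mem_centralizer_singleton_iff.mp hc
  obtain ⟨c, hc, hxc⟩ := coprime_fixed_quotient (N := θ a ⊓ N) (hbA.trans hθA)
    (ea_coprime (ea_le hA hbA) (hθ.1.2.1 a ha ha1)) (Or.inl (ea_solvable (ea_le hA hbA))) inf_le_left
    (fun g hg => Comp.mem_normalizer_of_maps fun w hw =>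
      Subgroup.mem_inf.mpr ⟨mul_mem (mul_mem hg hw.1) (inv_mem hg), (inferInstance : N.Normal).conj_mem w hw.2 g⟩)
    (hbA.trans (inf_normalizes hθA (fun g _ => Comp.mem_normalizer_of_maps fun w hw =>
      (inferInstance : N.Normal).conj_mem w hw g))) hx
    (fun d hd => by
      refine Subgroup.mem_inf.mpr ⟨mul_mem (hθ.1.2.2.1 a ha ha1 d (hbA hd) x hx) (inv_mem hx), ?_⟩
      obtain ⟨i, rfl⟩ := Subgroup.mem_zpowers_iff.mp hd
      rw [← QuotientGroup.eq_one_iff, ← QuotientGroup.mk'_apply, map_mul, map_mul, map_mul, map_inv, map_inv,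
        map_zpow, ← (hc'.zpow_right i).eq]
      group)
  refine ⟨c, hθ.1.2.2.2 a ha ha1 b hb hb1 (Subgroup.mem_inf.mpr ⟨hc.1, Subgroup.mem_centralizer_singleton_iff.mpr
    (hc.2 b (Subgroup.mem_zpowers b)).symm⟩), ((QuotientGroup.mk'_eq_mk' N).mpr ⟨x⁻¹ * c, hxc.2, ?_⟩).symm⟩
  rw [mul_inv_cancel_left]

theorem pPrime_functor (hA : IsElementaryAbelian p A)
    (hsolv : ∀ a ∈ A, a ≠ 1 → Group.IsSolvable ↥(Subgroup.centralizer ({a} : Set G))) :
    IsSolvableSignalizerFunctor p A (fun a => centralizerPPrimeCore p a) := by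
  have hp := (Fact.out : p.Prime)
  have hnd : ∀ a : G, ¬ p ∣ Nat.card (centralizerPPrimeCore p a) := fun a h => by
    rw [centralizerPPrimeCore, Subgroup.card_map_of_injective (Subgroup.subtype_injective _)] at h
    exact not_dvd_card_pPrimeCore hp h
  have hnorm : ∀ a : G, Subgroup.centralizer ({a} : Set G) ≤
      Subgroup.normalizer (centralizerPPrimeCore p a : Set G) := fun a g hg =>
    Comp.mem_normalizer_of_maps (by
      rintro _ ⟨w, hw, rfl⟩
      exact ⟨⟨g, hg⟩ * w * ⟨g, hg⟩⁻¹, (inferInstance : (pPrimeCore p _).Normal).conj_mem w hw _, rfl⟩)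
  refine ⟨⟨fun a _ _ => Subgroup.map_subtype_le _, fun a _ _ => hnd a, fun a ha _ b hb x hx => ?_,
    fun a ha ha1 b hb hb1 => ?_⟩, fun a ha ha1 => ?_⟩
  · exact (Subgroup.mem_normalizer_iff.mp (hnorm a (Subgroup.mem_centralizer_singleton_iff.mpr
      (ea_comm hA hb ha))) x).mp hx
  · set H := Subgroup.centralizer ({b} : Set G) with hH
    haveI : Group.IsSolvable ↥H := hsolv b hb hb1
    have haH : a ∈ H := Subgroup.mem_centralizer_singleton_iff.mpr (ea_comm hA ha hb)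
    set P := Subgroup.zpowers (⟨a, haH⟩ : H) with hP
    have hPp : IsPGroup p P := by
      refine IsPGroup.of_card_dvd_pow (n := 1) ?_
      rw [Nat.card_zpowers, Subgroup.orderOf_mk, pow_one]
      exact orderOf_dvd_of_pow_eq_one (hA.2 a ha)
    have hL : pLayer p ↥H = ⊥ := Comp.pLayer_eq_bot_iff.mpr layer_eq_bot_of_isSolvable
    have key := (Comp.pLayer_normalizer hL P hPp).2
    set CH := Subgroup.centralizer (P : Set H) with hCH
    set D : Subgroup H := (centralizerPPrimeCore p a).subgroupOf H with hD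
    have hDC : D ≤ CH := fun x hx q hq => by
      obtain ⟨i, rfl⟩ := Subgroup.mem_zpowers_iff.mp (SetLike.mem_coe.mp hq)
      exact Subtype.ext (by
        push_cast
        exact ((show Commute a (x : G) from
          (Subgroup.mem_centralizer_singleton_iff.mp (Subgroup.map_subtype_le _ hx)).symm).zpow_left i).eq)
    have hDn : CH ≤ Subgroup.normalizer (D : Set H) := fun g hg => Comp.mem_normalizer_of_maps fun x hx =>
      (Subgroup.mem_normalizer_iff.mp (hnorm a (Subgroup.mem_centralizer_singleton_iff.mpr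
        (congrArg Subtype.val (hg ⟨a, haH⟩ (Subgroup.mem_zpowers _))).symm)) (x : G)).mp hx
    have hDp : (Nat.card D).Coprime p := by
      have h1 : Nat.card D ∣ Nat.card (centralizerPPrimeCore p a) :=
        Subgroup.card_dvd_of_injective (H.subtype.subgroupComap (centralizerPPrimeCore p a))
          (fun u v e => Subtype.ext (Subtype.ext (congrArg (fun z : centralizerPPrimeCore p a => (z : G)) e)))
      exact Nat.Coprime.coprime_dvd_left h1 (hp.coprime_iff_not_dvd.mpr (hnd a)).symm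
    haveI : (D.subgroupOf CH).Normal := (Subgroup.normal_subgroupOf_iff_le_normalizer hDC).mpr hDn
    set N := Subgroup.normalizer (P : Set H) with hN
    have hCN : CH ≤ N := Comp.centralizer_le_normalizer' P
    haveI : (CH.subgroupOf N).Normal := centralizer_subgroupOf_normalizer_normal P
    have hD1 : (D.subgroupOf N).IsSubnormal := by
      refine Subgroup.IsSubnormal.step _ (CH.subgroupOf N) (fun x hx => hDC hx)
        (Subgroup.Normal.isSubnormal inferInstance) ?_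
      refine (Subgroup.normal_subgroupOf_iff_le_normalizer
        (show D.subgroupOf N ≤ CH.subgroupOf N from fun x hx => hDC hx)).mpr fun g hg => ?_
      exact Comp.mem_normalizer_of_maps fun x hx => (Subgroup.mem_normalizer_iff.mp (hDn hg) (x : H)).mp hx
    have hD2 : D.subgroupOf N ≤ pPrimeCore p ↥N := Comp.subnormal_coprime_le hD1 (by
      rwa [Nat.card_congr (Subgroup.subgroupOfEquivOfLe (hDC.trans hCN)).toEquiv])
    rintro x ⟨hxa, hxb⟩
    have hxD : (⟨x, hxb⟩ : H) ∈ D := hxa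
    exact ⟨⟨x, hxb⟩, key ⟨⟨⟨x, hxb⟩, hCN (hDC hxD)⟩, hD2 hxD, rfl⟩, rfl⟩
  · haveI := hsolv a ha ha1
    exact Group.isSolvable_of_isSolvable_injective
      (f := Subgroup.inclusion (show centralizerPPrimeCore p a ≤ _ from Subgroup.map_subtype_le _))
      (Subgroup.inclusion_injective _)

theorem exists_centralizing (hA : IsElementaryAbelian p A) (hA3 : p ^ 3 ≤ Nat.card ↥A) {Q₁ Q₂ : Subgroup G}
    {q : ℕ} [Fact q.Prime] (h₁ : IsPGroup q Q₁) (h₂ : IsPGroup q Q₂) (hp₁ : ¬ p ∣ Nat.card Q₁)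
    (hp₂ : ¬ p ∣ Nat.card Q₂) (hA₁ : A ≤ Subgroup.normalizer (Q₁ : Set G)) (hA₂ : A ≤ Subgroup.normalizer (Q₂ : Set G))
    (hD₁ : Q₁ ⊓ Q₂ ≠ Q₁) (hD₂ : Q₁ ⊓ Q₂ ≠ Q₂) :
    ∃ a ∈ A, a ≠ 1 ∧
      ¬ (Subgroup.normalizer ((Q₁ ⊓ Q₂ : Subgroup G) : Set G) ⊓ Q₁ ⊓ Subgroup.centralizer {a} ≤ Q₁ ⊓ Q₂) ∧
      ¬ (Subgroup.normalizer ((Q₁ ⊓ Q₂ : Subgroup G) : Set G) ⊓ Q₂ ⊓ Subgroup.centralizer {a} ≤ Q₁ ⊓ Q₂) := by
  set D := Q₁ ⊓ Q₂ with hD
  have hAD : A ≤ Subgroup.normalizer (Subgroup.normalizer (D : Set G) : Set G) := fun g hg => by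
    have h := inf_normalizes hA₁ hA₂ hg
    exact Subgroup.le_normalizer h
  have key : ∀ Q : Subgroup G, IsPGroup q Q → ¬ p ∣ Nat.card Q → A ≤ Subgroup.normalizer (Q : Set G) → D ≤ Q →
      D ≠ Q → ∃ B : Subgroup G, B ≤ A ∧ B.relIndex A ≤ p ∧
        ¬ (Subgroup.normalizer (D : Set G) ⊓ Q ⊓ Subgroup.centralizer (B : Set G) ≤ D) := by
    intro Q hQ hpQ hAQ hDQ hne
    set N := Subgroup.normalizer (D : Set G) ⊓ Q with hN
    have hND : ¬ N ≤ D := by
      intro hle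
      haveI : Group.IsNilpotent Q := hQ.isNilpotent
      have hlt : D.subgroupOf Q < ⊤ :=
        lt_top_iff_ne_top.mpr fun e => hne (le_antisymm hDQ (Subgroup.subgroupOf_eq_top.mp e))
      obtain ⟨x, hxN, hxD⟩ := SetLike.exists_of_lt (normalizerCondition_of_isNilpotent _ hlt)
      refine hxD (hle (Subgroup.mem_inf.mpr ⟨Comp.mem_normalizer_of_maps fun d hd => ?_, x.2⟩))
      exact (Subgroup.mem_normalizer_iff.mp hxN ⟨d, hDQ hd⟩).mp hd
    by_contra h
    push Not at h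
    refine hND ?_
    rw [gen_index (K := N) hA (fun h' => hpQ (h'.trans (Subgroup.card_dvd_of_le inf_le_right))) (inf_normalizes hAD hAQ)]
    exact iSup_le fun B => h B B.2.1 B.2.2
  obtain ⟨B₁, hB₁, hi₁, hn₁⟩ := key Q₁ h₁ hp₁ hA₁ inf_le_left hD₁
  obtain ⟨B₂, hB₂, hi₂, hn₂⟩ := key Q₂ h₂ hp₂ hA₂ inf_le_right hD₂
  have hne : B₁ ⊓ B₂ ≠ ⊥ := by
    intro hbot
    have h1 : (B₁ ⊓ B₂).relIndex A ≤ B₁.relIndex A * B₂.relIndex A := Subgroup.relIndex_inf_le
    rw [hbot, Subgroup.relIndex_bot_left] at h1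
    have h2 := hA3.trans (h1.trans (Nat.mul_le_mul hi₁ hi₂))
    have h3 := (Fact.out : p.Prime).one_lt
    have : p ^ 3 = p * p * p := by ring
    nlinarith
  obtain ⟨⟨a, ha⟩, ha'⟩ := Subgroup.ne_bot_iff_exists_ne_one.mp hne
  have ha1 : a ≠ 1 := fun e => ha' (Subtype.ext e)
  refine ⟨a, hB₁ ha.1, ha1, fun h => hn₁ ((inf_le_inf_left _ ?_).trans h), fun h => hn₂ ((inf_le_inf_left _ ?_).trans h)⟩
  · intro x hx; exact Subgroup.mem_centralizer_singleton_iff.mpr (hx a ha.1).symm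
  · intro x hx; exact Subgroup.mem_centralizer_singleton_iff.mpr (hx a ha.2).symm

/-- Maximal `q`-members of the family. -/
def IsMaxQ (p : ℕ) (A : Subgroup G) (θ : G → Subgroup G) (q : ℕ) (Q : Subgroup G) : Prop :=
  Q ∈ signalizerFamily p A θ ∧ IsPGroup q Q ∧ ∀ R ∈ signalizerFamily p A θ, IsPGroup q R → Q ≤ R → R = Q

theorem exists_maxQ {q : ℕ} {R : Subgroup G} (hR : R ∈ signalizerFamily p A θ) (hq : IsPGroup q R) :
    ∃ Q, IsMaxQ p A θ q Q ∧ R ≤ Q := by
  obtain ⟨Q, ⟨hQ, hQq, hRQ⟩, hmax⟩ := (Set.toFinite {Q : Subgroup G |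
    Q ∈ signalizerFamily p A θ ∧ IsPGroup q Q ∧ R ≤ Q}).exists_maximal ⟨R, hR, hq, le_rfl⟩
  exact ⟨Q, ⟨hQ, hQq, fun S hS hSq hQS => le_antisymm (hmax ⟨hS, hSq, hRQ.trans hQS⟩ hQS) hQS⟩, hRQ⟩

theorem inf_theta_centralizes (hA : IsElementaryAbelian p A) (hθ : IsSolvableSignalizerFunctor p A θ)
    (hA1 : A ≠ ⊥) : signalizerInf A θ ≤ Subgroup.centralizer (A : Set G) := by
  intro c hc a ha
  rcases eq_or_ne a 1 with rfl | ha1
  · simp
  · exact (Subgroup.mem_centralizer_singleton_iff.mp (hθ.1.1 a ha ha1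
      ((iInf_le (fun x : {x : G // x ∈ A ∧ x ≠ 1} => θ (x : G)) ⟨a, ha, ha1⟩) hc))).symm

theorem conj_mem_family (hA : IsElementaryAbelian p A) (hθ : IsSolvableSignalizerFunctor p A θ) (hA1 : A ≠ ⊥)
    {c : G} (hc : c ∈ signalizerInf A θ) {X : Subgroup G} (hX : X ∈ signalizerFamily p A θ) :
    X.map (MulAut.conj c).toMonoidHom ∈ signalizerFamily p A θ := by
  have hcA := inf_theta_centralizes hA hθ hA1 hc
  haveI := hX.1
  refine ⟨Group.isSolvable_of_surjective (f := (MulAut.conj c).toMonoidHom.subgroupMap X)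
    (MonoidHom.subgroupMap_surjective _ _), ?_, ?_, ?_⟩
  · rw [Subgroup.card_map_of_injective (MulAut.conj c).injective]; exact hX.2.1
  · rintro b hb _ ⟨x, hx, rfl⟩
    refine ⟨b * x * b⁻¹, hX.2.2.1 b hb x hx, ?_⟩
    have e : b * c = c * b := hcA b hb
    simp only [MulEquiv.coe_toMonoidHom, MulAut.conj_apply]
    calc c * (b * x * b⁻¹) * c⁻¹ = (c * b) * x * (c * b)⁻¹ := by group
      _ = (b * c) * x * (b * c)⁻¹ := by rw [e]
      _ = b * (c * x * c⁻¹) * b⁻¹ := by group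
  · rintro a ha ha1 _ ⟨⟨x, hx, rfl⟩, hxa⟩
    have hcθ : c ∈ θ a := (iInf_le (fun x : {x : G // x ∈ A ∧ x ≠ 1} => θ (x : G)) ⟨a, ha, ha1⟩) hc
    have hca : c ∈ Subgroup.centralizer ({a} : Set G) := hθ.1.1 a ha ha1 hcθ
    simp only [SetLike.mem_coe, MulEquiv.coe_toMonoidHom, MulAut.conj_apply] at hxa ⊢
    have hx' : x ∈ Subgroup.centralizer ({a} : Set G) := by
      have := mul_mem (mul_mem (inv_mem hca) hxa) hca
      simpa [mul_assoc] using this
    exact mul_mem (mul_mem hcθ (hX.2.2.2 a ha ha1 (Subgroup.mem_inf.mpr ⟨hx, hx'⟩))) (inv_mem hcθ)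

theorem map_conj_conj (c d : G) (X : Subgroup G) :
    (X.map (MulAut.conj c).toMonoidHom).map (MulAut.conj d).toMonoidHom = X.map (MulAut.conj (d * c)).toMonoidHom := by
  rw [Subgroup.map_map]
  congr 1
  ext x
  simp [mul_assoc]

theorem map_conj_one (X : Subgroup G) : X.map (MulAut.conj (1 : G)).toMonoidHom = X := by
  rw [map_one]
  exact Subgroup.map_id X

theorem map_conj_inv {c : G} {X Y : Subgroup G} (h : X.map (MulAut.conj c).toMonoidHom = Y) :
    Y.map (MulAut.conj c⁻¹).toMonoidHom = X := by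
  rw [← h, map_conj_conj, inv_mul_cancel, map_conj_one]

theorem maxQ_conj (hA : IsElementaryAbelian p A) (hθ : IsSolvableSignalizerFunctor p A θ) (hA1 : A ≠ ⊥)
    {c : G} (hc : c ∈ signalizerInf A θ) {q : ℕ} {Q : Subgroup G} (hQ : IsMaxQ p A θ q Q) :
    IsMaxQ p A θ q (Q.map (MulAut.conj c).toMonoidHom) := by
  refine ⟨conj_mem_family hA hθ hA1 hc hQ.1, hQ.2.1.map _, fun R hR hRq hle => ?_⟩
  have h1 : Q ≤ R.map (MulAut.conj c⁻¹).toMonoidHom := by
    have h2 := Subgroup.map_mono (f := (MulAut.conj c⁻¹).toMonoidHom) hle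
    rwa [map_conj_conj, inv_mul_cancel, map_conj_one] at h2
  have h2 := hQ.2.2 _ (conj_mem_family hA hθ hA1 (inv_mem hc) hR) (hRq.map _) h1
  rw [← h2, map_conj_conj, mul_inv_cancel, map_conj_one]

theorem ea_ne_bot {A : Subgroup G} (hA3 : p ^ 3 ≤ Nat.card ↥A) : A ≠ ⊥ := fun h => by
  rw [h, Subgroup.card_bot] at hA3
  exact absurd hA3 (not_le.mpr (Nat.one_lt_pow (by norm_num) (Fact.out : p.Prime).one_lt))

/-- The transitivity theorem. -/
theorem transitivity (hA : IsElementaryAbelian p A) (hA3 : p ^ 3 ≤ Nat.card ↥A)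
    (hθ : IsSolvableSignalizerFunctor p A θ) {q : ℕ} [Fact q.Prime] :
    ∀ Q₁ Q₂ : Subgroup G, IsMaxQ p A θ q Q₁ → IsMaxQ p A θ q Q₂ →
      ∃ c ∈ signalizerInf A θ, Q₁.map (MulAut.conj c).toMonoidHom = Q₂ := by
  have hA1 := ea_ne_bot (p := p) hA3
  suffices key : ∀ n, ∀ Q₁ Q₂ : Subgroup G, Nat.card G - Nat.card ↥(Q₁ ⊓ Q₂) = n → IsMaxQ p A θ q Q₁ →
      IsMaxQ p A θ q Q₂ → ∃ c ∈ signalizerInf A θ, Q₁.map (MulAut.conj c).toMonoidHom = Q₂ from
    fun Q₁ Q₂ h1 h2 => key _ Q₁ Q₂ rfl h1 h2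
  intro n
  induction n using Nat.strong_induction_on with
  | _ n ih =>
    intro Q₁ Q₂ hn h₁ h₂
    subst hn
    by_cases heq : Q₁ = Q₂
    · exact ⟨1, one_mem _, by rw [map_conj_one, heq]⟩
    set D := Q₁ ⊓ Q₂ with hD
    have hD₁ : D ≠ Q₁ := fun e => heq (h₁.2.2 Q₂ h₂.1 h₂.2.1 (e ▸ inf_le_right)).symm
    have hD₂ : D ≠ Q₂ := fun e => heq (h₂.2.2 Q₁ h₁.1 h₁.2.1 (e ▸ inf_le_left))
    have hA₁ := inv_to_normalizer h₁.1.2.2.1
    have hA₂ := inv_to_normalizer h₂.1.2.2.1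
    obtain ⟨a, ha, ha1, hn₁, hn₂⟩ := exists_centralizing hA hA3 h₁.2.1 h₂.2.1 h₁.1.2.1 h₂.1.2.1 hA₁ hA₂ hD₁ hD₂
    have hDA := inf_normalizes hA₁ hA₂
    have hAD : A ≤ Subgroup.normalizer (Subgroup.normalizer (D : Set G) : Set G) := fun g hg =>
      Subgroup.le_normalizer (hDA hg)
    set H := θ a ⊓ Subgroup.normalizer (D : Set G) with hH
    have hHA : A ≤ Subgroup.normalizer (H : Set G) := inf_normalizes (theta_normalized hθ ha ha1) hAD
    have hHmem := family_sub hθ (theta_mem hθ ha ha1) (inf_le_left : H ≤ θ a) hHA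
    set M := D ⊔ H with hM
    have hMmem : M ∈ signalizerFamily p A θ :=
      sup_mem hA hθ (family_sub hθ h₁.1 inf_le_left hDA) hHmem inf_le_right
    have hMA := inv_to_normalizer hMmem.2.2.1
    -- invariant Sylow subgroups above the two pieces
    have step : ∀ Q, IsMaxQ p A θ q Q → D ≤ Q → A ≤ Subgroup.normalizer (Q : Set G) →
        ¬ (Subgroup.normalizer (D : Set G) ⊓ Q ⊓ Subgroup.centralizer {a} ≤ D) →
        ∃ S : Sylow q M, A ≤ Subgroup.normalizer ((S : Subgroup M).map M.subtype : Set G) ∧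
          D < Q ⊓ (S : Subgroup M).map M.subtype := by
      intro Q hQ hDQ hAQ hnot
      set R := Subgroup.normalizer (D : Set G) ⊓ Q ⊓ Subgroup.centralizer {a} with hR
      have hRθ : R ≤ θ a := (inf_le_inf_right _ inf_le_right).trans (hQ.1.2.2.2 a ha ha1)
      have hRH : R ≤ H := le_inf hRθ (inf_le_left.trans inf_le_left)
      have hU : D ⊔ R ≤ Q := sup_le hDQ (inf_le_left.trans inf_le_right)
      have hRA : A ≤ Subgroup.normalizer (R : Set G) :=
        inf_normalizes (inf_normalizes hAD hAQ) (centralizer_singleton_normalizes hA ha)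
      have hUA : A ≤ Subgroup.normalizer ((D ⊔ R : Subgroup G) : Set G) := fun g hg =>
        Comp.mem_normalizer_of_maps fun x hx => by
          have hle : D ⊔ R ≤ (D ⊔ R).comap (MulAut.conj g).toMonoidHom :=
            sup_le (fun d hd => Subgroup.mem_sup_left ((Subgroup.mem_normalizer_iff.mp (hDA hg) d).mp hd))
              (fun r hr => Subgroup.mem_sup_right ((Subgroup.mem_normalizer_iff.mp (hRA hg) r).mp hr))
          exact hle hx
      obtain ⟨S, hS, hSA⟩ := coprime_le_invariant_sylow hMA (ea_coprime hA hMmem.2.1) (Or.inl (ea_solvable hA))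
        (sup_le_sup le_rfl hRH : D ⊔ R ≤ M) (hQ.2.1.to_le hU) hUA
      refine ⟨S, hSA, lt_of_lt_of_le (lt_of_le_of_ne le_sup_left fun e => hnot ?_) (le_inf hU hS)⟩
      exact le_sup_right.trans e.ge
    obtain ⟨S₁, hS₁A, hlt₁⟩ := step Q₁ h₁ inf_le_left hA₁ hn₁
    obtain ⟨S₂, hS₂A, hlt₂⟩ := step Q₂ h₂ inf_le_right hA₂ hn₂
    obtain ⟨c, hcA, hc⟩ := coprime_invariant_sylow_conj hMA (ea_coprime hA hMmem.2.1) (Or.inl (ea_solvable hA))
      S₁ S₂ hS₁A hS₂A
    have hcinf : (c : G) ∈ signalizerInf A θ := by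
      refine Subgroup.mem_iInf.mpr fun x => ?_
      exact hMmem.2.2.2 x x.2.1 x.2.2 (Subgroup.mem_inf.mpr ⟨c.2,
        Subgroup.mem_centralizer_singleton_iff.mpr (hcA x x.2.1).symm⟩)
    have hSmap : ((S₁ : Subgroup M).map M.subtype).map (MulAut.conj (c : G)).toMonoidHom =
        (S₂ : Subgroup M).map M.subtype := by
      rw [← hc, Sylow.pointwise_smul_def, Subgroup.pointwise_smul_def]
      show _ = ((S₁ : Subgroup M).map (MulAut.conj c).toMonoidHom).map M.subtype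
      rw [Subgroup.map_map, Subgroup.map_map]
      rfl
    obtain ⟨Q₃, h₃, hS₁Q₃⟩ := exists_maxQ (family_sub hθ hMmem (Subgroup.map_subtype_le _) hS₁A) (S₁.2.map _)
    have h₄ := maxQ_conj hA hθ hA1 hcinf h₃
    set Q₄ := Q₃.map (MulAut.conj (c : G)).toMonoidHom with hQ₄
    have hlt3 : D < Q₁ ⊓ Q₃ := hlt₁.trans_le (inf_le_inf_left _ hS₁Q₃)
    have hlt4 : D < Q₄ ⊓ Q₂ := by
      refine hlt₂.trans_le (le_inf (inf_le_right.trans ?_) inf_le_left)
      rw [← hSmap]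
      exact Subgroup.map_mono hS₁Q₃
    have hcard : ∀ X : Subgroup G, D < X → Nat.card G - Nat.card X < Nat.card G - Nat.card D := by
      intro X hX
      have h1 : Nat.card D < Nat.card X := by
        rcases lt_or_eq_of_le (Subgroup.card_le_of_le hX.le) with h | h
        · exact h
        · exact absurd (Subgroup.eq_of_le_of_card_ge hX.le h.ge) hX.ne
      have h2 := Subgroup.card_le_card_group X
      omega
    obtain ⟨c₁, hc₁, e₁⟩ := ih _ (hcard _ hlt3) Q₁ Q₃ rfl h₁ h₃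
    obtain ⟨c₂, hc₂, e₂⟩ := ih _ (hcard _ hlt4) Q₄ Q₂ rfl h₄ h₂
    refine ⟨c₂ * (c * c₁), mul_mem hc₂ (mul_mem hcinf hc₁), ?_⟩
    rw [← e₂, hQ₄, ← e₁, map_conj_conj, map_conj_conj, mul_assoc]

theorem sylow_of_conj (hA : IsElementaryAbelian p A) (hA3 : p ^ 3 ≤ Nat.card ↥A)
    (hθ : IsSolvableSignalizerFunctor p A θ) {q : ℕ} [Fact q.Prime] {Q : Subgroup G} (hQ : IsMaxQ p A θ q Q)
    {H : Subgroup G} (hH : H ∈ signalizerFamily p A θ) :
    ∃ c ∈ signalizerInf A θ, ∃ S : Sylow q ↥H,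
      (S : Subgroup ↥H).map H.subtype = Q.map (MulAut.conj c).toMonoidHom ⊓ H := by
  have hA1 := ea_ne_bot (p := p) hA3
  have hHA := inv_to_normalizer hH.2.2.1
  obtain ⟨T, hT⟩ := coprime_exists_invariant_sylow hHA (ea_coprime hA hH.2.1) (Or.inl (ea_solvable hA)) q
  obtain ⟨Q', hQ', hTQ'⟩ := exists_maxQ (family_sub hθ hH (Subgroup.map_subtype_le _) hT) (T.2.map _)
  obtain ⟨c, hc, e⟩ := transitivity hA hA3 hθ Q Q' hQ hQ'
  refine ⟨c, hc, T, le_antisymm (le_inf (e ▸ hTQ') (Subgroup.map_subtype_le _)) ?_⟩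
  intro x hx
  have hp' : IsPGroup q ((Q.map (MulAut.conj c).toMonoidHom).subgroupOf H) :=
    (hQ.2.1.map _).of_injective (H.subtype.subgroupComap _)
      (fun u v w => Subtype.ext (Subtype.ext (congrArg (fun z : Q.map (MulAut.conj c).toMonoidHom => (z : G)) w)))
  have h1 : (T : Subgroup H) ≤ (Q.map (MulAut.conj c).toMonoidHom).subgroupOf H := fun y hy => by
    rw [Subgroup.mem_subgroupOf, e]
    exact hTQ' ⟨y, hy, rfl⟩
  have h2 := T.3 hp' h1
  exact ⟨⟨x, hx.2⟩, h2 ▸ hx.1, rfl⟩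

theorem inf_mem_family (hA : IsElementaryAbelian p A) (hθ : IsSolvableSignalizerFunctor p A θ) {B : Subgroup G}
    (hB : B ≤ A) (hB1 : B ≠ ⊥) : signalizerInf B θ ∈ signalizerFamily p A θ := by
  obtain ⟨⟨b, hb⟩, hb1⟩ := Subgroup.ne_bot_iff_exists_ne_one.mp hB1
  have hb1' : b ≠ 1 := fun e => hb1 (Subtype.ext e)
  refine family_sub hθ (theta_mem hθ (hB hb) hb1')
    (iInf_le (fun x : {x : G // x ∈ B ∧ x ≠ 1} => θ (x : G)) ⟨b, hb, hb1'⟩) fun g hg =>
    Comp.mem_normalizer_of_maps fun x hx => Subgroup.mem_iInf.mpr fun y => ?_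
  exact hθ.1.2.2.1 y (hB y.2.1) y.2.2 g hg x (Subgroup.mem_iInf.mp hx y)

theorem sylow_centralizer (hA : IsElementaryAbelian p A) (hA3 : p ^ 3 ≤ Nat.card ↥A)
    (hθ : IsSolvableSignalizerFunctor p A θ) {q : ℕ} [Fact q.Prime] {Q : Subgroup G} (hQ : IsMaxQ p A θ q Q)
    {B : Subgroup G} (hB : B ≤ A) (hB1 : B ≠ ⊥) :
    ∃ S : Sylow q ↥(signalizerInf B θ),
      (S : Subgroup ↥(signalizerInf B θ)).map (signalizerInf B θ).subtype = Q ⊓ Subgroup.centralizer (B : Set G) := by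
  set H := signalizerInf B θ with hH
  have hHB : H ≤ Subgroup.centralizer (B : Set G) :=
    inf_theta_centralizes (ea_le hA hB) ⟨⟨fun a ha => hθ.1.1 a (hB ha), fun a ha => hθ.1.2.1 a (hB ha),
      fun a ha h1 b hb => hθ.1.2.2.1 a (hB ha) h1 b (hB hb), fun a ha h1 b hb => hθ.1.2.2.2 a (hB ha) h1 b (hB hb)⟩,
      fun a ha => hθ.2 a (hB ha)⟩ hB1
  have hQH : Q ⊓ Subgroup.centralizer (B : Set G) ≤ H := fun x hx => Subgroup.mem_iInf.mpr fun y =>
    hQ.1.2.2.2 y (hB y.2.1) y.2.2 (Subgroup.mem_inf.mpr ⟨hx.1,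
      Subgroup.mem_centralizer_singleton_iff.mpr (hx.2 y y.2.1).symm⟩)
  have heq : Q ⊓ Subgroup.centralizer (B : Set G) = Q ⊓ H :=
    le_antisymm (le_inf inf_le_left hQH) (inf_le_inf_left _ hHB)
  obtain ⟨c, hc, S, hS⟩ := sylow_of_conj hA hA3 hθ hQ (inf_mem_family hA hθ hB hB1)
  have hcH : c ∈ H := Subgroup.mem_iInf.mpr fun y =>
    (iInf_le (fun x : {x : G // x ∈ A ∧ x ≠ 1} => θ (x : G)) ⟨y, hB y.2.1, y.2.2⟩) hc
  refine ⟨(⟨c, hcH⟩⁻¹ : H) • S, ?_⟩
  rw [heq, Sylow.smul_def, Sylow.pointwise_smul_def, Subgroup.pointwise_smul_def]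
  show ((S : Subgroup H).map (MulAut.conj (⟨c, hcH⟩⁻¹ : H)).toMonoidHom).map H.subtype = _
  rw [Subgroup.map_map, show H.subtype.comp (MulAut.conj (⟨c, hcH⟩⁻¹ : H)).toMonoidHom =
    (MulAut.conj c⁻¹).toMonoidHom.comp H.subtype from rfl, ← Subgroup.map_map, hS,
    Subgroup.map_inf _ _ _ (MulAut.conj c⁻¹).injective, map_conj_conj, inv_mul_cancel, map_conj_one]
  congr 1
  refine Subgroup.eq_of_le_of_card_ge ?_ (by rw [Subgroup.card_map_of_injective (MulAut.conj c⁻¹).injective])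
  rintro _ ⟨x, hx, rfl⟩
  exact mul_mem (mul_mem (inv_mem hcH) hx) (by rw [inv_inv]; exact hcH)

theorem complete_of_qGroups (hA : IsElementaryAbelian p A) (hA3 : p ^ 3 ≤ Nat.card ↥A)
    (hθ : IsSolvableSignalizerFunctor p A θ) {q : ℕ} [Fact q.Prime]
    (hq : ∀ a ∈ A, a ≠ 1 → IsPGroup q ↥(θ a)) : IsCompleteSignalizerFunctor p A θ := by
  have hA1 := ea_ne_bot (p := p) hA3
  have hbot : (⊥ : Subgroup G) ∈ signalizerFamily p A θ := by
    obtain ⟨⟨b, hb⟩, hb1⟩ := Subgroup.ne_bot_iff_exists_ne_one.mp hA1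
    have hb1' : b ≠ 1 := fun e => hb1 (Subtype.ext e)
    exact family_sub hθ (theta_mem hθ hb hb1') bot_le fun g _ => Comp.mem_normalizer_of_maps fun x hx => by
      rw [Subgroup.mem_bot] at hx ⊢; simp [hx]
  obtain ⟨Q, hQ, -⟩ := exists_maxQ (q := q) hbot (IsPGroup.of_bot)
  refine ⟨hθ.1, Q, hQ.1.2.2.1, hQ.1.2.1, fun a ha ha1 => le_antisymm (hQ.1.2.2.2 a ha ha1) ?_⟩
  refine le_inf ?_ (hθ.1.1 a ha ha1)
  obtain ⟨Q', hQ', hle⟩ := exists_maxQ (theta_mem hθ ha ha1) (hq a ha ha1)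
  obtain ⟨c, hc, e⟩ := transitivity hA hA3 hθ Q Q' hQ hQ'
  have hcθ : c ∈ θ a := (iInf_le (fun x : {x : G // x ∈ A ∧ x ≠ 1} => θ (x : G)) ⟨a, ha, ha1⟩) hc
  intro x hx
  have h1 := hle (show c * x * c⁻¹ ∈ θ a from mul_mem (mul_mem hcθ hx) (inv_mem hcθ))
  rw [← e] at h1
  obtain ⟨y, hy, ey⟩ := h1
  exact (MulAut.conj c).injective ey ▸ hy

theorem family_gen (hA : IsElementaryAbelian p A) {X : Subgroup G} (hX : X ∈ signalizerFamily p A θ) {B : Subgroup G}
    (hB : B ≤ A) (hB2 : p ^ 2 ≤ Nat.card ↥B) :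
    X = ⨆ D : {D : Subgroup G // D ≤ B ∧ D.relIndex B = p}, X ⊓ signalizerInf (D : Subgroup G) θ := by
  refine le_antisymm ?_ (iSup_le fun D => inf_le_left)
  conv_lhs => rw [gen_index (ea_le hA hB) hX.2.1 (hB.trans (inv_to_normalizer hX.2.2.1))]
  refine iSup_le fun E => ?_
  obtain ⟨D, hDB, hDi, hDE⟩ : ∃ D : Subgroup G, D ≤ B ∧ D.relIndex B = p ∧ D ≤ (E : Subgroup G) := by
    by_cases h : (E : Subgroup G).relIndex B = p
    · exact ⟨E, E.2.1, h, le_rfl⟩
    · have hne : (⊥ : Subgroup G) ≠ B := fun e => by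
        rw [← e, Subgroup.card_bot] at hB2
        exact absurd hB2 (not_le.mpr (Nat.one_lt_pow (by norm_num) (Fact.out : p.Prime).one_lt))
      obtain ⟨D, -, hDB, hDi⟩ := exists_hyperplane (ea_le hA hB) bot_le hne
      refine ⟨D, hDB, hDi, ?_⟩
      by_cases hEB : (E : Subgroup G) = B
      · rw [hEB]; exact hDB
      exfalso
      obtain ⟨D', hED', hD'B, hD'i⟩ := exists_hyperplane (ea_le hA hB) E.2.1 hEB
      have h1 := Subgroup.relIndex_mul_relIndex (E : Subgroup G) D' B hED' hD'B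
      rw [hD'i] at h1
      have h2 := E.2.2
      rw [← h1] at h2
      have hp := (Fact.out : p.Prime).pos
      have h3 : (E : Subgroup G).relIndex D' = 1 := by
        have h4 : (E : Subgroup G).relIndex D' ≠ 0 := fun e => by
          rw [Subgroup.relIndex, Subgroup.index_eq_zero_iff_infinite] at e
          exact not_finite_iff_infinite.mpr e inferInstance
        nlinarith [Nat.pos_of_ne_zero h4]
      exact h (by rw [← h1, h3, one_mul])
  refine le_trans ?_ (le_iSup (fun D : {D : Subgroup G // D ≤ B ∧ D.relIndex B = p} =>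
    X ⊓ signalizerInf (D : Subgroup G) θ) ⟨D, hDB, hDi⟩)
  refine le_inf inf_le_left fun x hx => Subgroup.mem_iInf.mpr fun y => ?_
  exact hX.2.2.2 y (hB (hDB y.2.1)) y.2.2 (Subgroup.mem_inf.mpr ⟨hx.1,
    Subgroup.mem_centralizer_singleton_iff.mpr (hx.2 y (hDE y.2.1)).symm⟩)

theorem solvable_coprime_le (hA : IsElementaryAbelian p A) {K : Subgroup G}
    (hK : ¬ p ∣ Nat.card K) (hKs : Group.IsSolvable K) (hAK : A ≤ Subgroup.normalizer (K : Set G))
    {q : ℕ} [Fact q.Prime] {U : Subgroup G} (hU : U ≤ K) (hUq : ¬ q ∣ Nat.card U)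
    (hAne : A ≠ ⊥)
    (hcomm : ∀ B : Subgroup G, B ≤ A → B.relIndex A = p →
      ¬ q ∣ Nat.card ↥⁅U, K ⊓ Subgroup.centralizer (B : Set G)⁆) :
    U ≤ (pPrimeCore q ↥K).map K.subtype := by
  have hq := (Fact.out : q.Prime)
  set W : Subgroup G := (pPrimePCore q ↥K).map K.subtype with hW
  haveI : (pCore q (↥K ⧸ pPrimeCore q ↥K)).Normal := Subgroup.sSup_normal _ (fun _ h => h.1)
  have hWK : W ≤ K := Subgroup.map_subtype_le _
  have hWn : ∀ g ∈ K, ∀ w ∈ W, g * w * g⁻¹ ∈ W := by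
    rintro g hg _ ⟨w, hw, rfl⟩
    exact ⟨⟨g, hg⟩ * w * ⟨g, hg⟩⁻¹, (inferInstance : (pPrimePCore q ↥K).Normal).conj_mem w hw _, rfl⟩
  have hAW : A ≤ Subgroup.normalizer (W : Set G) := by
    intro a ha
    refine Comp.mem_normalizer_of_maps ?_
    rintro _ ⟨w, hw, rfl⟩
    let e : MulAut K :=
      { toFun := fun x => ⟨a * x * a⁻¹, (Subgroup.mem_normalizer_iff.mp (hAK ha) x).mp x.2⟩
        invFun := fun x => ⟨a⁻¹ * x * a, (Subgroup.mem_normalizer_iff''.mp (hAK ha) x).mp x.2⟩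
        left_inv := fun x => Subtype.ext (by simp [mul_assoc])
        right_inv := fun x => Subtype.ext (by simp [mul_assoc])
        map_mul' := fun x y => Subtype.ext (by simp [mul_assoc]) }
    refine ⟨e w, ?_, rfl⟩
    have hO : (pPrimeCore q ↥K).map e.toMonoidHom = pPrimeCore q ↥K := pPrimeCore_map_equiv q e
    let ebar : (↥K ⧸ pPrimeCore q ↥K) ≃* (↥K ⧸ pPrimeCore q ↥K) := QuotientGroup.congr _ _ e hO
    have h1 : ebar (Comp.bar q ↥K w) ∈ (pCore q (↥K ⧸ pPrimeCore q ↥K)).map ebar.toMonoidHom := ⟨_, hw, rfl⟩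
    rw [pCore_map_equiv] at h1
    exact h1
  obtain ⟨S, hS⟩ := coprime_exists_invariant_sylow hAW (ea_coprime hA fun h => hK (h.trans (Subgroup.card_dvd_of_le hWK)))
    (Or.inl (ea_solvable hA)) q
  set Q := (S : Subgroup W).map W.subtype with hQ
  have hQW : Q ≤ W := Subgroup.map_subtype_le _
  have hQK : Q ≤ K := hQW.trans hWK
  set π := Comp.bar q ↥K with hπ
  set V := pCore q (↥K ⧸ pPrimeCore q ↥K) with hV
  have hQV : (Q.subgroupOf K).map π = V := by
    refine le_antisymm ?_ ?_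
    · rintro _ ⟨x, hx, rfl⟩
      obtain ⟨w, hw, e⟩ := hQW hx
      exact (Subtype.ext e : w = x) ▸ hw
    · intro v hv
      obtain ⟨k, hk⟩ := isPGroup_pCore q ⟨v, hv⟩
      have hk' : v ^ q ^ k = 1 := congrArg Subtype.val hk
      obtain ⟨x, hx, ⟨j, hj⟩, rfl⟩ := Comp.exists_lift π (pPrimePCore q ↥K)
        (show v ∈ (pPrimePCore q ↥K).map π by rw [Comp.map_pPrimePCore]; exact hv) hk'
      let xw : W := ⟨x, ⟨x, hx, rfl⟩⟩
      have hxp : IsPGroup q (Subgroup.zpowers xw) := by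
        refine IsPGroup.of_card_dvd_pow (n := j) ?_
        rw [Nat.card_zpowers]
        exact orderOf_dvd_of_pow_eq_one (Subtype.ext (by simpa using congrArg Subtype.val hj))
      obtain ⟨T, hT⟩ := hxp.exists_le_sylow
      obtain ⟨g, hg⟩ := MulAction.exists_smul_eq W S T
      have hxT : xw ∈ (T : Subgroup W) := hT (Subgroup.mem_zpowers _)
      rw [← hg, Sylow.coe_subgroup_smul, Subgroup.pointwise_smul_def] at hxT
      obtain ⟨s, hs, es⟩ := hxT
      obtain ⟨g', hg', eg⟩ := g.2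
      obtain ⟨g₀, hg₀, hjg, eq0⟩ : ∃ g₀ ∈ Q.subgroupOf K, True ∧ π g₀ = π g' := by
        obtain ⟨kk, hkk⟩ := isPGroup_pCore q ⟨π g', hg'⟩
        have hkk' : (π g') ^ q ^ kk = 1 := congrArg Subtype.val hkk
        have hres : pResidual q ↥W ≤ ((pPrimeCore q ↥K).map K.subtype).subgroupOf W := by
          refine pResidual_le fun z hz => ?_
          obtain ⟨z', hz', ez⟩ := z.2
          obtain ⟨kz, hkz⟩ := isPGroup_pCore q ⟨π z', hz'⟩
          refine ⟨z', ?_, ez⟩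
          rw [SetLike.mem_coe, ← QuotientGroup.eq_one_iff]
          have h1 : orderOf (π z') ∣ q ^ kz := orderOf_dvd_of_pow_eq_one (congrArg Subtype.val hkz)
          have h2 : orderOf (π z') ∣ orderOf z := by
            rw [← Subgroup.orderOf_coe z, ← ez]
            exact (orderOf_map_dvd π z').trans (dvd_of_eq (Subgroup.orderOf_coe z').symm)
          exact orderOf_eq_one_iff.mp (Nat.eq_one_of_dvd_coprimes (hz.pow_right kz) h2 h1)
        haveI : (((pPrimeCore q ↥K).map K.subtype).subgroupOf W).Normal := by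
          refine (Subgroup.normal_subgroupOf_iff_le_normalizer (Subgroup.map_mono ?_)).mpr ?_
          · exact Comp.core_le_pPrimePCore
          · intro w hw
            refine Comp.mem_normalizer_of_maps ?_
            rintro _ ⟨z, hz, rfl⟩
            exact ⟨⟨w, hWK hw⟩ * z * ⟨w, hWK hw⟩⁻¹, (inferInstance : (pPrimeCore q ↥K).Normal).conj_mem z hz _, rfl⟩
        have hsup := sylow_sup_eq_top_of_pResidual_le S hres
        obtain ⟨o, ho, s', hs', e'⟩ := Subgroup.mem_sup_of_normal_left.mp (hsup.symm ▸ Subgroup.mem_top g)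
        obtain ⟨o', ho', eo⟩ := ho
        refine ⟨⟨(s' : G), hWK s'.2⟩, ⟨s', hs', rfl⟩, trivial, ?_⟩
        have : g' = o' * ⟨(s' : G), hWK s'.2⟩ := Subtype.ext (by
          show (g' : G) = (o' : G) * s'
          rw [show (g' : G) = (g : G) from eg, show (o' : G) = (o : G) from eo, ← e']
          rfl)
        rw [this, map_mul, show π o' = 1 from (QuotientGroup.eq_one_iff o').mpr ho', one_mul]
      refine ⟨g₀ * ⟨(s : G), hWK s.2⟩ * g₀⁻¹, mul_mem (mul_mem hg₀ ⟨s, hs, rfl⟩) (inv_mem hg₀), ?_⟩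
      have hx' : x = g' * ⟨(s : G), hWK s.2⟩ * g'⁻¹ := Subtype.ext (by
        have h2 : (g : G) * s * (g : G)⁻¹ = x := congrArg Subtype.val es
        show (x : G) = (g' : G) * s * (g' : G)⁻¹
        rw [show (g' : G) = (g : G) from eg, h2])
      rw [hx', map_mul, map_mul, map_mul, map_mul, map_inv, map_inv, eq0]
  have hQA : A ≤ Subgroup.normalizer (Q : Set G) := hS
  have key : ∀ u, (hu : u ∈ U) → ∀ x, (hx : x ∈ Q) →
      π ⟨u, hU hu⟩ * π ⟨x, hQK hx⟩ = π ⟨x, hQK hx⟩ * π ⟨u, hU hu⟩ := by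
    intro u hu x hx
    have hmem : x ∈ Q ⊓ ((((Subgroup.centralizer {π ⟨u, hU hu⟩}).comap π)).map K.subtype) := by
      suffices hle : Q ≤ Q ⊓ ((((Subgroup.centralizer {π ⟨u, hU hu⟩}).comap π)).map K.subtype) from hle hx
      conv_lhs => rw [gen_index (K := Q) hA (fun h => hK (h.trans (Subgroup.card_dvd_of_le hQK))) hQA]
      refine iSup_le fun B => le_inf inf_le_left ?_
      intro y hy
      obtain ⟨D, hDA, hDi, hDB⟩ : ∃ D : Subgroup G, D ≤ A ∧ D.relIndex A = p ∧ D ≤ (B : Subgroup G) := by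
        by_cases hBA : (B : Subgroup G) = A
        · obtain ⟨D, -, hDA, hDi⟩ := exists_hyperplane hA bot_le hAne.symm
          exact ⟨D, hDA, hDi, by rw [hBA]; exact hDA⟩
        · obtain ⟨D, hBD, hDA, hDi⟩ := exists_hyperplane hA B.2.1 hBA
          have h1 := Subgroup.relIndex_mul_relIndex (B : Subgroup G) D A hBD hDA
          rw [hDi] at h1
          have h2 := B.2.2
          rw [← h1] at h2
          have h4 : (B : Subgroup G).relIndex D ≠ 0 := fun e => by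
            rw [Subgroup.relIndex, Subgroup.index_eq_zero_iff_infinite] at e
            exact not_finite_iff_infinite.mpr e inferInstance
          have h3 : (B : Subgroup G).relIndex D = 1 := by
            nlinarith [Nat.pos_of_ne_zero h4, (Fact.out : p.Prime).pos]
          exact ⟨D, hDA, hDi, Subgroup.relIndex_eq_one.mp h3⟩
      have hyK := hQK hy.1
      refine ⟨⟨y, hyK⟩, ?_, rfl⟩
      rw [SetLike.mem_coe, Subgroup.mem_comap, Subgroup.mem_centralizer_singleton_iff]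
      have hcm : ⁅u, y⁆ ∈ ⁅U, K ⊓ Subgroup.centralizer (D : Set G)⁆ :=
        Subgroup.commutator_mem_commutator hu
          (Subgroup.mem_inf.mpr ⟨hyK, Subgroup.centralizer_le hDB hy.2⟩)
      have hq' : ¬ q ∣ orderOf ⁅u, y⁆ := fun h =>
        hcomm D hDA hDi (h.trans (Subgroup.orderOf_dvd_natCard _ hcm))
      let cK : K := ⁅(⟨u, hU hu⟩ : K), ⟨y, hyK⟩⁆
      have hcV : π cK ∈ V := by
        rw [map_commutatorElement, commutatorElement_def]
        have hyV : π ⟨y, hyK⟩ ∈ V := hQV ▸ ⟨⟨y, hyK⟩, hy.1, rfl⟩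
        exact mul_mem ((inferInstance : V.Normal).conj_mem _ hyV _) (inv_mem hyV)
      obtain ⟨k, hk⟩ := isPGroup_pCore q ⟨π cK, hcV⟩
      have h1 : orderOf (π cK) ∣ q ^ k := orderOf_dvd_of_pow_eq_one (congrArg Subtype.val hk)
      have h2 : orderOf (π cK) ∣ orderOf ⁅u, y⁆ := by
        refine (orderOf_map_dvd π cK).trans (dvd_of_eq ?_)
        rw [← Subgroup.orderOf_coe]
        rfl
      have h3 : π cK = 1 := orderOf_eq_one_iff.mp
        (Nat.eq_one_of_dvd_coprimes ((hq.coprime_iff_not_dvd.mpr hq').symm.pow_right k) h2 h1)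
      rw [map_commutatorElement, commutatorElement_eq_one_iff_mul_comm] at h3
      exact h3.symm
    obtain ⟨-, ⟨y, hy, e⟩⟩ := hmem
    have : y = ⟨x, hQK hx⟩ := Subtype.ext e
    rw [← this]
    exact (Subgroup.mem_centralizer_singleton_iff.mp hy).symm
  intro u hu
  have hcent : π ⟨u, hU hu⟩ ∈ Subgroup.centralizer (V : Set (↥K ⧸ pPrimeCore q ↥K)) := fun v hv => by
    rw [SetLike.mem_coe, ← hQV] at hv
    obtain ⟨x, hx, rfl⟩ := hv
    exact (key u hu x hx).symm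
  have hmem := centralizer_pCore_le (G := ↥K ⧸ pPrimeCore q ↥K) hq (pPrimeCore_quotient_eq_bot q) hcent
  obtain ⟨k, hk⟩ := isPGroup_pCore q ⟨_, hmem⟩
  refine ⟨⟨u, hU hu⟩, ?_, rfl⟩
  rw [SetLike.mem_coe, ← QuotientGroup.eq_one_iff]
  have h1 : orderOf (π ⟨u, hU hu⟩) ∣ q ^ k := orderOf_dvd_of_pow_eq_one (congrArg Subtype.val hk)
  have h2 : orderOf (π ⟨u, hU hu⟩) ∣ orderOf u :=
    (orderOf_map_dvd π _).trans (dvd_of_eq (Subgroup.orderOf_mk u (hU hu)))
  refine orderOf_eq_one_iff.mp (Nat.eq_one_of_dvd_coprimes (Nat.Coprime.pow_right k ?_) h2 h1)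
  exact Nat.Coprime.coprime_dvd_left (Subgroup.orderOf_dvd_natCard _ hu) (hq.coprime_iff_not_dvd.mpr hUq).symm

end CfsgLib.Signalizer
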