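import Cfsg.Agent.Lib.Transitivity
import Cfsg.Agent.Lib.SmallElements
import Cfsg.Agent.Lib.Coprime

/-!
`p`-constrained groups, `p` odd: invariant `p'`-subgroups of abelian `p`-subgroups containing `Ω₁` of their centralisers.
-/

set_option autoImplicit false
set_option linter.unusedSectionVars false

namespace CfsgLib.Signalizer

open Cfsg Subgroup
open scoped Pointwise commutatorElement

universe u
variable {G : Type u} [Group G] [Finite G] {p : ℕ} [Fact p.Prime]

/-- Thompson's `A × B` lemma in fixed point form for elements of order `p`, `p` odd. -/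
theorem centralizes_of_fixed_omega (hp : p ≠ 2) {A Y R : Subgroup G} (hA : IsPGroup p A)
    (hY : (Nat.card Y).Coprime p) (hAY : A ≤ normalizer (Y : Set G)) (hR : IsPGroup p R)
    (hAR : A ≤ normalizer (R : Set G)) (hYR : Y ≤ normalizer (R : Set G))
    (hfix : ∀ r ∈ R, r ∈ centralizer (A : Set G) → r ^ p = 1 → r ∈ centralizer (Y : Set G)) :
    Y ≤ centralizer (R : Set G) := by
  obtain ⟨D, hD, hDexp, hdet⟩ := CfsgLib.Small.exists_small_detecting hR
  have hexp : CfsgLib.Small.smallExp p = p := by simp [CfsgLib.Small.smallExp, hp]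
  have hnorm : normalizer (R : Set G) ≤ normalizer (D.map R.subtype : Set G) := by
    intro g hg
    have hle : ∀ h ∈ normalizer (R : Set G), ∀ x ∈ D.map R.subtype, h * x * h⁻¹ ∈ D.map R.subtype := by
      rintro h hh _ ⟨d, hd, rfl⟩
      exact ⟨Subgroup.normalizerMonoidHom R ⟨h, hh⟩ d,
        Subgroup.characteristic_iff_map_le.mp hD (Subgroup.normalizerMonoidHom R ⟨h, hh⟩) ⟨d, hd, rfl⟩, rfl⟩
    refine Subgroup.mem_normalizer_iff.mpr fun x => ⟨hle g hg x, fun hx => ?_⟩
    have := hle g⁻¹ (inv_mem hg) _ hx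
    simpa [mul_assoc] using this
  have h0 : Y ≤ centralizer ((D.map R.subtype : Subgroup G) : Set G) := by
    refine FixedTransfer.centralizes_of_fixed hA hY hAY (D.map R.subtype) ?_ (hAR.trans hnorm) (hYR.trans hnorm)
      (fun h => absurd h hp) ?_
    · exact hR.to_le (Subgroup.map_subtype_le _)
    · rintro _ ⟨⟨d, hd, rfl⟩, hdc⟩
      refine hfix _ d.2 hdc ?_
      have h1 := congrArg Subtype.val (hDexp d hd)
      rw [hexp] at h1
      push_cast at h1
      exact h1
  intro y hy r hr
  set α := Subgroup.normalizerMonoidHom R ⟨y, hYR hy⟩ with hα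
  have h1 : orderOf α ∣ Nat.card Y := by
    refine (orderOf_map_dvd (Subgroup.normalizerMonoidHom R) _).trans ?_
    rw [Subgroup.orderOf_mk]
    exact Subgroup.orderOf_dvd_natCard _ hy
  have h2 : α = 1 := hdet α (hY.coprime_dvd_left h1) fun d hd => Subtype.ext (by
    show y * (d : G) * y⁻¹ = (d : G)
    rw [← (h0 hy) (d : G) ⟨d, hd, rfl⟩, mul_inv_cancel_right])
  have h3 := congrArg Subtype.val (DFunLike.congr_fun h2 ⟨r, hr⟩)
  change y * r * y⁻¹ = r at h3
  exact (mul_inv_eq_iff_eq_mul.mp h3).symm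

theorem le_pPrimeCore_of_omega (hp : p ≠ 2) (hN : IsPConstrained p G) (E : Subgroup G) (hEp : IsPGroup p E)
    (hΩ : ∀ x ∈ centralizer (E : Set G), orderOf x = p → x ∈ E) (Y : Subgroup G) (hY : (Nat.card Y).Coprime p)
    (hEY : E ≤ normalizer (Y : Set G)) : Y ≤ pPrimeCore p G := by
  set W := pPrimeCore p G with hW
  haveI : W.Normal := Subgroup.sSup_normal _ (fun _ h => h.1)
  set π := QuotientGroup.mk' W with hπ
  set R := pCore p (G ⧸ W) with hR
  have hRp : IsPGroup p R := isPGroup_pCore p
  haveI : R.Normal := Subgroup.sSup_normal _ (fun _ h => h.1)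
  have hnR : ∀ S : Subgroup (G ⧸ W), S ≤ normalizer (R : Set (G ⧸ W)) := fun S => by
    rw [Subgroup.normalizer_eq_top]; exact le_top
  have hYc : (Nat.card (Y.map π)).Coprime p := hY.coprime_dvd_left (Y.card_map_dvd π)
  have hEW : E ≤ normalizer (W : Set G) := by rw [Subgroup.normalizer_eq_top]; exact le_top
  have hcop : (Nat.card E).Coprime (Nat.card W) := by
    obtain ⟨k, hk⟩ := hEp.exists_card_eq
    rw [hk]
    exact ((card_pPrimeCore_coprime p).pow_right k).symm
  have hsolv : Group.IsSolvable E := by haveI := hEp.isNilpotent; infer_instance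
  have hlift : ∀ rb ∈ R, rb ∈ centralizer (E.map π : Set (G ⧸ W)) → rb ^ p = 1 →
      rb ∈ centralizer (Y.map π : Set (G ⧸ W)) := by
    intro rb hrR hrc hrp
    obtain ⟨r, rfl⟩ := QuotientGroup.mk'_surjective W rb
    have hB : E.map (MulAut.conj r).toMonoidHom ≤ W ⊔ E := by
      rintro _ ⟨e, he, rfl⟩
      have h1 : r * e * r⁻¹ * e⁻¹ ∈ W := by
        rw [← QuotientGroup.eq_one_iff]
        show π _ = 1
        have h2 : π e * π r = π r * π e := hrc _ (Subgroup.mem_map_of_mem π he)
        rw [map_mul, map_mul, map_mul, map_inv, map_inv, ← h2]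
        group
      have := Subgroup.mul_mem_sup h1 he
      rwa [inv_mul_cancel_right] at this
    obtain ⟨g, hg, hgE⟩ := exists_conj_complement (B := E.map (MulAut.conj r).toMonoidHom) hEW hcop
      (Or.inl hsolv) hB (Subgroup.card_map_of_injective (MulAut.conj r).injective)
    set n := g⁻¹ * r with hn
    have hπn : π n = π r := by
      rw [hn, map_mul, map_inv, show π g = 1 from (QuotientGroup.eq_one_iff g).mpr hg, inv_one, one_mul]
    have hnc : ∀ e ∈ E, n * e * n⁻¹ = e := by
      intro e he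
      have h1 : n * e * n⁻¹ ∈ E := by
        have : r * e * r⁻¹ ∈ MulAut.conj g • E := by
          rw [hgE]; exact ⟨e, he, rfl⟩
        rw [mem_conj_smul_iff] at this
        rw [hn]
        simpa [mul_assoc] using this
      have h2 : π (n * e * n⁻¹) = π e := by
        rw [map_mul, map_mul, map_inv, hπn, ← hrc _ (Subgroup.mem_map_of_mem π he), mul_inv_cancel_right]
      have h3 : n * e * n⁻¹ * e⁻¹ ∈ W := by
        rw [← QuotientGroup.eq_one_iff]
        show π _ = 1
        rw [map_mul, map_inv, h2, mul_inv_cancel]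
      exact mul_inv_eq_one.mp (Subgroup.disjoint_def.mp
        (Subgroup.disjoint_of_coprime_natCard hcop) (E.mul_mem h1 (E.inv_mem he)) h3)
    by_cases hr1 : π r = 1
    · rw [hr1]; exact one_mem _
    obtain ⟨k, m, hm, hk⟩ := Nat.exists_eq_pow_mul_and_not_dvd (orderOf_pos n).ne' p (Fact.out : p.Prime).ne_one
    have hcm : p.Coprime m := (Fact.out : p.Prime).coprime_iff_not_dvd.mpr hm
    have hs : (n ^ m) ^ p = 1 := by
      have h1 : n ^ (m * p) ∈ W := by
        rw [← QuotientGroup.eq_one_iff]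
        show π _ = 1
        rw [map_pow, hπn, mul_comm, pow_mul, hrp, one_pow]
      have h2 : (n ^ (m * p)) ^ p ^ k = 1 := by
        rw [← pow_mul, show m * p * p ^ k = p ^ k * m * p by ring, ← hk, pow_mul, pow_orderOf_eq_one, one_pow]
      rw [← pow_mul]
      exact orderOf_eq_one_iff.mp (Nat.eq_one_of_dvd_coprimes ((card_pPrimeCore_coprime p).pow_right k)
        (W.orderOf_dvd_natCard h1) (orderOf_dvd_of_pow_eq_one h2))
    have hord : orderOf (π r) = p := orderOf_eq_prime hrp hr1
    have hs1 : π (n ^ m) ≠ 1 := by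
      rw [map_pow, hπn]
      intro h
      exact hm (hord ▸ orderOf_dvd_of_pow_eq_one h)
    have hsE : n ^ m ∈ E := by
      refine hΩ _ (fun e he => ?_) (orderOf_eq_prime hs fun h => hs1 (by rw [h, map_one]))
      have hc : Commute n e := mul_inv_eq_iff_eq_mul.mp (hnc e he)
      exact (hc.pow_left m).eq.symm
    obtain ⟨i, hi⟩ := exists_pow_eq_self_of_coprime (x := π r) (n := m) (by rw [hord]; exact hcm.symm)
    have hrE : π r ∈ E.map π := by
      rw [← hi, show π r ^ m = π (n ^ m) by rw [map_pow, hπn]]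
      exact pow_mem (Subgroup.mem_map_of_mem π hsE) i
    intro yb hyb
    obtain ⟨e, he, hre⟩ := hrE
    have h1 : π r * yb * (π r)⁻¹ ∈ Y.map π := by
      rw [← hre]
      exact (Subgroup.mem_normalizer_iff.mp (Subgroup.le_normalizer_map π
        (Subgroup.mem_map_of_mem π (hEY he))) _).mp hyb
    have h2 : π r * yb * (π r)⁻¹ * yb⁻¹ = 1 := by
      refine Subgroup.disjoint_def.mp (Subgroup.disjoint_of_coprime_natCard ?_)
        ((Y.map π).mul_mem h1 ((Y.map π).inv_mem hyb)) (show _ ∈ R from ?_)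
      · obtain ⟨k, hk⟩ := hRp.exists_card_eq
        rw [hk]; exact hYc.pow_right k
      · have := R.mul_mem hrR ((inferInstance : R.Normal).conj_mem _ (R.inv_mem hrR) yb)
        simpa only [mul_assoc] using this
    exact (mul_inv_eq_iff_eq_mul.mp (mul_inv_eq_one.mp h2)).symm
  have hcen : Y.map π ≤ centralizer (R : Set (G ⧸ W)) :=
    centralizes_of_fixed_omega hp (hEp.map π) hYc ((Subgroup.map_mono hEY).trans (Subgroup.le_normalizer_map π))
      hRp (hnR _) (hnR _) hlift
  intro y hy
  rw [← QuotientGroup.eq_one_iff]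
  have h1 : π y ∈ R := Transitivity.centralizer_pCore_quotient_le hN (hcen (Subgroup.mem_map_of_mem π hy))
  obtain ⟨k, hk⟩ := Transitivity.exists_pow_of_pGroup hRp h1
  exact orderOf_eq_one_iff.mp (Nat.eq_one_of_dvd_coprimes (hYc.pow_right k)
    (Subgroup.orderOf_dvd_natCard _ (Subgroup.mem_map_of_mem π hy)) (orderOf_dvd_of_pow_eq_one hk))

end CfsgLib.Signalizer
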