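import Mathlib
import Cfsg.Prelude.Def_Balance
import Cfsg.Prelude.Def_CaseTheorems
import Cfsg.Agent.Lib.UniqueSubgroup
import Cfsg.Agent.Lib.PGroup.RankTwoNormal
import Cfsg.Agent.Lib.PGroup.CyclicMax

/-!
The commuting graph on elementary abelian subgroups of order at least `p ^ 2` of a `p`-group.
-/

set_option autoImplicit false
set_option maxHeartbeats 1000000

open Cfsg

namespace CfsgLib.Connectivity

theorem card_le_card_ker_pow {V : Type*} [AddCommGroup V] [Finite V] (φ : AddMonoid.End V) (p : ℕ)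
    (h : φ ^ p = 0) : Nat.card V ≤ Nat.card (AddMonoidHom.ker (φ : V →+ V)) ^ p := by
  have key : ∀ i : ℕ, Nat.card {v : V // (φ ^ i) v = 0} ≤ Nat.card (AddMonoidHom.ker (φ : V →+ V)) ^ i := by
    intro i
    induction i with
    | zero =>
      rw [pow_zero, pow_zero]
      exact Finite.card_le_one_iff_subsingleton.2 ⟨fun a b => Subtype.ext (a.2.trans b.2.symm)⟩
    | succ i ih =>
      set K := AddMonoidHom.ker ((φ ^ (i + 1) : AddMonoid.End V) : V →+ V) with hK
      let g : K →+ V := (φ : V →+ V).comp K.subtype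
      have hkr : Nat.card g.ker ≤ Nat.card (AddMonoidHom.ker (φ : V →+ V)) :=
        Nat.card_le_card_of_injective (fun x => ⟨((x : K) : V), x.2⟩)
          fun a b hab => Subtype.ext (Subtype.ext (congrArg Subtype.val hab :))
      have hrg : Nat.card g.range ≤ Nat.card {v : V // (φ ^ i) v = 0} := by
        refine Nat.card_le_card_of_injective (fun x => ⟨x.1, ?_⟩) fun a b hab =>
          Subtype.ext (congrArg Subtype.val hab :)
        obtain ⟨⟨v, hv⟩, hv'⟩ := x.2
        rw [← hv']
        show (φ ^ i) (φ v) = 0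
        rw [show (φ ^ i) (φ v) = (φ ^ (i + 1)) v by rw [pow_succ]; rfl]
        exact hv
      calc Nat.card {v : V // (φ ^ (i + 1)) v = 0} = Nat.card K := rfl
        _ = g.ker.index * Nat.card g.ker := (g.ker.index_mul_card).symm
        _ = Nat.card g.range * Nat.card g.ker := by rw [AddSubgroup.index_ker]
        _ ≤ _ := by rw [pow_succ]; exact Nat.mul_le_mul (hrg.trans ih) hkr
  refine le_trans ?_ (key p)
  exact Nat.card_le_card_of_injective (fun v => ⟨v, by rw [h]; rfl⟩) fun a b hab => congrArg Subtype.val hab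

variable {P : Type*} [Group P] [Finite P] {p : ℕ} [Fact p.Prime]

/-- An element of order dividing `p` fixes at least the `p`-th root of a normal elementary abelian subgroup. -/
theorem card_le_centralizer_pow {A : Subgroup P} [A.Normal] (hA : IsElementaryAbelian p A) {x : P}
    (hx : x ^ p = 1) :
    Nat.card A ≤ Nat.card ↥(A ⊓ Subgroup.centralizer ({x} : Set P)) ^ p := by
  haveI := hA.1
  letI : CommGroup A := { (inferInstance : Group A) with mul_comm := fun a b => mul_comm' a b }
  have hp : p.Prime := Fact.out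
  let f : AddMonoid.End (Additive A) := MonoidHom.toAdditive (MulAut.conjNormal x : A ≃* A).toMonoidHom
  have hfi : ∀ (i : ℕ) (v : Additive A), ((f ^ i) v).toMul = MulAut.conjNormal (x ^ i) v.toMul := by
    intro i
    induction i with
    | zero => intro v; rw [pow_zero, pow_zero, map_one]; rfl
    | succ i ih =>
      intro v
      rw [pow_succ, pow_succ, map_mul]
      exact ih (f v)
  have hf : f ^ p = 1 := DFunLike.ext _ _ fun v => by
    apply Additive.toMul.injective
    rw [hfi, hx, map_one]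
    rfl
  have hp0 : (p : AddMonoid.End (Additive A)) = 0 := DFunLike.ext _ _ fun v => by
    rw [AddMonoid.End.natCast_apply]
    apply Additive.toMul.injective
    show v.toMul ^ p = 1
    exact Subtype.ext (hA.2 _ v.toMul.2)
  have hφ : (f - 1) ^ p = 0 := by
    obtain ⟨r, hr⟩ := Commute.exists_add_pow_prime_eq hp ((Commute.one_right f).neg_right)
    rw [sub_eq_add_neg, hr, hp0, hf]
    rcases hp.eq_two_or_odd' with rfl | hodd
    · simp only [zero_mul, add_zero, neg_one_sq]
      rw [one_add_one_eq_two]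
      exact_mod_cast hp0
    · simp [hodd.neg_one_pow]
  refine le_trans (card_le_card_ker_pow (V := Additive ↥A) (f - 1) p hφ) (Nat.pow_le_pow_left ?_ p)
  refine Nat.card_le_card_of_injective (fun v => ⟨((v.1.toMul : A) : P), v.1.toMul.2, ?_⟩) fun a b hab =>
    Subtype.ext (Additive.toMul.injective (Subtype.ext (congrArg Subtype.val hab :)))
  have h1 : f v.1 = v.1 := sub_eq_zero.1 v.2
  have h2 := congrArg (fun w : Additive A => ((w.toMul : A) : P)) h1
  refine Subgroup.mem_centralizer_singleton_iff.2 ?_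
  change x * _ * x⁻¹ = _ at h2
  exact (mul_inv_eq_iff_eq_mul.1 h2).symm

/-- The edge relation of the commuting graph. -/
def Rel (p : ℕ) (A B : Subgroup P) : Prop :=
  IsElementaryAbelian p A ∧ p ^ 2 ≤ Nat.card ↥A ∧ IsElementaryAbelian p B ∧ p ^ 2 ≤ Nat.card ↥B ∧
    ∀ a ∈ A, ∀ b ∈ B, a * b = b * a

omit [Finite P] [Fact p.Prime] in
theorem conn_symm {A B : Subgroup P} (h : Relation.ReflTransGen (Rel p) A B) :
    Relation.ReflTransGen (Rel p) B A := by
  induction h with
  | refl => exact .refl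
  | tail _ h2 ih =>
    exact (Relation.ReflTransGen.single
      ⟨h2.2.2.1, h2.2.2.2.1, h2.1, h2.2.1, fun a ha b hb => (h2.2.2.2.2 b hb a ha).symm⟩).trans ih

omit [Finite P] [Fact p.Prime] in
theorem mul_comm_of_elem {A : Subgroup P} (hA : IsElementaryAbelian p A) {a b : P} (ha : a ∈ A) (hb : b ∈ A) :
    a * b = b * a := congrArg Subtype.val (hA.1.is_comm.comm ⟨a, ha⟩ ⟨b, hb⟩)

omit [Finite P] [Fact p.Prime] in
theorem elem_mono {A B : Subgroup P} (hA : IsElementaryAbelian p A) (h : B ≤ A) : IsElementaryAbelian p B :=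
  ⟨⟨⟨fun a b => Subtype.ext (mul_comm_of_elem hA (h a.2) (h b.2))⟩⟩, fun a ha => hA.2 a (h ha)⟩

omit [Finite P] [Fact p.Prime] in
theorem elem_sup {A B : Subgroup P} (hA : IsElementaryAbelian p A) (hB : IsElementaryAbelian p B)
    (h : ∀ a ∈ A, ∀ b ∈ B, a * b = b * a) : IsElementaryAbelian p (A ⊔ B : Subgroup P) := by
  have hc : IsMulCommutative ↥(Subgroup.closure ((A : Set P) ∪ B)) := Subgroup.isMulCommutative_closure (by
    rintro a (ha | ha) b (hb | hb)
    · exact mul_comm_of_elem hA ha hb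
    · exact h a ha b hb
    · exact (h b hb a ha).symm
    · exact mul_comm_of_elem hB ha hb)
  have e : Subgroup.closure ((A : Set P) ∪ B) = A ⊔ B := (Subgroup.sup_eq_closure A B).symm
  rw [e] at hc
  refine ⟨hc, fun a ha => ?_⟩
  rw [Subgroup.sup_eq_closure] at ha
  have hc' : ∀ u ∈ Subgroup.closure ((A : Set P) ∪ B), ∀ v ∈ Subgroup.closure ((A : Set P) ∪ B), Commute u v := by
    intro u hu v hv
    rw [← Subgroup.sup_eq_closure] at hu hv
    exact congrArg Subtype.val (hc.is_comm.comm ⟨u, hu⟩ ⟨v, hv⟩)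
  induction ha using Subgroup.closure_induction with
  | mem u hu => exact hu.elim (hA.2 u) (hB.2 u)
  | one => exact one_pow p
  | mul u v hu hv iu iv => rw [(hc' u hu v hv).mul_pow, iu, iv, one_mul]
  | inv u hu iu => rw [inv_pow, iu, inv_one]

omit [Finite P] [Fact p.Prime] in
theorem mem_normalizer_of_conj [Finite P] {C : Subgroup P} {g : P} (h : ∀ c ∈ C, g * c * g⁻¹ ∈ C) :
    g ∈ Subgroup.normalizer (C : Set P) := Subgroup.mem_normalizer_fintype h

/-- A `p`-group acting on a nontrivial `p`-subgroup fixes a nontrivial element. -/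
theorem exists_fixed (hP : IsPGroup p P) {X C : Subgroup P} (hXn : X ≤ Subgroup.normalizer (C : Set P))
    (hC : 1 < Nat.card C) : ∃ z, z ∈ C ⊓ Subgroup.centralizer (X : Set P) ∧ z ≠ 1 := by
  set H : Subgroup P := X ⊔ C
  have hn : (C.subgroupOf H).Normal :=
    (Subgroup.normal_subgroupOf_iff_le_normalizer le_sup_right).2 (sup_le hXn Subgroup.le_normalizer)
  haveI : Group.IsNilpotent H := (hP.to_subgroup H).isNilpotent
  have hne : C.subgroupOf H ≠ ⊥ := by
    rw [← Subgroup.one_lt_card_iff_ne_bot, Nat.card_congr (Subgroup.subgroupOfEquivOfLe le_sup_right).toEquiv]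
    exact hC
  obtain ⟨z, hz, hz1⟩ := (Subgroup.bot_or_exists_ne_one _).resolve_left
    (CfsgLib.inf_center_ne_bot_of_nilpotent hne)
  exact ⟨(z : P), ⟨hz.1, fun u hu => congrArg Subtype.val
    (Subgroup.mem_center_iff.1 hz.2 ⟨u, Subgroup.mem_sup_left hu⟩)⟩, fun e => hz1 (Subtype.ext e)⟩

theorem one_lt_of_le {k : ℕ} (h : p ^ 2 ≤ k) : 1 < k :=
  lt_of_lt_of_le (Nat.one_lt_pow two_ne_zero (Fact.out : p.Prime).one_lt) h

/-- An elementary abelian subgroup with two independent elements has order at least `p ^ 2`. -/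
theorem two_le_card (hP : IsPGroup p P) {Y : Subgroup P} (hY : IsElementaryAbelian p Y) {z x : P}
    (hz : z ∈ Y) (hz1 : z ≠ 1) (hzp : z ^ p = 1) (hx : x ∈ Y) (hxz : x ∉ Subgroup.zpowers z) :
    p ^ 2 ≤ Nat.card Y := by
  have hp : p.Prime := Fact.out
  have _ := hY
  obtain ⟨k, hk⟩ := (hP.to_subgroup Y).exists_card_eq
  have hlt : Subgroup.zpowers z < Y := lt_of_le_of_ne (Subgroup.zpowers_le.2 hz) fun e => hxz (e ▸ hx)
  have h1 : Nat.card (Subgroup.zpowers z) < Nat.card Y := by
    by_contra h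
    exact hlt.ne (Subgroup.eq_of_le_of_card_ge hlt.le (not_lt.1 h))
  rw [Nat.card_zpowers, orderOf_eq_prime hzp hz1, hk] at h1
  rw [hk]
  refine Nat.pow_le_pow_right hp.pos ?_
  exact (Nat.pow_lt_pow_iff_right hp.one_lt).1 (lt_of_le_of_lt (pow_one p).le h1)

/-- A `p`-group with an elementary abelian normal subgroup of order at least `p ^ (p + 1)` is 2-connected. -/
theorem isKConnected_of_normal (hP : IsPGroup p P) {A : Subgroup P} [A.Normal] (hA : IsElementaryAbelian p A)
    (hcard : p ^ (p + 1) ≤ Nat.card A) : IsKConnected p 2 P := by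
  have hp : p.Prime := Fact.out
  have hA2 : p ^ 2 ≤ Nat.card A :=
    (Nat.pow_le_pow_right hp.pos (by have := hp.two_le; omega)).trans hcard
  suffices key : ∀ X : Subgroup P, IsElementaryAbelian p X → p ^ 2 ≤ Nat.card X →
      Relation.ReflTransGen (Rel p) X A from
    fun E E' hE hEc hE' hE'c => (key E hE hEc).trans (conn_symm (key E' hE' hE'c))
  intro X hX hXc
  by_cases hXA : X ≤ A
  · exact .single ⟨hX, hXc, hA, hA2, fun a ha b hb => mul_comm_of_elem hA (hXA ha) hb⟩
  obtain ⟨x, hxX, hxA⟩ := SetLike.not_le_iff_exists.1 hXA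
  set C : Subgroup P := A ⊓ Subgroup.centralizer ({x} : Set P) with hC
  have hC2 : p ^ 2 ≤ Nat.card C := by
    obtain ⟨k, hk⟩ := (hP.to_subgroup C).exists_card_eq
    have h1 := hcard.trans (card_le_centralizer_pow hA (hX.2 x hxX))
    rw [← hC, hk, ← pow_mul] at h1
    have h2 := (Nat.pow_le_pow_iff_right hp.one_lt).1 h1
    have h3 : 2 ≤ k := by
      by_contra hk'
      interval_cases k <;> omega
    rw [hk]
    exact Nat.pow_le_pow_right hp.pos h3
  -- the fixed points of `X` on `C`
  have hXn : X ≤ Subgroup.normalizer (C : Set P) := by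
    intro g hg
    refine mem_normalizer_of_conj fun c hc => ⟨Subgroup.Normal.conj_mem inferInstance c hc.1 g, ?_⟩
    refine Subgroup.mem_centralizer_singleton_iff.2 ?_
    have hcx : c * x = x * c := Subgroup.mem_centralizer_singleton_iff.1 hc.2
    calc g * c * g⁻¹ * x = g * c * (g⁻¹ * x * g) * g⁻¹ := by group
      _ = g * (c * x) * g⁻¹ := by
        rw [mul_assoc g⁻¹ x g, mul_comm_of_elem hX hxX hg, inv_mul_cancel_left]; group
      _ = g * (x * c) * g⁻¹ := by rw [hcx]
      _ = x * (g * c * g⁻¹) := by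
        rw [← mul_assoc, mul_comm_of_elem hX hg hxX]; group
  obtain ⟨z, hz, hz1⟩ := exists_fixed hP hXn (one_lt_of_le hC2)
  obtain ⟨hzC, hzX⟩ := hz
  have hzA : z ∈ A := hzC.1
  have hzx : z * x = x * z := Subgroup.mem_centralizer_singleton_iff.1 hzC.2
  set Y : Subgroup P := Subgroup.zpowers x ⊔ Subgroup.zpowers z with hY
  have hYe : IsElementaryAbelian p Y := by
    refine elem_sup (elem_mono hX (Subgroup.zpowers_le.2 hxX)) (elem_mono hA (Subgroup.zpowers_le.2 hzA)) ?_
    rintro _ ⟨i, rfl⟩ _ ⟨j, rfl⟩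
    exact (Commute.zpow_zpow hzx.symm i j).eq
  have hYc : p ^ 2 ≤ Nat.card Y := by
    refine two_le_card hP ?_ (Subgroup.mem_sup_right (Subgroup.mem_zpowers z) : z ∈ Y) hz1 (hA.2 z hzA)
      (Subgroup.mem_sup_left (Subgroup.mem_zpowers x)) ?_
    · exact hYe
    · exact fun hm => hxA ((Subgroup.zpowers_le.2 hzA) hm)
  have hxC : ∀ c ∈ C, x * c = c * x := fun c hc => (Subgroup.mem_centralizer_singleton_iff.1 hc.2).symm
  refine Relation.ReflTransGen.head (b := Y) ⟨hX, hXc, hYe, hYc, fun a ha b hb => ?_⟩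
    (Relation.ReflTransGen.head (b := C) ⟨hYe, hYc, elem_mono hA inf_le_left, hC2, fun a ha b hb => ?_⟩
      (.single ⟨elem_mono hA inf_le_left, hC2, hA, hA2, fun a ha b hb => mul_comm_of_elem hA ha.1 hb⟩))
  · have : Y ≤ Subgroup.centralizer (X : Set P) := sup_le
      (Subgroup.zpowers_le.2 fun u hu => mul_comm_of_elem hX hu hxX) (Subgroup.zpowers_le.2 hzX)
    exact this hb a ha
  · have : Y ≤ Subgroup.centralizer (C : Set P) := sup_le
      (Subgroup.zpowers_le.2 fun u hu => (hxC u hu).symm)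
      (Subgroup.zpowers_le.2 fun u hu => mul_comm_of_elem hA hu.1 hzA)
    exact (this ha b hb).symm

end CfsgLib.Connectivity
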