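import Cfsg.Agent.Lib.Signalizer.Coprime
import Cfsg.Agent.Lib.Comp.PC

/-!
The order formula for the action of a four-group-like `A` (elementary abelian of order `p ^ 2`) on a group
of order prime to `p`, and the factorization it implies.
-/

set_option autoImplicit false
set_option linter.unusedSectionVars false

namespace CfsgLib.Signalizer

open Cfsg Subgroup
open scoped commutatorElement

universe u
variable {G : Type u} [Group G] [Finite G] {p : ℕ} [Fact p.Prime]

/-- The subgroups of order `p` of `A`. -/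
abbrev Lines (p : ℕ) (A : Subgroup G) : Type u := {B : Subgroup G // B ≤ A ∧ Nat.card B = p}

noncomputable instance instFintypeLines (A : Subgroup G) : Fintype (Lines p A) := Fintype.ofFinite _

noncomputable local instance instFintypeSub (H : Subgroup G) : Fintype ↥H := Fintype.ofFinite _

theorem mem_line_eq {A : Subgroup G} (B : Lines p A) {a : G} (ha : a ∈ (B : Subgroup G)) (ha1 : a ≠ 1) :
    (B : Subgroup G) = Subgroup.zpowers a := by
  refine (Subgroup.eq_of_le_of_card_ge (Subgroup.zpowers_le.mpr ha) ?_).symm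
  rw [B.2.2, Nat.card_zpowers]
  have h := Subgroup.orderOf_dvd_natCard (B : Subgroup G) ha
  rw [B.2.2] at h
  exact ((Nat.dvd_prime (Fact.out : p.Prime)).mp h |>.resolve_left
    fun e => ha1 (orderOf_eq_one_iff.mp e)).ge

/-- The line through a nontrivial element. -/
def lineOf {A : Subgroup G} (hA : IsElementaryAbelian p A) (a : {a : ↥A // a ≠ 1}) : Lines p A :=
  ⟨Subgroup.zpowers (a.1 : G), Subgroup.zpowers_le.mpr a.1.2, by
    rw [Nat.card_zpowers]
    exact orderOf_eq_prime_of_ea hA a.1.2 fun e => a.2 (Subtype.ext e)⟩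

/-- Nontrivial elements of `A` and nontrivial elements of its lines. -/
noncomputable def linesEquiv {A : Subgroup G} (hA : IsElementaryAbelian p A) :
    (Σ B : Lines p A, {b : ↥(B : Subgroup G) // b ≠ 1}) ≃ {a : ↥A // a ≠ 1} :=
  Equiv.ofBijective
    (fun x => ⟨⟨(x.2.1 : G), x.1.2.1 x.2.1.2⟩, fun e => x.2.2 (Subtype.ext (congrArg (fun z : ↥A => (z : G)) e))⟩)
    (by
      refine ⟨?_, fun a => ?_⟩
      · rintro ⟨B, ⟨b, hb⟩, hb1⟩ ⟨B', ⟨b', hb'⟩, hb1'⟩ e
        obtain rfl : b = b' := congrArg (fun z : {a : ↥A // a ≠ 1} => (z.1 : G)) e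
        have hne : b ≠ 1 := fun e => hb1 (Subtype.ext e)
        obtain rfl : B = B' := Subtype.ext ((mem_line_eq B hb hne).trans (mem_line_eq B' hb' hne).symm)
        rfl
      · exact ⟨⟨lineOf hA a, ⟨⟨(a.1 : G), Subgroup.mem_zpowers _⟩, fun e => a.2 (Subtype.ext
          (congrArg (fun z : ↥(Subgroup.zpowers (a.1 : G)) => (z : G)) e))⟩⟩, rfl⟩)

theorem card_lines {A : Subgroup G} (hA : IsElementaryAbelian p A) (hc : Nat.card A = p ^ 2) :
    Nat.card (Lines p A) = p + 1 := by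
  classical
  have h := Nat.card_congr (linesEquiv hA)
  rw [Nat.card_sigma] at h
  have h1 : ∀ B : Lines p A, Nat.card {b : ↥(B : Subgroup G) // b ≠ 1} = p - 1 := fun B => by
    rw [Nat.card_eq_fintype_card, Fintype.card_subtype_compl, Fintype.card_subtype_eq,
      ← Nat.card_eq_fintype_card, B.2.2]
  simp only [h1, Finset.sum_const, Finset.card_univ, smul_eq_mul] at h
  rw [Nat.card_eq_fintype_card (α := {a : ↥A // a ≠ 1}), Fintype.card_subtype_compl, Fintype.card_subtype_eq,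
    ← Nat.card_eq_fintype_card (α := ↥A), hc] at h
  rw [Nat.card_eq_fintype_card]
  have hp := (Fact.out : p.Prime).two_le
  have h2 : (p + 1) * (p - 1) = p ^ 2 - 1 := by
    have := Nat.sq_sub_sq p 1
    simpa using this.symm
  exact Nat.eq_of_mul_eq_mul_right (by omega) (h.trans h2.symm)

/-- The order formula for an abelian group of order prime to `p`. -/
theorem order_formula_comm {A Q : Subgroup G} (hA : IsElementaryAbelian p A) (hc : Nat.card A = p ^ 2)
    (hAQ : A ≤ Subgroup.normalizer (Q : Set G)) (hQ : ¬ p ∣ Nat.card Q)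
    (hQc : ∀ x ∈ Q, ∀ y ∈ Q, x * y = y * x) :
    Nat.card Q * Nat.card ↥(Q ⊓ Subgroup.centralizer (A : Set G)) ^ p =
      ∏ B : Lines p A, Nat.card ↥(Q ⊓ Subgroup.centralizer ((B : Subgroup G) : Set G)) := by
  classical
  have hp : p.Prime := Fact.out
  letI : CommGroup ↥Q := { (inferInstance : Group ↥Q) with mul_comm := fun x y => Subtype.ext (hQc _ x.2 _ y.2) }
  let act : ↥A → ↥Q →* ↥Q := fun a => (Q.normalizerMonoidHom ⟨a, hAQ a.2⟩).toMonoidHom
  have hact : ∀ a x, ((act a x : ↥Q) : G) = (a : G) * x * (a : G)⁻¹ := fun a x => rfl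
  let C : Lines p A → Subgroup ↥Q := fun B => (Subgroup.centralizer ((B : Subgroup G) : Set G)).subgroupOf Q
  let C0 : Subgroup ↥Q := (Subgroup.centralizer (A : Set G)).subgroupOf Q
  have hC : ∀ B, Nat.card (C B) = Nat.card ↥(Q ⊓ Subgroup.centralizer ((B : Subgroup G) : Set G)) := fun B => by
    rw [Nat.card_congr (Subgroup.equivMapOfInjective (C B) Q.subtype Q.subtype_injective).toEquiv]
    simp only [C, Subgroup.subgroupOf_map_subtype, inf_comm]
  have hC0 : Nat.card C0 = Nat.card ↥(Q ⊓ Subgroup.centralizer (A : Set G)) := by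
    rw [Nat.card_congr (Subgroup.equivMapOfInjective (C0) Q.subtype Q.subtype_injective).toEquiv]
    simp only [C0, Subgroup.subgroupOf_map_subtype, inf_comm]
  let Ψ : (∀ B : Lines p A, C B) →* ↥Q :=
    { toFun := fun f => ∏ B, (f B : ↥Q)
      map_one' := by simp
      map_mul' := fun f g => by simp [Finset.prod_mul_distrib] }
  -- norms
  let Nm : ∀ H : Subgroup G, H ≤ A → ↥Q →* ↥Q := fun H hH => ∏ b : ↥H, act ⟨b, hH b.2⟩
  have hNm : ∀ (H : Subgroup G) hH x, Nm H hH x = ∏ b : ↥H, act ⟨b, hH b.2⟩ x := fun H hH x => by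
    simp [Nm]
  have hactmul : ∀ a b x, act (a * b) x = act a (act b x) := fun a b x => Subtype.ext (by
    rw [hact, hact, hact]; push_cast; group)
  have hNfix : ∀ (H : Subgroup G) hH x, Nm H hH x ∈ (Subgroup.centralizer (H : Set G)).subgroupOf Q := by
    intro H hH x a ha
    have h1 : act ⟨a, hH ha⟩ (Nm H hH x) = Nm H hH x := by
      rw [hNm, map_prod]
      refine Fintype.prod_equiv (Equiv.mulLeft (⟨a, ha⟩ : ↥H)) _ _ fun b => ?_
      rw [← hactmul]
      rfl
    have h2 := congrArg Subtype.val h1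
    rw [hact] at h2
    exact mul_inv_eq_iff_eq_mul.mp h2
  have hfix_act : ∀ (x : ↥Q) (a : ↥A), (a : G) * x = x * a → act a x = x := fun x a h =>
    Subtype.ext (by rw [hact, h, mul_inv_cancel_right])
  -- surjectivity
  have hcopQ : (Nat.card ↥Q).Coprime p := ((hp.coprime_iff_not_dvd).mpr hQ).symm
  have hsurj : Function.Surjective Ψ := by
    intro x
    have hsum : (∏ B : Lines p A, Nm (B : Subgroup G) B.2.1 x) = x ^ p * Nm A le_rfl x := by
      have h1 : ∀ (H : Subgroup G) (hH : H ≤ A),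
          Nm H hH x = x * ∏ b : {b : ↥H // b ≠ 1}, act ⟨b.1, hH b.1.2⟩ x := by
        intro H hH
        rw [hNm, Fintype.prod_eq_mul_prod_subtype_ne _ (1 : ↥H)]
        congr 1
        exact hfix_act x _ (by simp)
      simp only [h1]
      rw [Finset.prod_mul_distrib, Finset.prod_const, Finset.card_univ, ← Nat.card_eq_fintype_card,
        card_lines hA hc, pow_succ, mul_assoc]
      congr 2
      rw [← Fintype.prod_sigma' fun (B : Lines p A) (b : {b : ↥(B : Subgroup G) // b ≠ 1}) =>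
        act ⟨b.1, B.2.1 b.1.2⟩ x]
      exact Fintype.prod_equiv (linesEquiv hA) _ _ fun _ => rfl
    have hrange : ∀ B : Lines p A, ∀ y ∈ C B, y ∈ Ψ.range := fun B y hy =>
      ⟨Pi.mulSingle B ⟨y, hy⟩, by
        show ∏ B', ((Pi.mulSingle B (⟨y, hy⟩ : C B) : ∀ B, C B) B' : ↥Q) = y
        rw [Finset.prod_eq_single B]
        · simp
        · intro B' _ hne; simp [Pi.mulSingle_eq_of_ne hne]
        · simp⟩
    obtain ⟨B₀⟩ : Nonempty (Lines p A) := by
      rw [← not_isEmpty_iff]; intro h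
      have := card_lines hA hc
      rw [Nat.card_eq_zero.mpr (Or.inl h)] at this
      omega
    have hxp : x ^ p ∈ Ψ.range := by
      rw [eq_mul_inv_of_mul_eq hsum.symm]
      refine mul_mem (Subgroup.prod_mem _ fun B _ => hrange B _ (hNfix _ _ x)) (inv_mem (hrange B₀ _ ?_))
      exact Subgroup.centralizer_le B₀.2.1 (hNfix A le_rfl x)
    obtain ⟨m, hm⟩ := exists_pow_eq_self_of_coprime (x := x) (n := p)
      (Nat.Coprime.coprime_dvd_left (orderOf_dvd_natCard x) hcopQ).symm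
    exact MonoidHom.mem_range.mp (hm ▸ pow_mem hxp m)
  -- the kernel
  let P0 : (Lines p A → C0) →* C0 :=
    { toFun := fun f => ∏ B, f B
      map_one' := by simp
      map_mul' := fun f g => by simp [Finset.prod_mul_distrib] }
  have hP0 : Function.Surjective P0 := by
    intro c
    obtain ⟨B₀⟩ : Nonempty (Lines p A) := by
      rw [← not_isEmpty_iff]; intro h
      have := card_lines hA hc
      rw [Nat.card_eq_zero.mpr (Or.inl h)] at this
      omega
    exact ⟨Pi.mulSingle B₀ c, by simp [P0]⟩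
  have hker : ∀ f ∈ Ψ.ker, ∀ B₀ : Lines p A, (f B₀ : ↥Q) ∈ C0 := by
    intro f hf B₀
    have h1 := congrArg (Nm (B₀ : Subgroup G) B₀.2.1) (MonoidHom.mem_ker.mp hf)
    rw [map_one] at h1
    have h2 : ∀ B : Lines p A, B ≠ B₀ → Nm (B₀ : Subgroup G) B₀.2.1 (f B) ∈ C0 := by
      intro B hB a ha
      have hle : A ≤ (B : Subgroup G) ⊔ (B₀ : Subgroup G) := by
        refine (Subgroup.eq_of_le_of_card_ge (sup_le B.2.1 B₀.2.1) ?_).ge
        have hlt : (B₀ : Subgroup G) < (B : Subgroup G) ⊔ (B₀ : Subgroup G) := by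
          refine lt_of_le_of_ne le_sup_right fun e => hB (Subtype.ext ?_)
          exact Subgroup.eq_of_le_of_card_ge (e ▸ le_sup_left) (by rw [B.2.2, B₀.2.2])
        have h3 := Subgroup.card_dvd_of_le (sup_le B.2.1 B₀.2.1)
        rw [hc] at h3
        obtain ⟨k, hk, e⟩ := (Nat.dvd_prime_pow hp).mp h3
        have h4 : p < p ^ k := by
          rw [← e]
          refine lt_of_eq_of_lt B₀.2.2.symm ?_
          refine lt_of_not_ge fun h => hlt.ne (Subgroup.eq_of_le_of_card_ge hlt.le h)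
        rw [hc, e]
        exact Nat.pow_le_pow_right hp.pos (by
          by_contra h5
          have : k ≤ 1 := by omega
          have := Nat.pow_le_pow_right hp.pos this
          rw [pow_one] at this
          omega)
      have hin : (B : Subgroup G) ⊔ (B₀ : Subgroup G) ≤
          Subgroup.centralizer ({((Nm (B₀ : Subgroup G) B₀.2.1 (f B) : ↥Q) : G)} : Set G) := by
        refine sup_le (fun b hb => Subgroup.mem_centralizer_singleton_iff.mpr ?_)
          (fun b hb => Subgroup.mem_centralizer_singleton_iff.mpr (hNfix _ _ _ b hb))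
        have h5 : act ⟨b, B.2.1 hb⟩ (Nm (B₀ : Subgroup G) B₀.2.1 (f B)) = Nm (B₀ : Subgroup G) B₀.2.1 (f B) := by
          rw [hNm, map_prod]
          refine Finset.prod_congr rfl fun c _ => ?_
          rw [← hactmul, show (⟨b, B.2.1 hb⟩ : ↥A) * ⟨c, B₀.2.1 c.2⟩ = ⟨c, B₀.2.1 c.2⟩ * ⟨b, B.2.1 hb⟩ from
            Subtype.ext (ea_comm hA (B.2.1 hb) (B₀.2.1 c.2)), hactmul, hfix_act (f B : ↥Q) ⟨b, B.2.1 hb⟩ ((f B).2 b hb)]
        have h6 := congrArg Subtype.val h5
        rw [hact] at h6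
        exact mul_inv_eq_iff_eq_mul.mp h6
      exact Subgroup.mem_centralizer_singleton_iff.mp (hin (hle ha))
    have h7 : Nm (B₀ : Subgroup G) B₀.2.1 (f B₀) = (f B₀ : ↥Q) ^ p := by
      rw [hNm, Fintype.prod_congr _ (fun _ => (f B₀ : ↥Q))
        (fun (b : ↥(B₀ : Subgroup G)) => hfix_act (f B₀ : ↥Q) ⟨b, B₀.2.1 b.2⟩ ((f B₀).2 b b.2)),
        Finset.prod_const, Finset.card_univ, ← Nat.card_eq_fintype_card, B₀.2.2]
    change Nm (B₀ : Subgroup G) B₀.2.1 (∏ B, (f B : ↥Q)) = 1 at h1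
    rw [map_prod, Fintype.prod_eq_mul_prod_subtype_ne _ B₀, h7] at h1
    have h8 : (f B₀ : ↥Q) ^ p ∈ C0 := by
      rw [eq_inv_of_mul_eq_one_left h1]
      exact inv_mem (Subgroup.prod_mem _ fun B _ => h2 B.1 B.2)
    obtain ⟨m, hm⟩ := exists_pow_eq_self_of_coprime (x := (f B₀ : ↥Q)) (n := p)
      (Nat.Coprime.coprime_dvd_left (orderOf_dvd_natCard _) hcopQ).symm
    exact hm ▸ pow_mem h8 m
  have hkereq : Nat.card Ψ.ker = Nat.card P0.ker := by
    refine Nat.card_congr
      { toFun := fun f => ⟨fun B => ⟨(f.1 B : ↥Q), hker f.1 f.2 B⟩, Subtype.ext (by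
          show (((∏ B, (⟨(f.1 B : ↥Q), hker f.1 f.2 B⟩ : C0)) : C0) : ↥Q) = 1
          rw [Subgroup.val_finset_prod]
          exact MonoidHom.mem_ker.mp f.2)⟩
        invFun := fun f => ⟨fun B => ⟨(f.1 B : ↥Q), Subgroup.centralizer_le B.2.1 (f.1 B).2⟩, by
          show ∏ B, ((f.1 B : C0) : ↥Q) = 1
          rw [← Subgroup.val_finset_prod, show (∏ B, f.1 B) = 1 from MonoidHom.mem_ker.mp f.2]
          rfl⟩
        left_inv := fun f => rfl
        right_inv := fun f => rfl }
  have e1 : Nat.card Ψ.ker * Nat.card ↥Q = ∏ B : Lines p A, Nat.card (C B) := by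
    rw [← Nat.card_pi, ← Ψ.ker.card_mul_index, Subgroup.index_ker, MonoidHom.range_eq_top.mpr hsurj,
      Subgroup.card_top]
  have e2 : Nat.card P0.ker * Nat.card C0 = Nat.card C0 ^ (p + 1) := by
    rw [← card_lines hA hc, ← Nat.card_fun, ← P0.ker.card_mul_index, Subgroup.index_ker,
      MonoidHom.range_eq_top.mpr hP0, Subgroup.card_top]
  have e3 : Nat.card P0.ker = Nat.card C0 ^ p := Nat.eq_of_mul_eq_mul_right Nat.card_pos (e2.trans (pow_succ _ _))
  simp only [← hC, ← hC0]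
  rw [← e1, hkereq, e3, mul_comm]


/-- Fixed points split along an invariant normal subgroup. -/
theorem card_fixed_mul {Q N B : Subgroup G} [N.Normal] (hNQ : N ≤ Q)
    (hBQ : B ≤ Subgroup.normalizer (Q : Set G)) (hcop : (Nat.card B).Coprime (Nat.card Q))
    (hB : Group.IsSolvable B) :
    Nat.card ↥(Q ⊓ Subgroup.centralizer (B : Set G)) = Nat.card ↥(N ⊓ Subgroup.centralizer (B : Set G)) *
      Nat.card ↥(Q.map (QuotientGroup.mk' N) ⊓
        Subgroup.centralizer ((B.map (QuotientGroup.mk' N) : Subgroup _) : Set (G ⧸ N))) := by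
  set π := QuotientGroup.mk' N with hπ
  set W := Q ⊓ Subgroup.centralizer (B : Set G) with hW
  have himg : W.map π = Q.map π ⊓ Subgroup.centralizer ((B.map π : Subgroup _) : Set (G ⧸ N)) := by
    refine le_antisymm ?_ ?_
    · rintro _ ⟨x, hx, rfl⟩
      refine Subgroup.mem_inf.mpr ⟨⟨x, hx.1, rfl⟩, ?_⟩
      rintro _ ⟨b, hb, rfl⟩
      rw [← map_mul, ← map_mul, hx.2 b hb]
    · rintro _ ⟨⟨x, hx, rfl⟩, hc⟩
      obtain ⟨c, hcmem, hxc⟩ := coprime_fixed_quotient hBQ hcop (Or.inl hB) hNQ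
        (le_top.trans (Subgroup.normalizer_eq_top N).ge) (le_top.trans (Subgroup.normalizer_eq_top N).ge) hx
        (fun b hb => by
          rw [← QuotientGroup.eq_one_iff, ← QuotientGroup.mk'_apply, map_mul, map_mul, map_mul, map_inv, map_inv]
          have h : π b * π x = π x * π b := hc (π b) ⟨b, hb, rfl⟩
          show π b * π x * (π b)⁻¹ * (π x)⁻¹ = 1
          rw [h]
          group)
      exact ⟨c, hcmem, ((QuotientGroup.mk'_eq_mk' N).mpr ⟨x⁻¹ * c, hxc, mul_inv_cancel_left x c⟩).symm⟩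
  have hker : Nat.card (π.subgroupMap W).ker = Nat.card ↥(N ⊓ Subgroup.centralizer (B : Set G)) :=
    Nat.card_congr
      { toFun := fun x => ⟨((x : ↥W) : G), Subgroup.mem_inf.mpr
          ⟨(QuotientGroup.eq_one_iff _).mp (congrArg Subtype.val (MonoidHom.mem_ker.mp x.2)), (x : ↥W).2.2⟩⟩
        invFun := fun x => ⟨⟨(x : G), Subgroup.mem_inf.mpr
          ⟨hNQ (Subgroup.mem_inf.mp x.2).1, (Subgroup.mem_inf.mp x.2).2⟩⟩,
            MonoidHom.mem_ker.mpr (Subtype.ext ((QuotientGroup.eq_one_iff _).mpr (Subgroup.mem_inf.mp x.2).1))⟩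
        left_inv := fun x => rfl
        right_inv := fun x => rfl }
  rw [← himg, ← hker, ← (π.subgroupMap W).ker.card_mul_index, Subgroup.index_ker,
    MonoidHom.range_eq_top.mpr (π.subgroupMap_surjective W), Subgroup.card_top]

theorem prod_lines_equiv {H : Type u} [Group H] [Finite H] {A : Subgroup G} {A' : Subgroup H} (e : ↥A ≃* ↥A')
    (F : Subgroup G → ℕ) (F' : Subgroup H → ℕ)
    (h : ∀ B : Lines p A, F (B : Subgroup G) = F' ((((B : Subgroup G).subgroupOf A).map e.toMonoidHom).map A'.subtype)) :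
    ∏ B : Lines p A, F (B : Subgroup G) = ∏ B : Lines p A', F' (B : Subgroup H) := by
  refine Fintype.prod_bijective
    (fun B => ⟨(((B : Subgroup G).subgroupOf A).map e.toMonoidHom).map A'.subtype, Subgroup.map_subtype_le _, by
      rw [Subgroup.card_map_of_injective A'.subtype_injective, Subgroup.card_map_of_injective e.injective,
        Nat.card_congr (Subgroup.subgroupOfEquivOfLe B.2.1).toEquiv, B.2.2]⟩) ⟨?_, ?_⟩ _ _ h
  · rintro ⟨B, hB, hB'⟩ ⟨D, hD, hD'⟩ he
    have h1 := Subgroup.map_injective e.injective (Subgroup.map_injective A'.subtype_injective (congrArg Subtype.val he))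
    refine Subtype.ext ?_
    calc B = (B.subgroupOf A).map A.subtype := (Subgroup.map_subgroupOf_eq_of_le hB).symm
      _ = (D.subgroupOf A).map A.subtype := by rw [h1]
      _ = D := Subgroup.map_subgroupOf_eq_of_le hD
  · rintro ⟨B', hB, hB'⟩
    refine ⟨⟨((B'.subgroupOf A').map e.symm.toMonoidHom).map A.subtype, Subgroup.map_subtype_le _, ?_⟩, Subtype.ext ?_⟩
    · rw [Subgroup.card_map_of_injective A.subtype_injective, Subgroup.card_map_of_injective e.symm.injective,
        Nat.card_congr (Subgroup.subgroupOfEquivOfLe hB).toEquiv, hB']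
    · show ((((((B'.subgroupOf A').map e.symm.toMonoidHom).map A.subtype)).subgroupOf A).map e.toMonoidHom).map
        A'.subtype = B'
      rw [show (((B'.subgroupOf A').map e.symm.toMonoidHom).map A.subtype).subgroupOf A =
          (B'.subgroupOf A').map e.symm.toMonoidHom from
        Subgroup.comap_map_eq_self_of_injective A.subtype_injective _, Subgroup.map_map (G := ↥A'),
        show e.toMonoidHom.comp e.symm.toMonoidHom = MonoidHom.id ↥A' from MonoidHom.ext e.apply_symm_apply,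
        Subgroup.map_id, Subgroup.map_subgroupOf_eq_of_le hB]

/-- The order formula for a `q`-group. -/
theorem order_formula_qgroup {q : ℕ} [Fact q.Prime] (n : ℕ) :
    ∀ {G : Type u} [Group G] [Finite G] {A Q : Subgroup G}, Nat.card Q = n → IsElementaryAbelian p A →
      Nat.card A = p ^ 2 → A ≤ Subgroup.normalizer (Q : Set G) → ¬ p ∣ Nat.card Q → IsPGroup q Q →
      Nat.card Q * Nat.card ↥(Q ⊓ Subgroup.centralizer (A : Set G)) ^ p =
        ∏ B : Lines p A, Nat.card ↥(Q ⊓ Subgroup.centralizer ((B : Subgroup G) : Set G)) := by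
  induction n using Nat.strong_induction_on with
  | h n ih =>
  intro G _ _ A Q hn hA hc hAQ hQ hq
  by_cases hcomm : ∀ x ∈ Q, ∀ y ∈ Q, x * y = y * x
  · exact order_formula_comm hA hc hAQ hQ hcomm
  set M := Subgroup.normalizer (((Subgroup.center ↥Q).map Q.subtype : Subgroup G) : Set G) with hM
  set Z := (Subgroup.center ↥Q).map Q.subtype with hZ
  have hZQ : Z ≤ Q := Subgroup.map_subtype_le _
  have hQN : Subgroup.normalizer (Q : Set G) ≤ M := fun g hg => Comp.mem_normalizer_of_maps fun x hx => by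
    obtain ⟨⟨x, hxQ⟩, hxc, rfl⟩ := hx
    refine ⟨⟨g * x * g⁻¹, (Subgroup.mem_normalizer_iff.mp hg x).mp hxQ⟩, Subgroup.mem_center_iff.mpr fun y => ?_, rfl⟩
    have h1 := congrArg Subtype.val (Subgroup.mem_center_iff.mp hxc
      ⟨g⁻¹ * y * g, (Subgroup.mem_normalizer_iff''.mp hg y).mp y.2⟩)
    refine Subtype.ext ?_
    show (y : G) * (g * x * g⁻¹) = g * x * g⁻¹ * y
    calc (y : G) * (g * x * g⁻¹) = g * ((g⁻¹ * y * g) * x) * g⁻¹ := by group
      _ = g * (x * (g⁻¹ * y * g)) * g⁻¹ := congrArg (fun z => g * z * g⁻¹) h1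
      _ = g * x * g⁻¹ * y := by group
  haveI : (Z.subgroupOf M).Normal :=
    (Subgroup.normal_subgroupOf_iff_le_normalizer (hZQ.trans (Subgroup.le_normalizer.trans hQN))).mpr le_rfl
  have hQM : Q ≤ M := Subgroup.le_normalizer.trans hQN
  have hAM : A ≤ M := hAQ.trans hQN
  set Z' := Z.subgroupOf M with hZ'
  set Q₁ := Q.subgroupOf M with hQ₁
  set A₁ := A.subgroupOf M with hA₁
  set π := QuotientGroup.mk' Z' with hπ
  have hcard : ∀ (W : Subgroup G) (B : Subgroup G), W ≤ M → B ≤ M →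
      Nat.card ↥(W.subgroupOf M ⊓ Subgroup.centralizer ((B.subgroupOf M : Subgroup ↥M) : Set ↥M)) =
        Nat.card ↥(W ⊓ Subgroup.centralizer (B : Set G)) := by
    intro W B hW hB
    refine Nat.card_congr
      { toFun := fun x => ⟨((x : ↥M) : G), Subgroup.mem_inf.mpr ⟨(Subgroup.mem_inf.mp x.2).1, fun b hb =>
          congrArg Subtype.val ((Subgroup.mem_inf.mp x.2).2 ⟨b, hB hb⟩ hb)⟩⟩
        invFun := fun x => ⟨⟨(x : G), hW (Subgroup.mem_inf.mp x.2).1⟩, Subgroup.mem_inf.mpr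
          ⟨(Subgroup.mem_inf.mp x.2).1, fun b hb => Subtype.ext ((Subgroup.mem_inf.mp x.2).2 (b : G) hb)⟩⟩
        left_inv := fun x => rfl
        right_inv := fun x => rfl }
  have hQ₁c : Nat.card Q₁ = Nat.card Q := Nat.card_congr (Subgroup.subgroupOfEquivOfLe hQM).toEquiv
  have hcopB : ∀ B ≤ A, (Nat.card ↥(B.subgroupOf M)).Coprime (Nat.card Q₁) := fun B hB => by
    rw [Nat.card_congr (Subgroup.subgroupOfEquivOfLe (hB.trans hAM)).toEquiv, hQ₁c]
    exact ea_coprime (ea_le hA hB) hQ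
  have hsolvB : ∀ B ≤ A, Group.IsSolvable ↥(B.subgroupOf M) := fun B hB => by
    haveI := ea_solvable (ea_le hA hB)
    exact Group.isSolvable_of_surjective (f := (Subgroup.subgroupOfEquivOfLe (hB.trans hAM)).symm.toMonoidHom)
      (Subgroup.subgroupOfEquivOfLe (hB.trans hAM)).symm.surjective
  have hnormB : ∀ B ≤ A, B.subgroupOf M ≤ Subgroup.normalizer (Q₁ : Set ↥M) := fun B hB g hg =>
    Comp.mem_normalizer_of_maps fun x hx => (Subgroup.mem_normalizer_iff.mp (hAQ (hB hg)) (x : G)).mp hx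
  have hsplit : ∀ B ≤ A, Nat.card ↥(Q ⊓ Subgroup.centralizer (B : Set G)) =
      Nat.card ↥(Z ⊓ Subgroup.centralizer (B : Set G)) * Nat.card ↥(Q₁.map π ⊓
        Subgroup.centralizer ((((B.subgroupOf M).map π : Subgroup _)) : Set (↥M ⧸ Z'))) := fun B hB => by
    rw [← hcard Q B hQM (hB.trans hAM), ← hcard Z B (hZQ.trans hQM) (hB.trans hAM)]
    exact card_fixed_mul (fun x hx => hZQ hx) (hnormB B hB) (hcopB B hB) (hsolvB B hB)
  -- `A` embeds in the quotient
  have hAinj : ∀ a ∈ A₁, π a = 1 → a = 1 := by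
    intro a ha h
    have h1 : (a : G) ∈ Z := (QuotientGroup.eq_one_iff a).mp h
    refine Subtype.ext (Comp.pElement_eq_one_of_coprime (p := p) (A := Z) ?_ h1 (n := 1) ?_)
    · exact Nat.Coprime.coprime_dvd_left (Subgroup.card_dvd_of_le hZQ) ((Fact.out : p.Prime).coprime_iff_not_dvd.mpr hQ).symm
    · rw [pow_one]; exact hA.2 _ ha
  let f : ↥A →* ↥(A₁.map π) := (π.subgroupMap A₁).comp (Subgroup.subgroupOfEquivOfLe hAM).symm.toMonoidHom
  have hf : Function.Bijective f := by
    refine ⟨?_, (π.subgroupMap_surjective A₁).comp (Subgroup.subgroupOfEquivOfLe hAM).symm.surjective⟩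
    rw [injective_iff_map_eq_one]
    intro a ha
    exact Subtype.ext (congrArg (fun z : ↥M => (z : G)) (hAinj ⟨a, hAM a.2⟩ a.2 (congrArg Subtype.val ha)))
  let e := MulEquiv.ofBijective f hf
  have hA' : IsElementaryAbelian p (A₁.map π) := by
    refine ⟨⟨⟨fun x y => ?_⟩⟩, ?_⟩
    · obtain ⟨a, rfl⟩ := e.surjective x
      obtain ⟨b, rfl⟩ := e.surjective y
      rw [← map_mul, ← map_mul, hA.1.is_comm.comm a b]
    · rintro _ ⟨a, ha, rfl⟩
      rw [← map_pow, show a ^ p = 1 from Subtype.ext (by push_cast; exact hA.2 _ ha), map_one]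
  have hZcard : 1 < Nat.card Z := by
    have hnt : Nontrivial ↥Q := by
      by_contra h
      rw [not_nontrivial_iff_subsingleton] at h
      exact hcomm fun x hx y hy => congrArg Subtype.val (h.elim (⟨x, hx⟩ * ⟨y, hy⟩ : ↥Q) (⟨y, hy⟩ * ⟨x, hx⟩))
    haveI := hq.center_nontrivial
    rw [hZ, Subgroup.card_map_of_injective Q.subtype_injective]
    exact Finite.one_lt_card
  have hmul : Nat.card Q = Nat.card Z * Nat.card (Q₁.map π) := by
    rw [← hQ₁c, ← (π.subgroupMap Q₁).ker.card_mul_index, Subgroup.index_ker,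
      MonoidHom.range_eq_top.mpr (π.subgroupMap_surjective Q₁), Subgroup.card_top]
    congr 1
    exact Nat.card_congr
      { toFun := fun x => ⟨(((x : ↥Q₁) : ↥M) : G),
          (QuotientGroup.eq_one_iff ((x : ↥Q₁) : ↥M)).mp (congrArg Subtype.val (MonoidHom.mem_ker.mp x.2))⟩
        invFun := fun x => ⟨⟨⟨(x : G), hQM (hZQ x.2)⟩, hZQ x.2⟩,
          MonoidHom.mem_ker.mpr (Subtype.ext ((QuotientGroup.eq_one_iff _).mpr x.2))⟩
        left_inv := fun x => rfl
        right_inv := fun x => rfl }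
  have hlt : Nat.card (Q₁.map π) < n := by
    rw [← hn, hmul]
    exact lt_mul_of_one_lt_left Nat.card_pos hZcard
  have hA'c : Nat.card (A₁.map π) = p ^ 2 := by rw [← Nat.card_congr e.toEquiv, hc]
  have hA'n : A₁.map π ≤ Subgroup.normalizer ((Q₁.map π : Subgroup _) : Set (↥M ⧸ Z')) := by
    rintro _ ⟨a, ha, rfl⟩
    exact Subgroup.le_normalizer_map π ⟨a, hnormB A le_rfl ha, rfl⟩
  have hIH := ih _ hlt (A := A₁.map π) (Q := Q₁.map π) rfl hA' hA'c hA'n
    (fun h => hQ (hQ₁c ▸ h.trans (Subgroup.card_map_dvd _ _)))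
    (IsPGroup.map (hq.of_equiv (Subgroup.subgroupOfEquivOfLe hQM).symm) π)
  have hZform := order_formula_comm (Q := Z) hA hc (hAQ.trans (hQN.trans le_rfl))
    (fun h => hQ (h.trans (Subgroup.card_dvd_of_le hZQ))) (by
      rintro _ ⟨x, hx, rfl⟩ _ ⟨y, -, rfl⟩
      exact congrArg Subtype.val (Subgroup.mem_center_iff.mp hx y).symm)
  have hprod : (∏ B : Lines p A, Nat.card ↥(Q ⊓ Subgroup.centralizer ((B : Subgroup G) : Set G))) =
      (∏ B : Lines p A, Nat.card ↥(Z ⊓ Subgroup.centralizer ((B : Subgroup G) : Set G))) *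
      ∏ B : Lines p (A₁.map π), Nat.card ↥(Q₁.map π ⊓ Subgroup.centralizer ((B : Subgroup (↥M ⧸ Z')) : Set (↥M ⧸ Z'))) := by
    rw [← prod_lines_equiv e (fun B => Nat.card ↥(Q₁.map π ⊓
      Subgroup.centralizer ((((B.subgroupOf M).map π : Subgroup _)) : Set (↥M ⧸ Z'))))
      (fun B => Nat.card ↥(Q₁.map π ⊓ Subgroup.centralizer (B : Set (↥M ⧸ Z')))) ?_, ← Finset.prod_mul_distrib]
    · exact Finset.prod_congr rfl fun B _ => hsplit _ B.2.1
    · intro B
      refine congrArg (fun W : Subgroup (↥M ⧸ Z') =>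
        Nat.card ↥(Q₁.map π ⊓ Subgroup.centralizer (W : Set (↥M ⧸ Z')))) ?_
      refine le_antisymm ?_ ?_
      · rintro _ ⟨b, hb, rfl⟩
        exact ⟨e ⟨(b : G), B.2.1 hb⟩, ⟨⟨(b : G), B.2.1 hb⟩, hb, rfl⟩, rfl⟩
      · rintro _ ⟨_, ⟨a, ha, rfl⟩, rfl⟩
        exact ⟨⟨(a : G), hAM a.2⟩, ha, rfl⟩
  rw [hprod, ← hIH, ← hZform, hmul, hsplit A le_rfl, mul_pow]
  ring


open scoped Pointwise

/-- The size of a product of two subgroups. -/
theorem card_mul_mul_card_inf (X Y : Subgroup G) :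
    Nat.card ↥((X : Set G) * (Y : Set G)) * Nat.card ↥(X ⊓ Y) = Nat.card X * Nat.card Y := by
  have hex : ∀ s : ↥((X : Set G) * (Y : Set G)), ∃ x : ↥X, ∃ y : ↥Y, (x : G) * y = s := fun s => by
    obtain ⟨x, hx, y, hy, e⟩ := s.2
    exact ⟨⟨x, hx⟩, ⟨y, hy⟩, e⟩
  choose fx fy he using hex
  rw [← Nat.card_prod, ← Nat.card_prod]
  refine Nat.card_eq_of_bijective
    (fun sw => (⟨(fx sw.1 : G) * (sw.2 : G), X.mul_mem (fx sw.1).2 (Subgroup.mem_inf.mp sw.2.2).1⟩,
      ⟨(sw.2 : G)⁻¹ * (fy sw.1 : G), Y.mul_mem (Y.inv_mem (Subgroup.mem_inf.mp sw.2.2).2) (fy sw.1).2⟩)) ⟨?_, ?_⟩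
  · rintro ⟨s, w⟩ ⟨s', w'⟩ e
    have e1 : (fx s : G) * w = (fx s' : G) * w' := congrArg (fun z : ↥X × ↥Y => (z.1 : G)) e
    have e2 : (w : G)⁻¹ * fy s = (w' : G)⁻¹ * fy s' := congrArg (fun z : ↥X × ↥Y => (z.2 : G)) e
    obtain rfl : s = s' := Subtype.ext (by
      rw [← he s, ← he s']
      calc (fx s : G) * fy s = ((fx s : G) * w) * ((w : G)⁻¹ * fy s) := by group
        _ = (fx s' : G) * fy s' := by rw [e1, e2]; group)
    obtain rfl : w = w' := Subtype.ext (mul_left_cancel e1)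
    rfl
  · rintro ⟨x, y⟩
    let s : ↥((X : Set G) * (Y : Set G)) := ⟨(x : G) * y, Set.mul_mem_mul x.2 y.2⟩
    have h := he s
    have hw : (fx s : G)⁻¹ * x = (fy s : G) * (y : G)⁻¹ := by
      rw [eq_mul_inv_iff_mul_eq, mul_assoc, ← show (fx s : G) * fy s = x * y from h, inv_mul_cancel_left]
    refine ⟨(s, ⟨(fx s : G)⁻¹ * x, Subgroup.mem_inf.mpr ⟨X.mul_mem (X.inv_mem (fx s).2) x.2,
      hw ▸ Y.mul_mem (fy s).2 (Y.inv_mem y.2)⟩⟩), Prod.ext (Subtype.ext (mul_inv_cancel_left _ _)) (Subtype.ext ?_)⟩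
    show ((fx s : G)⁻¹ * x)⁻¹ * fy s = y
    rw [hw]
    group

theorem map_inf_centralizer_sylow {A K : Subgroup G} (hA : IsElementaryAbelian p A)
    (hK : ¬ p ∣ Nat.card K) (hAK : A ≤ Subgroup.normalizer (K : Set G)) {q : ℕ} [Fact q.Prime] (Q : Sylow q ↥K)
    (hQA : A ≤ Subgroup.normalizer ((Q : Subgroup ↥K).map K.subtype : Set G)) {B : Subgroup G} (hB : B ≤ A) :
    (Nat.card ↥(K ⊓ Subgroup.centralizer (B : Set G))).factorization q =
      (Nat.card ↥((Q : Subgroup ↥K).map K.subtype ⊓ Subgroup.centralizer (B : Set G))).factorization q := by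
  set Q0 := (Q : Subgroup ↥K).map K.subtype with hQ0
  set W := K ⊓ Subgroup.centralizer (B : Set G) with hW
  have hAC : A ≤ Subgroup.normalizer (Subgroup.centralizer (B : Set G) : Set G) :=
    fun g hg => le_normalizer_centralizer hA hB hg
  have hAW : A ≤ Subgroup.normalizer (W : Set G) := inf_normalizes hAK hAC
  have hWK : W ≤ K := inf_le_left
  obtain ⟨S, hS⟩ := coprime_exists_invariant_sylow hAW
    (ea_coprime hA fun h => hK (h.trans (Subgroup.card_dvd_of_le hWK))) (Or.inl (ea_solvable hA)) q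
  obtain ⟨P, hSP, hPA⟩ := coprime_le_invariant_sylow hAK (ea_coprime hA hK) (Or.inl (ea_solvable hA))
    ((Subgroup.map_subtype_le _).trans hWK) (S.2.map _) hS
  obtain ⟨c, hc, hcPQ⟩ := coprime_invariant_sylow_conj hAK (ea_coprime hA hK) (Or.inl (ea_solvable hA)) P Q hPA hQA
  have hQle : Q0 ⊓ Subgroup.centralizer (B : Set G) ≤ W := inf_le_inf_right _ (Subgroup.map_subtype_le _)
  have hQp : IsPGroup q ↥(Q0 ⊓ Subgroup.centralizer (B : Set G) : Subgroup G) := (Q.2.map _).to_le inf_le_left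
  have hle : ((S : Subgroup ↥W).map W.subtype).map (MulAut.conj (c : G)).toMonoidHom ≤
      Q0 ⊓ Subgroup.centralizer (B : Set G) := by
    rintro _ ⟨s, hs, rfl⟩
    refine Subgroup.mem_inf.mpr ⟨?_, ?_⟩
    · obtain ⟨t, ht, e⟩ := hSP hs
      refine ⟨c * t * c⁻¹, ?_, ?_⟩
      · rw [← hcPQ]
        exact ⟨t, ht, rfl⟩
      · show ((c * t * c⁻¹ : ↥K) : G) = (c : G) * s * (c : G)⁻¹
        push_cast
        rw [show (t : G) = s from e]
    · obtain ⟨w, hw, rfl⟩ := hs
      have hcB : (c : G) ∈ Subgroup.centralizer (B : Set G) := Subgroup.centralizer_le hB hc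
      exact mul_mem (mul_mem hcB (Subgroup.mem_inf.mp w.2).2) (inv_mem hcB)
  have h1 := Nat.le_of_dvd Nat.card_pos (Subgroup.card_dvd_of_le hle)
  rw [Subgroup.card_map_of_injective (MulAut.conj (c : G)).injective, Subgroup.card_map_of_injective W.subtype_injective,
    S.card_eq_multiplicity] at h1
  obtain ⟨a, ha⟩ := hQp.exists_card_eq
  have h2 : a ≤ (Nat.card W).factorization q := by
    refine ((Fact.out : q.Prime).pow_dvd_iff_le_factorization Nat.card_pos.ne').mp ?_
    rw [← ha]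
    exact Subgroup.card_dvd_of_le hQle
  rw [ha] at h1 ⊢
  rw [(Fact.out : q.Prime).factorization_pow, Finsupp.single_eq_same]
  exact le_antisymm ((Nat.pow_le_pow_iff_right (Fact.out : q.Prime).one_lt).mp h1) h2

/-- The order formula for a group of order prime to `p`. -/
theorem order_formula {A K : Subgroup G} (hA : IsElementaryAbelian p A) (hc : Nat.card A = p ^ 2)
    (hAK : A ≤ Subgroup.normalizer (K : Set G)) (hK : ¬ p ∣ Nat.card K) :
    Nat.card K * Nat.card ↥(K ⊓ Subgroup.centralizer (A : Set G)) ^ p =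
      ∏ B : Lines p A, Nat.card ↥(K ⊓ Subgroup.centralizer ((B : Subgroup G) : Set G)) := by
  refine Nat.eq_of_factorization_eq (mul_ne_zero Nat.card_pos.ne' (pow_ne_zero _ Nat.card_pos.ne'))
    (Finset.prod_ne_zero_iff.mpr fun B _ => Nat.card_pos.ne') fun q => ?_
  by_cases hq : q.Prime
  swap
  · rw [Nat.factorization_eq_zero_of_not_prime _ hq, Nat.factorization_eq_zero_of_not_prime _ hq]
  haveI : Fact q.Prime := ⟨hq⟩
  obtain ⟨Q, hQA⟩ := coprime_exists_invariant_sylow hAK (ea_coprime hA hK) (Or.inl (ea_solvable hA)) q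
  have hQK : (Q : Subgroup ↥K).map K.subtype ≤ K := Subgroup.map_subtype_le _
  have h := congrArg (fun n => n.factorization q) (order_formula_qgroup (q := q) _ rfl hA hc hQA
    (fun h => hK (h.trans (Subgroup.card_dvd_of_le hQK))) (Q.2.map _))
  simp only [Nat.factorization_mul Nat.card_pos.ne' (pow_ne_zero _ Nat.card_pos.ne'), Nat.factorization_pow,
    Nat.factorization_prod (fun B _ => Nat.card_pos.ne'), Finsupp.coe_add, Pi.add_apply, Finsupp.coe_smul,
    Pi.smul_apply, Finsupp.coe_finset_sum, Finset.sum_apply] at h ⊢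
  rw [map_inf_centralizer_sylow hA hK hAK Q hQA le_rfl,
    Finset.sum_congr rfl (fun B _ => map_inf_centralizer_sylow hA hK hAK Q hQA B.2.1)]
  rw [← h]
  congr 1
  rw [Subgroup.card_map_of_injective K.subtype_injective, Q.card_eq_multiplicity, hq.factorization_pow,
    Finsupp.single_eq_same]

/-- Fixed points of a product. -/
theorem inf_centralizer_mul {A X Y : Subgroup G} (hA : IsElementaryAbelian p A) (hX : ¬ p ∣ Nat.card X)
    (hAX : A ≤ Subgroup.normalizer (X : Set G)) (hAY : A ≤ Subgroup.normalizer (Y : Set G))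
    {g : G} (hg : g ∈ (X : Set G) * (Y : Set G)) (hgA : g ∈ Subgroup.centralizer (A : Set G)) :
    g ∈ ((X ⊓ Subgroup.centralizer (A : Set G) : Subgroup G) : Set G) *
      ((Y ⊓ Subgroup.centralizer (A : Set G) : Subgroup G) : Set G) := by
  obtain ⟨x, hx, y, hy, rfl⟩ := hg
  obtain ⟨w, hw, hxw⟩ := coprime_key (W := X ⊓ Y) (k := x) hAX (ea_coprime hA hX) (Or.inl (ea_solvable hA))
    inf_le_left (inf_normalizes hAX hAY) hx (fun a ha => by
      have h : a * (x * y) = x * y * a := hgA a ha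
      have h1 : x⁻¹ * (a * x * a⁻¹) = y * (a * y * a⁻¹)⁻¹ := by
        calc x⁻¹ * (a * x * a⁻¹) = x⁻¹ * (a * (x * y)) * a⁻¹ * (a * y * a⁻¹)⁻¹ := by group
          _ = y * (a * y * a⁻¹)⁻¹ := by rw [h]; group
      rw [show x⁻¹ * a * x = x⁻¹ * (a * x * a⁻¹) * a by group]
      refine Subgroup.mul_mem_sup (Subgroup.mem_inf.mpr
        ⟨mul_mem (inv_mem hx) ((Subgroup.mem_normalizer_iff.mp (hAX ha) x).mp hx), ?_⟩) ha
      rw [h1]
      exact mul_mem hy (inv_mem ((Subgroup.mem_normalizer_iff.mp (hAY ha) y).mp hy)))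
  refine ⟨x * w, Subgroup.mem_inf.mpr ⟨mul_mem hx (Subgroup.mem_inf.mp hw).1, hxw⟩, w⁻¹ * y,
    Subgroup.mem_inf.mpr ⟨mul_mem (inv_mem (Subgroup.mem_inf.mp hw).2) hy, ?_⟩, by group⟩
  rw [show w⁻¹ * y = (x * w)⁻¹ * (x * y) by group]
  exact mul_mem (inv_mem hxw) hgA

/-- A group of order prime to `p` factorises if all fixed point groups do. -/
theorem eq_mul_of_fixed {A K X Y : Subgroup G} (hA : IsElementaryAbelian p A) (hc : Nat.card A = p ^ 2)
    (hAK : A ≤ Subgroup.normalizer (K : Set G)) (hK : ¬ p ∣ Nat.card K) (hX : X ≤ K) (hY : Y ≤ K)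
    (hAX : A ≤ Subgroup.normalizer (X : Set G)) (hAY : A ≤ Subgroup.normalizer (Y : Set G))
    (hfac : ∀ B : Lines p A, ((K ⊓ Subgroup.centralizer ((B : Subgroup G) : Set G) : Subgroup G) : Set G) =
      ((X ⊓ Subgroup.centralizer ((B : Subgroup G) : Set G) : Subgroup G) : Set G) *
        ((Y ⊓ Subgroup.centralizer ((B : Subgroup G) : Set G) : Subgroup G) : Set G)) :
    (K : Set G) = (X : Set G) * (Y : Set G) := by
  set W := X ⊓ Y with hW
  have hp' : ∀ H : Subgroup G, H ≤ K → ¬ p ∣ Nat.card H := fun H hH h => hK (h.trans (Subgroup.card_dvd_of_le hH))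
  have hfacA : ((K ⊓ Subgroup.centralizer (A : Set G) : Subgroup G) : Set G) =
      ((X ⊓ Subgroup.centralizer (A : Set G) : Subgroup G) : Set G) *
        ((Y ⊓ Subgroup.centralizer (A : Set G) : Subgroup G) : Set G) := by
    refine Set.Subset.antisymm (fun g hg => ?_) ?_
    · obtain ⟨hgK, hgA⟩ := Subgroup.mem_inf.mp hg
      haveI : Nontrivial (Lines p A) := Finite.one_lt_card_iff_nontrivial.mp (by
        rw [card_lines hA hc]; have := (Fact.out : p.Prime).two_le; omega)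
      obtain ⟨B, -⟩ := exists_pair_ne (Lines p A)
      have h1 := (hfac B).subset (Subgroup.mem_inf.mpr ⟨hgK, Subgroup.centralizer_le B.2.1 hgA⟩)
      refine inf_centralizer_mul hA (hp' X hX) hAX hAY ?_ hgA
      obtain ⟨a, ha, b, hb, e⟩ := h1
      exact ⟨a, (Subgroup.mem_inf.mp ha).1, b, (Subgroup.mem_inf.mp hb).1, e⟩
    · rintro _ ⟨a, ha, b, hb, rfl⟩
      exact Subgroup.mem_inf.mpr ⟨mul_mem (hX (Subgroup.mem_inf.mp ha).1) (hY (Subgroup.mem_inf.mp hb).1),
        mul_mem (Subgroup.mem_inf.mp ha).2 (Subgroup.mem_inf.mp hb).2⟩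
  have hcards : ∀ (U : Subgroup G),
      ((K ⊓ U : Subgroup G) : Set G) = ((X ⊓ U : Subgroup G) : Set G) * ((Y ⊓ U : Subgroup G) : Set G) →
      Nat.card ↥(K ⊓ U) * Nat.card ↥(W ⊓ U) = Nat.card ↥(X ⊓ U) * Nat.card ↥(Y ⊓ U) := by
    intro U h
    rw [← card_mul_mul_card_inf (X ⊓ U) (Y ⊓ U), ← h, ← inf_inf_distrib_right]
    rfl
  have hA' := hcards _ hfacA
  have hB' := fun B : Lines p A => hcards _ (hfac B)
  have e : Nat.card K * Nat.card W * (Nat.card ↥(X ⊓ Subgroup.centralizer (A : Set G)) *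
        Nat.card ↥(Y ⊓ Subgroup.centralizer (A : Set G))) ^ p =
      Nat.card X * Nat.card Y * (Nat.card ↥(X ⊓ Subgroup.centralizer (A : Set G)) *
        Nat.card ↥(Y ⊓ Subgroup.centralizer (A : Set G))) ^ p := by
    calc _ = (Nat.card K * Nat.card ↥(K ⊓ Subgroup.centralizer (A : Set G)) ^ p) *
          (Nat.card W * Nat.card ↥(W ⊓ Subgroup.centralizer (A : Set G)) ^ p) := by rw [← hA']; ring
      _ = _ := by
        rw [order_formula hA hc hAK hK,
          order_formula hA hc (inf_normalizes hAX hAY) (hp' W (inf_le_left.trans hX)), ← Finset.prod_mul_distrib,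
          Finset.prod_congr rfl (fun B _ => hB' B), Finset.prod_mul_distrib,
          ← order_formula hA hc hAX (hp' X hX), ← order_formula hA hc hAY (hp' Y hY)]
        ring
  have e2 : Nat.card K * Nat.card W = Nat.card ↥((X : Set G) * (Y : Set G)) * Nat.card W := by
    rw [card_mul_mul_card_inf]
    exact Nat.eq_of_mul_eq_mul_right (pow_pos (Nat.mul_pos Nat.card_pos Nat.card_pos) p) e
  have hsub : (X : Set G) * (Y : Set G) ⊆ (K : Set G) := by
    rintro _ ⟨a, ha, b, hb, rfl⟩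
    exact K.mul_mem (hX ha) (hY hb)
  refine (Set.eq_of_subset_of_ncard_le hsub ?_ (Set.toFinite _)).symm
  rw [← Nat.card_coe_set_eq, ← Nat.card_coe_set_eq]
  exact (Nat.eq_of_mul_eq_mul_right Nat.card_pos e2).le

end CfsgLib.Signalizer
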