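import Mathlib
import Cfsg.Prelude.Def_Transfer
import Cfsg.Agent.Lib.Basic
import Cfsg.Agent.Lib.Elementary
import Cfsg.Agent.Lib.PSolvable
import Cfsg.Agent.Lib.CentrallyLarge
import Cfsg.Agent.Lib.Chev.Twist.Dihedral

/-!
Thompson's dihedral lemma: an elementary abelian 2-group acting faithfully on a solvable group of odd order.
-/

set_option autoImplicit false
set_option maxHeartbeats 1000000

open Cfsg

namespace CfsgLib.DihedralLemma

variable {G : Type*} [Group G]

theorem eq_one_of_sq [Finite G] {L : Subgroup G} (hodd : Odd (Nat.card L)) {c : G} (hc : c ∈ L)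
    (h : c * c = 1) : c = 1 := by
  have h1 : orderOf c ∣ 2 := orderOf_dvd_of_pow_eq_one (by rw [pow_two, h])
  have h2 : orderOf c ∣ Nat.card L := by
    rw [← Subgroup.orderOf_mk c hc]; exact orderOf_dvd_natCard _
  exact orderOf_eq_one_iff.1 (Nat.eq_one_of_dvd_coprimes (Nat.coprime_two_left.2 hodd) h1 h2)

/-- An involution displacing by commuting elements only fixed points acts trivially. -/
theorem fixed_of_commutator_fixed [Finite G] {L : Subgroup G} (hodd : Odd (Nat.card L)) {a l : G}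
    (ha : a * a = 1) (hc : a * l * a⁻¹ * l⁻¹ ∈ L) (hfix : a * (a * l * a⁻¹ * l⁻¹) * a⁻¹ = a * l * a⁻¹ * l⁻¹) :
    a * l * a⁻¹ = l := by
  have h : (a * l * a⁻¹ * l⁻¹) * (a * l * a⁻¹ * l⁻¹) = 1 := by
    calc (a * l * a⁻¹ * l⁻¹) * (a * l * a⁻¹ * l⁻¹)
        = (a * (a * l * a⁻¹ * l⁻¹) * a⁻¹) * (a * l * a⁻¹ * l⁻¹) := by rw [hfix]
      _ = (a * a) * l * (a * a)⁻¹ * l⁻¹ := by group
      _ = 1 := by rw [ha]; group
  exact mul_inv_eq_one.1 (eq_one_of_sq hodd hc h)

/-- The image in `G` of the Fitting subgroup of a subgroup. -/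
noncomputable def fit (L : Subgroup G) : Subgroup G := (Cfsg.fittingSubgroup L).map L.subtype

theorem fit_le (L : Subgroup G) : fit L ≤ L := Subgroup.map_subtype_le _

theorem conj_fit [Finite G] {L : Subgroup G} {g : G} (hg : g ∈ Subgroup.normalizer (L : Set G)) {x : G}
    (hx : x ∈ fit L) : g * x * g⁻¹ ∈ fit L := by
  have hgL : ∀ y ∈ L, g * y * g⁻¹ ∈ L := fun y hy => (Subgroup.mem_normalizer_iff.1 hg y).1 hy
  have hgL' : ∀ y ∈ L, g⁻¹ * y * g ∈ L := fun y hy =>
    (Subgroup.mem_normalizer_iff.1 hg _).2 (by rwa [show g * (g⁻¹ * y * g) * g⁻¹ = y by group])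
  let φ : L →* L :=
    { toFun := fun y => ⟨g * y * g⁻¹, hgL y y.2⟩
      map_one' := Subtype.ext (by simp)
      map_mul' := fun a b => Subtype.ext (by show g * (a * b : G) * g⁻¹ = _; simp only [Subgroup.coe_mul]; group) }
  have hs : Function.Surjective φ := fun y =>
    ⟨⟨g⁻¹ * y * g, hgL' y y.2⟩, Subtype.ext (show g * (g⁻¹ * y * g) * g⁻¹ = (y : G) by group)⟩
  haveI : ((Cfsg.fittingSubgroup L).map φ).Normal := Subgroup.Normal.map inferInstance φ hs
  haveI := CfsgLib.isNilpotent_fittingSubgroup (G := L)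
  have hle : (Cfsg.fittingSubgroup L).map φ ≤ Cfsg.fittingSubgroup L :=
    CfsgLib.le_fittingSubgroup (Group.nilpotent_of_surjective (φ.subgroupMap _)
      (MonoidHom.subgroupMap_surjective φ _))
  obtain ⟨y, hy, rfl⟩ := hx
  exact ⟨φ y, hle ⟨y, hy, rfl⟩, rfl⟩

theorem le_normalizer_fit [Finite G] {L : Subgroup G} {A : Subgroup G}
    (hA : A ≤ Subgroup.normalizer (L : Set G)) : A ≤ Subgroup.normalizer (fit L : Set G) :=
  fun _ ha => Subgroup.mem_normalizer_fintype fun _ hx => conj_fit (hA ha) hx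

theorem isNilpotent_fit [Finite G] (L : Subgroup G) : Group.IsNilpotent (fit L) := by
  haveI := CfsgLib.isNilpotent_fittingSubgroup (G := L)
  exact Group.nilpotent_of_surjective (L.subtype.subgroupMap _) (MonoidHom.subgroupMap_surjective _ _)

theorem centralizer_fit_le [Finite G] {L : Subgroup G} (hs : Group.IsSolvable L) {l : G} (hl : l ∈ L)
    (h : ∀ x ∈ fit L, l * x = x * l) : l ∈ fit L :=
  ⟨⟨l, hl⟩, CfsgLib.centralizer_fitting_le
    (show (⟨l, hl⟩ : L) ∈ Subgroup.centralizer _ from fun y hy => Subtype.ext (h y ⟨y, hy, rfl⟩).symm), rfl⟩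

/-- Faithfulness passes to the Fitting subgroup. -/
theorem fixed_of_fixed_fit [Finite G] {L : Subgroup G} (hs : Group.IsSolvable L) (hodd : Odd (Nat.card L))
    {a : G} (ha : a * a = 1) (haL : a ∈ Subgroup.normalizer (L : Set G))
    (hfix : ∀ x ∈ fit L, a * x = x * a) {l : G} (hl : l ∈ L) : a * l = l * a := by
  have hc : a * l * a⁻¹ * l⁻¹ ∈ L := L.mul_mem ((Subgroup.mem_normalizer_iff.1 haL l).1 hl) (L.inv_mem hl)
  have hcF : a * l * a⁻¹ * l⁻¹ ∈ fit L := centralizer_fit_le hs hc fun x hx => by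
    have hx' : l⁻¹ * x * l ∈ fit L := by
      have := conj_fit (Subgroup.le_normalizer (L.inv_mem hl)) hx
      rwa [inv_inv] at this
    have h1 : Commute a (l⁻¹ * x * l) := hfix _ hx'
    have h2 : Commute (a⁻¹) x := (show Commute a x from hfix x hx).inv_left
    calc a * l * a⁻¹ * l⁻¹ * x = a * l * (a⁻¹ * (l⁻¹ * x * l)) * l⁻¹ := by group
      _ = a * l * ((l⁻¹ * x * l) * a⁻¹) * l⁻¹ := by rw [h1.inv_left.eq]
      _ = a * x * (l * a⁻¹ * l⁻¹) := by group
      _ = x * a * (l * a⁻¹ * l⁻¹) := by rw [hfix x hx]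
      _ = x * (a * l * a⁻¹ * l⁻¹) := by group
  exact mul_inv_eq_iff_eq_mul.1
    (fixed_of_commutator_fixed hodd ha hc (mul_inv_eq_iff_eq_mul.2 (hfix _ hcF)))

/-- A self-centralizing invariant abelian subgroup of the Fitting subgroup. -/
theorem exists_abelian [Finite G] {L A : Subgroup G} (hA : A ≤ Subgroup.normalizer (L : Set G))
    (hA2 : ∀ a ∈ A, a * a = 1) :
    ∃ M : Subgroup G, M ≤ fit L ∧ (∀ x ∈ M, ∀ y ∈ M, x * y = y * x) ∧
      fit L ≤ Subgroup.normalizer (M : Set G) ∧ A ≤ Subgroup.normalizer (M : Set G) ∧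
      ∀ x ∈ fit L, (∀ y ∈ M, x * y = y * x) → x ∈ M := by
  classical
  have hAc : ∀ a ∈ A, ∀ b ∈ A, a * b = b * a := fun a ha b hb => by
    have hi : ∀ c ∈ A, c⁻¹ = c := fun c hc => inv_eq_of_mul_eq_one_right (hA2 c hc)
    calc a * b = (a * b)⁻¹ := (hi _ (A.mul_mem ha hb)).symm
      _ = b * a := by rw [mul_inv_rev, hi a ha, hi b hb]
  set N := fit L
  have hAN : A ≤ Subgroup.normalizer (N : Set G) := le_normalizer_fit hA
  haveI : Group.IsNilpotent N := isNilpotent_fit L
  obtain ⟨M, ⟨hMN, hMc, hNM, hAM⟩, hmax⟩ := (Set.toFinite {M : Subgroup G | M ≤ N ∧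
      (∀ x ∈ M, ∀ y ∈ M, x * y = y * x) ∧ N ≤ Subgroup.normalizer (M : Set G) ∧
      A ≤ Subgroup.normalizer (M : Set G)}).exists_maximal ⟨⊥, bot_le, fun x hx y hy => by
        rw [Subgroup.mem_bot] at hx hy; rw [hx, hy],
      fun g _ => Subgroup.mem_normalizer_fintype fun x hx => by
        rw [SetLike.mem_coe, Subgroup.mem_bot] at hx; simp [hx],
      fun g _ => Subgroup.mem_normalizer_fintype fun x hx => by
        rw [SetLike.mem_coe, Subgroup.mem_bot] at hx; simp [hx]⟩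
  refine ⟨M, hMN, hMc, hNM, hAM, ?_⟩
  by_contra hcon
  push Not at hcon
  obtain ⟨x₀, hx₀N, hx₀c, hx₀M⟩ := hcon
  -- the layer above `M`
  let Y : G → Prop := fun y => y ∈ N ∧ (∀ m ∈ M, y * m = m * y) ∧ ∀ n ∈ N, n * y * n⁻¹ * y⁻¹ ∈ M
  have hMconj : ∀ g ∈ Subgroup.normalizer (M : Set G), ∀ m ∈ M, g * m * g⁻¹ ∈ M :=
    fun g hg m hm => (Subgroup.mem_normalizer_iff.1 hg m).1 hm
  obtain ⟨y₀, hy₀, hy₀M⟩ : ∃ y, Y y ∧ y ∉ M := by
    haveI hM'n : (M.subgroupOf N).Normal := (Subgroup.normal_subgroupOf_iff_le_normalizer hMN).2 hNM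
    let π := QuotientGroup.mk' (M.subgroupOf N)
    let C : Subgroup N := (Subgroup.centralizer (M : Set G)).subgroupOf N
    haveI hCn : C.Normal := ⟨fun c hc g => fun m hm => by
      have hm' : (g : G)⁻¹ * m * g ∈ M := by
        have := hMconj _ (hNM (N.inv_mem g.2)) m hm
        rwa [inv_inv] at this
      have h : ((g : G)⁻¹ * m * g) * (c : G) = (c : G) * ((g : G)⁻¹ * m * g) := hc _ hm'
      show m * ((g : G) * c * (g : G)⁻¹) = (g : G) * c * (g : G)⁻¹ * m
      calc m * ((g : G) * c * (g : G)⁻¹) = g * (((g : G)⁻¹ * m * g) * c) * (g : G)⁻¹ := by group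
        _ = g * ((c : G) * ((g : G)⁻¹ * m * g)) * (g : G)⁻¹ := by rw [h]
        _ = _ := by group⟩
    haveI : (C.map π).Normal := hCn.map π (QuotientGroup.mk'_surjective _)
    haveI : Group.IsNilpotent (↥N ⧸ M.subgroupOf N) :=
      Group.nilpotent_of_surjective π (QuotientGroup.mk'_surjective _)
    have hne : C.map π ≠ ⊥ := by
      rw [Ne, Subgroup.map_eq_bot_iff, QuotientGroup.ker_mk']
      exact fun h => hx₀M (h (show (⟨x₀, hx₀N⟩ : N) ∈ C from fun m hm => (hx₀c m hm).symm))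
    obtain ⟨q, hq, hq1⟩ := (Subgroup.bot_or_exists_ne_one _).resolve_left
      (CfsgLib.inf_center_ne_bot_of_nilpotent hne)
    obtain ⟨⟨y, hy, rfl⟩, hyz⟩ := Subgroup.mem_inf.1 hq
    refine ⟨y, ⟨y.2, fun m hm => (hy m hm).symm, fun n hn => ?_⟩,
      fun h => hq1 ((QuotientGroup.eq_one_iff y).2 h)⟩
    have h2 : π (⟨n, hn⟩ * y * (⟨n, hn⟩ : N)⁻¹ * y⁻¹) = 1 := by
      rw [map_mul, map_mul, map_mul, map_inv, map_inv, Subgroup.mem_center_iff.1 hyz (π ⟨n, hn⟩),
        mul_inv_cancel_right, mul_inv_cancel]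
    exact (QuotientGroup.eq_one_iff (N := M.subgroupOf N) _).1 h2
  have hYconj : ∀ a ∈ A, ∀ y, Y y → Y (a * y * a⁻¹) := by
    intro a ha y ⟨hyN, hyc, hyn⟩
    have hai : a⁻¹ ∈ A := A.inv_mem ha
    refine ⟨(Subgroup.mem_normalizer_iff.1 (hAN ha) y).1 hyN, fun m hm => ?_, fun n hn => ?_⟩
    · have h := hyc _ (hMconj _ (hAM hai) m hm)
      rw [inv_inv] at h
      calc a * y * a⁻¹ * m = a * (y * (a⁻¹ * m * a)) * a⁻¹ := by group
        _ = a * ((a⁻¹ * m * a) * y) * a⁻¹ := by rw [h]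
        _ = m * (a * y * a⁻¹) := by group
    · have h := hMconj _ (hAM ha) _ (hyn _ ((Subgroup.mem_normalizer_iff.1 (hAN hai) n).1 hn))
      convert h using 1
      group
  have hYdiv : ∀ y z, Y y → Y z → Y (y * z⁻¹) := by
    intro y z ⟨hyN, hyc, hyn⟩ ⟨hzN, hzc, hzn⟩
    refine ⟨N.mul_mem hyN (N.inv_mem hzN), fun m hm =>
      ((show Commute y m from hyc m hm).mul_left (show Commute z m from hzc m hm).inv_left).eq, fun n hn => ?_⟩
    have h1 : (n * z * n⁻¹ * z⁻¹)⁻¹ ∈ M := M.inv_mem (hzn n hn)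
    have h2 := hMconj _ (hNM (N.mul_mem hyN (N.inv_mem hzN))) _ h1
    have h3 := M.mul_mem (hyn n hn) h2
    convert h3 using 1
    group
  -- an element of the layer spanning an invariant subgroup
  have key : ∀ s : Finset G, (∀ a ∈ s, a ∈ A) → ∃ y, Y y ∧ y ∉ M ∧
      ∀ a ∈ s, a * y * a⁻¹ * y⁻¹ ∈ M ∨ a * y * a⁻¹ * y ∈ M := by
    intro s
    induction s using Finset.induction_on with
    | empty => exact fun _ => ⟨y₀, hy₀, hy₀M, by simp⟩
    | @insert a s has ih =>
      intro hs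
      obtain ⟨y, hy, hyM, hys⟩ := ih fun b hb => hs b (Finset.mem_insert_of_mem hb)
      have ha := hs a (Finset.mem_insert_self a s)
      by_cases hu : a * y * a⁻¹ * y⁻¹ ∈ M
      · exact ⟨y, hy, hyM, fun b hb => (Finset.mem_insert.1 hb).elim (fun e => e ▸ Or.inl hu) (hys b)⟩
      set u := a * y * a⁻¹ * y⁻¹ with hudef
      have hu' : Y u := hYdiv _ _ (hYconj a ha y hy) hy
      refine ⟨u, hu', hu, fun b hb => ?_⟩
      rcases Finset.mem_insert.1 hb with hba | hb
      · right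
        rw [hba]
        have hai : a⁻¹ = a := inv_eq_of_mul_eq_one_right (hA2 a ha)
        have : a * u * a⁻¹ * u = 1 := by
          rw [hudef]
          calc a * (a * y * a⁻¹ * y⁻¹) * a⁻¹ * (a * y * a⁻¹ * y⁻¹)
              = (a * a) * y * a⁻¹ * y⁻¹ * y * a⁻¹ * y⁻¹ := by group
            _ = y * (a⁻¹ * a⁻¹) * y⁻¹ := by rw [hA2 a ha]; group
            _ = 1 := by rw [hai, hA2 a ha]; group
        rw [this]; exact M.one_mem
      · have hbA := hs b (Finset.mem_insert_of_mem hb)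
        have hbu : b * u * b⁻¹ = (a * (b * y * b⁻¹) * a⁻¹) * (b * y * b⁻¹)⁻¹ := by
          rw [hudef]
          calc b * (a * y * a⁻¹ * y⁻¹) * b⁻¹ = (b * a) * y * (b * a)⁻¹ * (b * y * b⁻¹)⁻¹ := by group
            _ = (a * b) * y * (a * b)⁻¹ * (b * y * b⁻¹)⁻¹ := by rw [hAc b hbA a ha]
            _ = _ := by group
        rcases hys b hb with h | h
        · left
          obtain ⟨m, hm, hm'⟩ : ∃ m ∈ M, b * y * b⁻¹ = m * y := ⟨_, h, by group⟩
          rw [hbu, hm', hudef]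
          have h1 : a * m * a⁻¹ ∈ M := hMconj _ (hAM ha) m hm
          have h2 : u * m⁻¹ * u⁻¹ ∈ M := hMconj _ (hNM hu'.1) _ (M.inv_mem hm)
          have h3 := M.mul_mem h1 h2
          convert h3 using 1
          rw [hudef]; group
        · right
          obtain ⟨m, hm, hm'⟩ : ∃ m ∈ M, b * y * b⁻¹ = m * y⁻¹ := ⟨_, h, by group⟩
          rw [hbu, hm', hudef]
          have hay : a * y * a⁻¹ ∈ N := (Subgroup.mem_normalizer_iff.1 (hAN ha) y).1 hy.1
          have h1 : a * m * a⁻¹ ∈ M := hMconj _ (hAM ha) m hm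
          have h2 := hy.2.2 _ (N.inv_mem hay)
          have hk2 : (a * y * a⁻¹)⁻¹ * y * m⁻¹ * (a * y * a⁻¹ * y⁻¹) ∈ M := by
            have e2 := hMconj _ (hNM (N.mul_mem (N.inv_mem hay) hy.1)) _ (M.inv_mem hm)
            have e3 := M.mul_mem e2 (h2)
            convert e3 using 1
            group
          have h3 := M.mul_mem h1 hk2
          convert h3 using 1
          group
  obtain ⟨y, ⟨hyN, hyc, hyn⟩, hyM, hyA⟩ := key (Set.toFinite (A : Set G)).toFinset (fun a ha => by simpa using ha)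
  set M' := M ⊔ Subgroup.zpowers y with hM'
  have hyM' : y ∈ M' := Subgroup.mem_sup_right (Subgroup.mem_zpowers y)
  have hM'c : ∀ x ∈ M', ∀ z ∈ M', x * z = z * x := by
    rw [hM', Subgroup.sup_eq_closure]
    have : IsMulCommutative (Subgroup.closure ((M : Set G) ∪ Subgroup.zpowers y)) :=
      Subgroup.isMulCommutative_closure (by
        rintro x (hx | hx) z (hz | hz)
        · exact hMc x hx z hz
        · obtain ⟨i, rfl⟩ := hz
          exact ((show Commute y x from hyc x hx).zpow_left i).eq.symm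
        · obtain ⟨i, rfl⟩ := hx
          exact ((show Commute y z from hyc z hz).zpow_left i).eq
        · obtain ⟨i, rfl⟩ := hx
          obtain ⟨j, rfl⟩ := hz
          exact (Commute.zpow_zpow (Commute.refl y) i j).eq)
    exact fun x hx z hz => congrArg Subtype.val (this.is_comm.comm ⟨x, hx⟩ ⟨z, hz⟩)
  have hnorm : ∀ g, g ∈ Subgroup.normalizer (M : Set G) → g * y * g⁻¹ ∈ M' →
      g ∈ Subgroup.normalizer (M' : Set G) := by
    intro g hg hgy
    refine Subgroup.mem_normalizer_fintype fun x hx => ?_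
    have hle : M' ≤ M'.comap (MulAut.conj g).toMonoidHom := sup_le
      (fun m hm => Subgroup.mem_comap.2 (Subgroup.mem_sup_left (hMconj g hg m hm)))
      (Subgroup.zpowers_le.2 (Subgroup.mem_comap.2 hgy))
    exact hle hx
  have hle := hmax (y := M') ⟨sup_le hMN (Subgroup.zpowers_le.2 hyN), hM'c,
    fun g hg => hnorm g (hNM hg) (by
      have := M'.mul_mem (Subgroup.mem_sup_left (hyn g hg)) hyM'
      rwa [inv_mul_cancel_right] at this),
    fun a ha => hnorm a (hAM ha) (by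
      rcases hyA a (by simpa using ha) with h | h
      · have := M'.mul_mem (Subgroup.mem_sup_left h) hyM'
        rwa [inv_mul_cancel_right] at this
      · have := M'.mul_mem (Subgroup.mem_sup_left h) (M'.inv_mem hyM')
        rwa [mul_inv_cancel_right] at this)⟩ le_sup_left
  exact hyM (hle hyM')

/-- A faithful elementary abelian 2-group on an abelian group of odd order is diagonal. -/
theorem exists_basis [Finite G] {M A : Subgroup G} (hodd : Odd (Nat.card M))
    (hMc : ∀ x ∈ M, ∀ y ∈ M, x * y = y * x) (hAM : A ≤ Subgroup.normalizer (M : Set G))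
    (hA2 : ∀ a ∈ A, a * a = 1) (hfaith : ∀ a ∈ A, (∀ m ∈ M, a * m = m * a) → a = 1) :
    ∀ (k : ℕ) (B : Subgroup G), B ≤ A → Nat.card B = 2 ^ k →
      ∃ a x : Fin k → G, (∀ i, a i ∈ B ∧ a i ≠ 1 ∧ x i ∈ M ∧ x i ≠ 1 ∧ a i * x i * (a i)⁻¹ = (x i)⁻¹ ∧
        ∀ c ∈ A, c * x i * c⁻¹ = x i ∨ c * x i * c⁻¹ = (x i)⁻¹) ∧
        (∀ i j, i ≠ j → a i * x j * (a i)⁻¹ = x j) ∧ Subgroup.closure (Set.range a) = B := by
  classical
  have hAc : ∀ a ∈ A, ∀ b ∈ A, a * b = b * a := fun a ha b hb => by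
    have hi : ∀ c ∈ A, c⁻¹ = c := fun c hc => inv_eq_of_mul_eq_one_right (hA2 c hc)
    calc a * b = (a * b)⁻¹ := (hi _ (A.mul_mem ha hb)).symm
      _ = b * a := by rw [mul_inv_rev, hi a ha, hi b hb]
  have hconj : ∀ a ∈ A, ∀ m ∈ M, a * m * a⁻¹ ∈ M :=
    fun a ha m hm => (Subgroup.mem_normalizer_iff.1 (hAM ha) m).1 hm
  intro k
  induction k with
  | zero =>
    intro B _ hB
    refine ⟨Fin.elim0, Fin.elim0, fun i => i.elim0, fun i => i.elim0, ?_⟩
    rw [pow_zero] at hB
    rw [Subgroup.eq_bot_of_card_eq B hB, Set.range_eq_empty, Subgroup.closure_empty]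
  | succ k ih =>
    intro B hBA hB
    obtain ⟨b, hbB, hb1⟩ := (Subgroup.bot_or_exists_ne_one B).resolve_left fun h => by
      rw [h, Subgroup.card_bot] at hB
      exact (Nat.one_lt_pow (Nat.succ_ne_zero k) one_lt_two).ne hB
    have hbA := hBA hbB
    obtain ⟨m, hm, hmb⟩ : ∃ m ∈ M, b * m * b⁻¹ ≠ m := by
      by_contra h
      push Not at h
      exact hb1 (hfaith b hbA fun m hm => mul_inv_eq_iff_eq_mul.1 (h m hm))
    -- an eigenvector inverted by `b`
    have key : ∀ s : Finset G, (∀ c ∈ s, c ∈ A) → ∃ x ∈ M, x ≠ 1 ∧ b * x * b⁻¹ = x⁻¹ ∧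
        ∀ c ∈ s, c * x * c⁻¹ = x ∨ c * x * c⁻¹ = x⁻¹ := by
      intro s
      induction s using Finset.induction_on with
      | empty =>
        refine fun _ => ⟨b * m * b⁻¹ * m⁻¹, M.mul_mem (hconj b hbA m hm) (M.inv_mem hm),
          fun h => hmb (mul_inv_eq_one.1 h), ?_, by simp⟩
        calc b * (b * m * b⁻¹ * m⁻¹) * b⁻¹ = (b * b) * m * (b * b)⁻¹ * (b * m⁻¹ * b⁻¹) := by group
          _ = (b * m * b⁻¹ * m⁻¹)⁻¹ := by rw [hA2 b hbA]; group
      | @insert c s hcs ih2 =>
        intro hs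
        obtain ⟨x, hx, hx1, hxb, hxs⟩ := ih2 fun d hd => hs d (Finset.mem_insert_of_mem hd)
        have hc := hs c (Finset.mem_insert_self c s)
        by_cases hu : c * x * c⁻¹ = x
        · exact ⟨x, hx, hx1, hxb, fun d hd =>
            (Finset.mem_insert.1 hd).elim (fun e => e ▸ Or.inl hu) (hxs d)⟩
        set y := c * x * c⁻¹ with hy
        have hyM : y ∈ M := hconj c hc x hx
        have hpres : ∀ d ∈ A, ∀ e : G, e ∈ M → (d * x * d⁻¹ = e) →
            d * (y * x⁻¹) * d⁻¹ = c * e * c⁻¹ * e⁻¹ := by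
          intro d hd e _ he
          calc d * (y * x⁻¹) * d⁻¹ = (d * c) * x * (d * c)⁻¹ * (d * x * d⁻¹)⁻¹ := by rw [hy]; group
            _ = (c * d) * x * (c * d)⁻¹ * (d * x * d⁻¹)⁻¹ := by rw [hAc d hd c hc]
            _ = c * (d * x * d⁻¹) * c⁻¹ * (d * x * d⁻¹)⁻¹ := by group
            _ = _ := by rw [he]
        have hinv : c * x⁻¹ * c⁻¹ * x⁻¹⁻¹ = (y * x⁻¹)⁻¹ := by
          have e1 : x * y⁻¹ = y⁻¹ * x := hMc _ hx _ (M.inv_mem hyM)
          simp only [mul_inv_rev, inv_inv, e1]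
          rw [hy]; group
        refine ⟨y * x⁻¹, M.mul_mem hyM (M.inv_mem hx), fun h => hu (mul_inv_eq_one.1 h), ?_, fun d hd => ?_⟩
        · rw [hpres b hbA _ (M.inv_mem hx) hxb, hinv]
        rcases Finset.mem_insert.1 hd with hdc | hd
        · right
          rw [hdc]
          calc c * (y * x⁻¹) * c⁻¹ = (c * c) * x * (c * c)⁻¹ * (c * x * c⁻¹)⁻¹ := by rw [hy]; group
            _ = (y * x⁻¹)⁻¹ := by rw [hA2 c hc, mul_inv_rev, inv_inv, hy]; group
        · have hdA := hs d (Finset.mem_insert_of_mem hd)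
          rcases hxs d hd with h | h
          · left; rw [hpres d hdA x hx h]
          · right; rw [hpres d hdA _ (M.inv_mem hx) h, hinv]
    obtain ⟨x, hx, hx1, hxb, hxA⟩ := key (Set.toFinite (A : Set G)).toFinset (fun c hc => by simpa using hc)
    have hxA' : ∀ c ∈ A, c * x * c⁻¹ = x ∨ c * x * c⁻¹ = x⁻¹ := fun c hc => hxA c (by simpa using hc)
    have hxne : x⁻¹ ≠ x := fun h => hx1 (eq_one_of_sq hodd hx (by nth_rw 1 [← h]; exact inv_mul_cancel x))
    set B' := B ⊓ Subgroup.centralizer ({x} : Set G) with hB'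
    have hmemB' : ∀ c, c ∈ B' ↔ c ∈ B ∧ c * x * c⁻¹ = x := fun c =>
      ⟨fun h => ⟨h.1, mul_inv_eq_iff_eq_mul.2 (Subgroup.mem_centralizer_singleton_iff.1 h.2)⟩,
        fun h => ⟨h.1, Subgroup.mem_centralizer_singleton_iff.2 (mul_inv_eq_iff_eq_mul.1 h.2)⟩⟩
    have hbb : ∀ c ∈ B, c * x * c⁻¹ ≠ x → b * c ∈ B' := by
      intro c hcB hc
      refine (hmemB' _).2 ⟨B.mul_mem hbB hcB, ?_⟩
      calc b * c * x * (b * c)⁻¹ = b * (c * x * c⁻¹) * b⁻¹ := by group
        _ = (b * x * b⁻¹)⁻¹ := by rw [(hxA' c (hBA hcB)).resolve_left hc]; group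
        _ = x := by rw [hxb, inv_inv]
    have hbnot : b ∉ B' := fun h => hxne (hxb ▸ ((hmemB' b).1 h).2)
    have hcard : Nat.card B = 2 * Nat.card B' := by
      have hbij : Function.Bijective (fun p : Bool × B' => (⟨if p.1 then b * p.2 else p.2, by
          split
          · exact B.mul_mem hbB p.2.2.1
          · exact p.2.2.1⟩ : B)) := by
        refine ⟨?_, fun c => ?_⟩
        · rintro ⟨u, v⟩ ⟨u', v'⟩ h
          have h' := congrArg Subtype.val h
          cases u <;> cases u' <;> simp at h'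
          · exact Prod.ext rfl h'
          · exact absurd (by
              have := B'.mul_mem v.2 (B'.inv_mem v'.2)
              rwa [h', mul_inv_cancel_right] at this) hbnot
          · exact absurd (by
              have := B'.mul_mem v'.2 (B'.inv_mem v.2)
              rwa [← h', mul_inv_cancel_right] at this) hbnot
          · exact Prod.ext rfl h'
        · by_cases hc : (c : G) ∈ B'
          · exact ⟨(false, ⟨c, hc⟩), rfl⟩
          · refine ⟨(true, ⟨b * c, hbb c c.2 fun h => hc ((hmemB' _).2 ⟨c.2, h⟩)⟩), Subtype.ext ?_⟩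
            show b * (b * (c : G)) = c
            rw [← mul_assoc, hA2 b hbA, one_mul]
      rw [← Nat.card_congr (Equiv.ofBijective _ hbij), Nat.card_prod, Nat.card_eq_fintype_card (α := Bool),
        Fintype.card_bool]
    obtain ⟨a', x', hprops, hoff, hgen⟩ := ih B' (fun c hc => hBA hc.1) (by
      rw [hB, pow_succ'] at hcard; omega)
    -- adjust `b` to centralize the other eigenvectors
    have adj : ∀ s : Finset (Fin k), ∃ a ∈ B, a * x * a⁻¹ = x⁻¹ ∧ ∀ j ∈ s, a * x' j * a⁻¹ = x' j := by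
      intro s
      induction s using Finset.induction_on with
      | empty => exact ⟨b, hbB, hxb, by simp⟩
      | @insert j s hjs ih3 =>
        obtain ⟨a, haB, hax, has⟩ := ih3
        rcases (hprops j).2.2.2.2.2 a (hBA haB) with h | h
        · exact ⟨a, haB, hax, fun i hi => (Finset.mem_insert.1 hi).elim (fun e => e ▸ h) (has i)⟩
        · have haj : a' j ∈ B ∧ a' j * x * (a' j)⁻¹ = x := (hmemB' _).1 (hprops j).1
          refine ⟨a * a' j, B.mul_mem haB haj.1, ?_, fun i hi => ?_⟩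
          · calc a * a' j * x * (a * a' j)⁻¹ = a * (a' j * x * (a' j)⁻¹) * a⁻¹ := by group
              _ = x⁻¹ := by rw [haj.2, hax]
          · calc a * a' j * x' i * (a * a' j)⁻¹ = a * (a' j * x' i * (a' j)⁻¹) * a⁻¹ := by group
              _ = x' i := by
                rcases Finset.mem_insert.1 hi with e | hi
                · rw [e, (hprops j).2.2.2.2.1]
                  calc a * (x' j)⁻¹ * a⁻¹ = (a * x' j * a⁻¹)⁻¹ := by group
                    _ = x' j := by rw [h, inv_inv]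
                · rw [hoff j i (fun e => hjs (e ▸ hi)), has i hi]
    obtain ⟨a, haB, hax, hax'⟩ := adj Finset.univ
    have haB' : a ∉ B' := fun h => hxne (hax ▸ ((hmemB' a).1 h).2)
    refine ⟨Fin.cons a a', Fin.cons x x', ?_, ?_, ?_⟩
    · intro i
      refine Fin.cases ?_ (fun j => ?_) i
      · exact ⟨haB, fun (e : a = 1) => haB' (by rw [e]; exact B'.one_mem), hx, hx1, hax, hxA'⟩
      · obtain ⟨h1, h2, h3, h4, h5, h6⟩ := hprops j
        exact ⟨h1.1, h2, h3, h4, h5, h6⟩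
    · intro i j
      refine Fin.cases ?_ (fun i' => ?_) i <;> refine Fin.cases ?_ (fun j' => ?_) j
      · exact fun h => absurd rfl h
      · exact fun _ => hax' j' (Finset.mem_univ _)
      · exact fun _ => ((hmemB' _).1 (hprops i').1).2
      · exact fun h => hoff i' j' fun e => h (e ▸ rfl)
    · refine le_antisymm ((Subgroup.closure_le B).2 ?_) fun c hc => ?_
      · rintro _ ⟨i, rfl⟩
        refine Fin.cases ?_ (fun j => ?_) i
        · exact haB
        · exact (hprops j).1.1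
      · have hle : B' ≤ Subgroup.closure (Set.range (Fin.cons a a' : Fin (k + 1) → G)) := by
          conv_lhs => rw [← hgen]
          refine Subgroup.closure_mono ?_
          rintro _ ⟨j, rfl⟩
          exact ⟨j.succ, Fin.cons_succ _ _ _⟩
        have ha : a ∈ Subgroup.closure (Set.range (Fin.cons a a' : Fin (k + 1) → G)) :=
          Subgroup.subset_closure ⟨0, Fin.cons_zero _ _⟩
        by_cases hc' : c ∈ B'
        · exact hle hc'
        · have hcx := (hxA' c (hBA hc)).resolve_left fun h => hc' ((hmemB' c).2 ⟨hc, h⟩)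
          have hac : a * c ∈ B' := (hmemB' _).2 ⟨B.mul_mem haB hc, by
            calc a * c * x * (a * c)⁻¹ = a * (c * x * c⁻¹) * a⁻¹ := by group
              _ = (a * x * a⁻¹)⁻¹ := by rw [hcx]; group
              _ = x := by rw [hax, inv_inv]⟩
          have := (Subgroup.closure _).mul_mem ha (hle hac)
          rwa [← mul_assoc, hA2 a (hBA haB), one_mul] at this

theorem dihedral_of_pair [Finite G] {a x : G} (ha : a * a = 1) (ha1 : a ≠ 1) (hx : a * x * a⁻¹ = x⁻¹)
    (hodd : Odd (orderOf x)) :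
    Nonempty (↥(Subgroup.zpowers a ⊔ Subgroup.zpowers x : Subgroup G) ≃* DihedralGroup (orderOf x)) := by
  classical
  set D := Subgroup.zpowers a ⊔ Subgroup.zpowers x with hD
  haveI : NeZero (orderOf x) := ⟨(orderOf_pos x).ne'⟩
  have hai : a⁻¹ = a := inv_eq_of_mul_eq_one_right ha
  have haD : a ∈ D := Subgroup.mem_sup_left (Subgroup.mem_zpowers a)
  have hxD : x ∈ D := Subgroup.mem_sup_right (Subgroup.mem_zpowers x)
  have hoa : orderOf a = 2 := orderOf_eq_prime (by rw [pow_two, ha]) ha1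
  have hn : Subgroup.zpowers a ≤ Subgroup.normalizer (Subgroup.zpowers x : Set G) := by
    refine Subgroup.zpowers_le.2 (Subgroup.mem_normalizer_fintype ?_)
    rintro _ ⟨i, rfl⟩
    show a * x ^ i * a⁻¹ ∈ Subgroup.zpowers x
    rw [← conj_zpow, hx, inv_zpow]
    exact Subgroup.inv_mem _ (Subgroup.zpow_mem_zpowers x i)
  have hinf : Subgroup.zpowers x ⊓ Subgroup.zpowers a = ⊥ :=
    Subgroup.inf_eq_bot_of_coprime (by
      rw [Nat.card_zpowers, Nat.card_zpowers, hoa]; exact Nat.coprime_two_right.2 hodd)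
  have hcard : Nat.card D = 2 * orderOf x := by
    have h := CfsgLib.CentrallyLarge.card_sup_mul_card_inf hn
    rw [hinf, Subgroup.card_bot, mul_one, Nat.card_zpowers, Nat.card_zpowers, hoa, sup_comm] at h
    rw [hD, h, mul_comm]
  refine CfsgLib.Chev.nonempty_dihedral (n := orderOf x) (⟨a, haD⟩ : D) ⟨a * x, D.mul_mem haD hxD⟩
    (Subtype.ext ha) ?_ ?_ ?_ hcard
  · refine Subtype.ext ?_
    show a * x * (a * x) = 1
    calc a * x * (a * x) = (a * x * a⁻¹) * x := by rw [hai]; simp only [mul_assoc]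
      _ = 1 := by rw [hx, inv_mul_cancel]
  · refine Subtype.ext ?_
    show (a * (a * x)) ^ orderOf x = 1
    rw [← mul_assoc, ha, one_mul, pow_orderOf_eq_one]
  · rw [eq_top_iff]
    intro u _
    set K := Subgroup.closure ({⟨a, haD⟩, ⟨a * x, D.mul_mem haD hxD⟩} : Set D) with hK
    have hKa : (⟨a, haD⟩ : D) ∈ K := Subgroup.subset_closure (Set.mem_insert _ _)
    have hKax : (⟨a * x, D.mul_mem haD hxD⟩ : D) ∈ K := Subgroup.subset_closure (Set.mem_insert_of_mem _ rfl)
    have hle : D ≤ K.map D.subtype := sup_le (Subgroup.zpowers_le.2 ⟨_, hKa, rfl⟩)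
      (Subgroup.zpowers_le.2 ⟨_, K.mul_mem hKa hKax, by
        show a * (a * x) = x
        rw [← mul_assoc, ha, one_mul]⟩)
    obtain ⟨v, hv, hv'⟩ := hle u.2
    rwa [show u = v from Subtype.ext hv'.symm]

end CfsgLib.DihedralLemma
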