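import Mathlib
import Cfsg.Prelude.Def_CaseTheorems
import Cfsg.Agent.Lib.Components
import Cfsg.Agent.Lib.Comp.LayerMore
import Cfsg.Agent.Lib.Comp.StandardMax
import Cfsg.Agent.Lib.SLPerfect
import Cfsg.Agent.S0249

/-!
The centralizer of a reflection in `GL(m + 1, F)` has a component modulo its odd core.
-/

set_option autoImplicit false

open Cfsg

namespace CfsgLib.GLComponent

open Matrix

variable {F : Type*} [Field F] {m : ℕ}

/-- A block diagonal matrix with blocks of sizes `1` and `m`. -/
def bfun (a : F) (g : Matrix (Fin m) (Fin m) F) : Matrix (Fin (m + 1)) (Fin (m + 1)) F :=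
  Matrix.of fun i j => Fin.cases (Fin.cases a (fun _ => 0) j) (fun i' => Fin.cases 0 (fun j' => g i' j') j) i

theorem bfun_mul (a b : F) (g h : Matrix (Fin m) (Fin m) F) :
    bfun (a * b) (g * h) = bfun a g * bfun b h := by
  ext i j
  refine Fin.cases ?_ (fun i' => ?_) i <;> refine Fin.cases ?_ (fun j' => ?_) j <;>
    simp [bfun, Matrix.mul_apply, Fin.sum_univ_succ]

theorem bfun_one : bfun (1 : F) (1 : Matrix (Fin m) (Fin m) F) = 1 := by
  ext i j
  refine Fin.cases ?_ (fun i' => ?_) i <;> refine Fin.cases ?_ (fun j' => ?_) j <;>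
    simp [bfun, Matrix.one_apply, Fin.succ_ne_zero, eq_comm]

/-- The block embedding as a hom. -/
def bHom : F × Matrix (Fin m) (Fin m) F →* Matrix (Fin (m + 1)) (Fin (m + 1)) F where
  toFun p := bfun p.1 p.2
  map_one' := bfun_one
  map_mul' p q := bfun_mul p.1 q.1 p.2 q.2

theorem bfun_injective {a b : F} {g h : Matrix (Fin m) (Fin m) F} (e : bfun a g = bfun b h) : a = b ∧ g = h :=
  ⟨by simpa [bfun] using congrFun (congrFun e 0) 0,
    Matrix.ext fun i j => by simpa [bfun] using congrFun (congrFun e i.succ) j.succ⟩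

/-- The reflection. -/
noncomputable def refl (F : Type*) [Field F] (m : ℕ) : GL (Fin (m + 1)) F :=
  (Units.map (bHom (F := F) (m := m))) ⟨(-1, 1), (-1, 1), by simp, by simp⟩

theorem refl_coe : ((refl F m : GL (Fin (m + 1)) F) : Matrix (Fin (m + 1)) (Fin (m + 1)) F) = bfun (-1) 1 := rfl

/-- The embedding of `SL(m, F)` into the second block. -/
noncomputable def emb : Matrix.SpecialLinearGroup (Fin m) F →* GL (Fin (m + 1)) F :=
  ((bHom (F := F) (m := m)).comp
    ({ toFun := fun g => ((1 : F), (g : Matrix (Fin m) (Fin m) F))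
       map_one' := rfl
       map_mul' := fun g h => Prod.ext (one_mul 1).symm rfl } :
      Matrix.SpecialLinearGroup (Fin m) F →* F × Matrix (Fin m) (Fin m) F)).toHomUnits

theorem emb_coe (g : Matrix.SpecialLinearGroup (Fin m) F) :
    ((emb g : GL (Fin (m + 1)) F) : Matrix (Fin (m + 1)) (Fin (m + 1)) F) = bfun 1 g.1 := rfl

theorem eq_bfun_of_commute (h2 : (2 : F) ≠ 0) {M : Matrix (Fin (m + 1)) (Fin (m + 1)) F}
    (h : bfun (-1) 1 * M = M * bfun (-1) 1) : M = bfun (M 0 0) (Matrix.of fun i j => M i.succ j.succ) := by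
  have hne : ∀ x : F, -x = x → x = 0 := fun x hx => by
    have : 2 * x = 0 := by linear_combination -hx
    exact (mul_eq_zero.1 this).resolve_left h2
  ext i j
  refine Fin.cases ?_ (fun i' => ?_) i <;> refine Fin.cases ?_ (fun j' => ?_) j
  · simp [bfun]
  · have e := congrFun (congrFun h 0) j'.succ
    simp [bfun, Matrix.mul_apply, Fin.sum_univ_succ, Matrix.one_apply] at e
    simpa [bfun] using hne _ e
  · have e := congrFun (congrFun h i'.succ) 0
    simp [bfun, Matrix.mul_apply, Fin.sum_univ_succ, Matrix.one_apply] at e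
    simpa [bfun] using hne _ e.symm
  · simp [bfun]

theorem orderOf_refl (h2 : (2 : F) ≠ 0) : orderOf (refl F m) = 2 := by
  refine orderOf_eq_prime (Units.ext ?_) fun e => ?_
  · rw [pow_two, Units.val_mul, refl_coe, ← bfun_mul, neg_mul_neg, one_mul, one_mul, bfun_one]; rfl
  · have := congrArg (fun u : GL (Fin (m + 1)) F => (u : Matrix (Fin (m + 1)) (Fin (m + 1)) F) 0 0) e
    simp [refl_coe, bfun] at this
    exact h2 (by linear_combination -this)

theorem refl_not_center (h2 : (2 : F) ≠ 0) (hm : 1 ≤ m) :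
    refl F m ∉ Subgroup.center (GL (Fin (m + 1)) F) := by
  intro hc
  let i1 : Fin (m + 1) := (⟨0, hm⟩ : Fin m).succ
  have h01 : (0 : Fin (m + 1)) ≠ i1 := (Fin.succ_ne_zero _).symm
  let u : GL (Fin (m + 1)) F :=
    Matrix.SpecialLinearGroup.toGL (Matrix.SpecialLinearGroup.transvection h01 (1 : F))
  have h := congrArg (fun v : GL (Fin (m + 1)) F => (v : Matrix (Fin (m + 1)) (Fin (m + 1)) F))
    ((Subgroup.mem_center_iff.1 hc) u)
  simp only [Units.val_mul] at h
  have := eq_bfun_of_commute h2 h.symm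
  have e := congrFun (congrFun this 0) i1
  have e2 : (u : Matrix (Fin (m + 1)) (Fin (m + 1)) F) 0 i1 = 1 := by
    show (1 + Matrix.single 0 i1 (1 : F) : Matrix _ _ F) 0 i1 = 1
    simp [Matrix.one_apply, h01]
  rw [e2] at e
  simp [bfun, i1] at e

theorem quasisimple_commutator [Finite F] (hm : 2 ≤ m) (hq : m = 2 → 4 ≤ Nat.card F) :
    IsQuasisimple ↥(commutator (Matrix.SpecialLinearGroup (Fin m) F)) ∧
      commutator (Matrix.SpecialLinearGroup (Fin m) F) ⊔
        Subgroup.center (Matrix.SpecialLinearGroup (Fin m) F) = ⊤ := by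
  haveI hs : IsSimpleGroup (Matrix.ProjectiveSpecialLinearGroup (Fin m) F) := by
    rcases eq_or_ne m 2 with rfl | h
    · exact Matrix.ProjectiveSpecialLinearGroup.rank_two_simple (hq rfl)
    · exact Cfsg.Agent.S0249.result m (by omega)
  have hna : ¬ IsMulCommutative (Matrix.SpecialLinearGroup (Fin m) F ⧸
      Subgroup.center (Matrix.SpecialLinearGroup (Fin m) F)) := by
    intro hc
    have h01 : (⟨0, by omega⟩ : Fin m) ≠ ⟨1, by omega⟩ := by simp [Fin.ext_iff]
    set u : Matrix.SpecialLinearGroup (Fin m) F := Matrix.SpecialLinearGroup.transvection h01 1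
    set v : Matrix.SpecialLinearGroup (Fin m) F := Matrix.SpecialLinearGroup.transvection h01.symm 1
    have hmem : (v * u)⁻¹ * (u * v) ∈ Subgroup.center (Matrix.SpecialLinearGroup (Fin m) F) := by
      rw [← QuotientGroup.eq]
      exact hc.is_comm.comm (v : _ ⧸ Subgroup.center _) (u : _ ⧸ Subgroup.center _)
    obtain ⟨r, -, hr⟩ := Matrix.SpecialLinearGroup.mem_center_iff.1 hmem
    have heq : (u : Matrix (Fin m) (Fin m) F) * v = (v * u) * Matrix.scalar (Fin m) r := by
      rw [hr, ← Matrix.SpecialLinearGroup.coe_mul, ← Matrix.SpecialLinearGroup.coe_mul,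
        ← Matrix.SpecialLinearGroup.coe_mul, mul_inv_cancel_left]
    have e0 := congrFun (congrFun heq ⟨0, by omega⟩) ⟨1, by omega⟩
    have e1 := congrFun (congrFun heq ⟨0, by omega⟩) ⟨0, by omega⟩
    have hu : (u : Matrix (Fin m) (Fin m) F) = 1 + Matrix.single ⟨0, by omega⟩ ⟨1, by omega⟩ (1 : F) := rfl
    have hv : (v : Matrix (Fin m) (Fin m) F) = 1 + Matrix.single ⟨1, by omega⟩ ⟨0, by omega⟩ (1 : F) := rfl
    rw [hu, hv] at e0 e1
    simp [Matrix.add_mul, Matrix.mul_add, Matrix.one_apply, Matrix.single_apply, Fin.ext_iff] at e0 e1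
    rw [← e0] at e1
    simp at e1
  exact (CfsgLib.Comp.derived_of_simple_center hs hna).symm

theorem hasComponent [Finite F] (h2 : (2 : F) ≠ 0) (hm : 2 ≤ m) (hq : m = 2 → 4 ≤ Nat.card F) :
    HasComponent (↥(Subgroup.centralizer ({refl F m} : Set (GL (Fin (m + 1)) F))) ⧸
      oddCore ↥(Subgroup.centralizer ({refl F m} : Set (GL (Fin (m + 1)) F)))) := by
  obtain ⟨hqs, hsup⟩ := quasisimple_commutator hm hq
  set C := Subgroup.centralizer ({refl F m} : Set (GL (Fin (m + 1)) F)) with hC
  have hemb : ∀ g, emb g ∈ C := fun g => Subgroup.mem_centralizer_singleton_iff.2 (Units.ext (by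
    rw [Units.val_mul, Units.val_mul, emb_coe, refl_coe, ← bfun_mul, ← bfun_mul, one_mul, mul_one, mul_one,
      one_mul]))
  let φ : Matrix.SpecialLinearGroup (Fin m) F →* C := emb.codRestrict C hemb
  set D := commutator (Matrix.SpecialLinearGroup (Fin m) F) with hD
  -- the image of `SL` is normal
  have hnorm : ∀ (c : C) (g : Matrix.SpecialLinearGroup (Fin m) F), ∃ g', c * φ g * c⁻¹ = φ g' := by
    intro c g
    have hblock : ∀ d : C, ∃ a h, (d : GL (Fin (m + 1)) F).val = bfun a h := fun d =>
      ⟨_, _, eq_bfun_of_commute h2 (M := (d : GL (Fin (m + 1)) F).val) (by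
        have := congrArg (fun v : GL (Fin (m + 1)) F => (v : Matrix (Fin (m + 1)) (Fin (m + 1)) F))
          (Subgroup.mem_centralizer_singleton_iff.1 d.2).symm
        simpa [refl_coe] using this)⟩
    obtain ⟨a, h, hc⟩ := hblock c
    obtain ⟨a', h', hc'⟩ := hblock c⁻¹
    have h1 : bfun (a * a') (h * h') = bfun 1 1 := by
      rw [bfun_mul, ← hc, ← hc', bfun_one, ← Units.val_mul, ← Subgroup.coe_mul, mul_inv_cancel]; rfl
    obtain ⟨haa, hhh⟩ := bfun_injective h1
    refine ⟨⟨h * g.1 * h', ?_⟩, Subtype.ext (Units.ext ?_)⟩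
    · rw [Matrix.det_mul, Matrix.det_mul, g.2, mul_one, ← Matrix.det_mul, hhh, Matrix.det_one]
    · show (c : GL (Fin (m + 1)) F).val * bfun 1 g.1 * ((c⁻¹ : C) : GL (Fin (m + 1)) F).val
        = bfun 1 (h * g.1 * h')
      rw [hc, hc', ← bfun_mul, ← bfun_mul, mul_one, haa]
  have hrange : φ.range.Normal := ⟨by
    rintro _ ⟨g, rfl⟩ c
    obtain ⟨g', hg'⟩ := hnorm c g
    exact ⟨g', hg'.symm⟩⟩
  have hK : (D.map φ).Normal := by
    have e : D.map φ = ⁅φ.range, φ.range⁆ := by
      rw [hD, _root_.commutator_def, Subgroup.map_commutator, ← MonoidHom.range_eq_map]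
    rw [e]
    haveI := hrange
    infer_instance
  set π := QuotientGroup.mk' (oddCore C) with hπ
  have hKn : ((D.map φ).map π).Normal := hK.map π (QuotientGroup.mk'_surjective _)
  refine ⟨(D.map φ).map π, hKn.isSubnormal, ?_⟩
  rw [Subgroup.map_map]
  haveI hne : Nontrivial ↥(D.map (π.comp φ)) := by
    rw [Subgroup.nontrivial_iff_ne_bot, Ne, ← Subgroup.map_map, Subgroup.map_eq_bot_iff, hπ,
      QuotientGroup.ker_mk']
    intro hle
    have hinj : Function.Injective φ := fun x y hxy => Subtype.ext (bfun_injective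
      (congrArg (fun c : C => (c : GL (Fin (m + 1)) F).val) hxy :)).2
    have hodd : Odd (Nat.card D) := by
      rw [← Subgroup.card_map_of_injective hinj]
      exact (CfsgLib.odd_card_oddCore (G := C)).of_dvd_nat (Subgroup.card_dvd_of_le hle)
    have h01 : (⟨0, by omega⟩ : Fin m) ≠ ⟨1, by omega⟩ := by simp [Fin.ext_iff]
    set s : Matrix.SpecialLinearGroup (Fin m) F := Matrix.SpecialLinearGroup.transvection h01 1 *
      Matrix.SpecialLinearGroup.transvection h01.symm (-1) * Matrix.SpecialLinearGroup.transvection h01 1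
    set Z := Subgroup.center (Matrix.SpecialLinearGroup (Fin m) F)
    have hodd' : Odd (Nat.card (Matrix.SpecialLinearGroup (Fin m) F ⧸ Z)) := by
      refine hodd.of_dvd_nat (Subgroup.card_dvd_of_surjective ((QuotientGroup.mk' Z).comp D.subtype) fun q => ?_)
      obtain ⟨x, rfl⟩ := QuotientGroup.mk'_surjective Z q
      obtain ⟨d, hd, z, hz, rfl⟩ := Subgroup.mem_sup_of_normal_left.1 (hsup.symm ▸ Subgroup.mem_top x)
      exact ⟨⟨d, hd⟩, by simp [(QuotientGroup.eq_one_iff z).2 hz]⟩
    have hs4 : (s ^ 2) ^ 2 = 1 ∧ s ∉ Z := by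
      have hcoe : (s : Matrix (Fin m) (Fin m) F) = Matrix.of fun i j : Fin m =>
          if (i : ℕ) = 0 then (if (j : ℕ) = 1 then 1 else 0)
          else if (i : ℕ) = 1 then (if (j : ℕ) = 0 then -1 else 0) else if i = j then 1 else 0 := by
        show (1 + Matrix.single _ _ (1 : F)) * (1 + Matrix.single _ _ (-1 : F)) * (1 + Matrix.single _ _ (1 : F)) = _
        ext i j
        simp only [Matrix.add_mul, Matrix.mul_add, Matrix.one_mul, Matrix.mul_one,
          Matrix.single_mul_single_same, Matrix.add_apply, Matrix.one_apply, Matrix.single_apply, Fin.ext_iff,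
          Matrix.of_apply, Matrix.zero_apply, one_mul, mul_one]
        split_ifs <;> first | omega | (norm_num; done) | (simp_all; done)
      refine ⟨?_, fun hs => ?_⟩
      · have hsq : (s : Matrix (Fin m) (Fin m) F) * (s : Matrix (Fin m) (Fin m) F) = Matrix.diagonal fun i : Fin m => if (i : ℕ) < 2 then -1 else 1 := by
          rw [hcoe]
          ext i j
          rw [Matrix.mul_apply]
          rcases Nat.lt_or_ge (i : ℕ) 2 with hi | hi
          · rcases (show (i : ℕ) = 0 ∨ (i : ℕ) = 1 by omega) with h | h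
            · rw [Finset.sum_eq_single (⟨1, by omega⟩ : Fin m)]
              · simp [Matrix.diagonal_apply, h, Fin.ext_iff]
                split_ifs <;> first | omega | norm_num
              · intro b _ hb
                have hb' : (b : ℕ) ≠ 1 := fun e => hb (Fin.ext e)
                simp only [Matrix.of_apply, h, if_true, if_neg hb', zero_mul]
              · simp
            · rw [Finset.sum_eq_single (⟨0, by omega⟩ : Fin m)]
              · simp [Matrix.diagonal_apply, h, Fin.ext_iff]
                split_ifs <;> first | omega | norm_num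
              · intro b _ hb
                have hb' : (b : ℕ) ≠ 0 := fun e => hb (Fin.ext e)
                simp only [Matrix.of_apply, h, if_neg hb', if_neg one_ne_zero, if_true, zero_mul]
              · simp
          · rw [Finset.sum_eq_single i]
            · simp [Matrix.diagonal_apply, show (i : ℕ) ≠ 0 by omega, show (i : ℕ) ≠ 1 by omega]
              split_ifs <;> first | omega | simp_all
            · intro b _ hb
              simp [show (i : ℕ) ≠ 0 by omega, show (i : ℕ) ≠ 1 by omega, Ne.symm hb]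
            · simp
        apply Subtype.ext
        rw [pow_two, pow_two, Matrix.SpecialLinearGroup.coe_mul, Matrix.SpecialLinearGroup.coe_mul, hsq,
          Matrix.diagonal_mul_diagonal, Matrix.SpecialLinearGroup.coe_one, ← Matrix.diagonal_one]
        congr 1
        funext i
        split_ifs <;> norm_num
      · obtain ⟨r, -, hr⟩ := Matrix.SpecialLinearGroup.mem_center_iff.1 hs
        have e := congrFun (congrFun hr ⟨0, by omega⟩) ⟨1, by omega⟩
        rw [hcoe] at e
        simp [Fin.ext_iff] at e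
    have h4 : orderOf (QuotientGroup.mk' Z s) ∣ 4 := orderOf_dvd_of_pow_eq_one (by
      rw [← map_pow, show (4 : ℕ) = 2 * 2 from rfl, pow_mul, hs4.1, map_one])
    have := Nat.eq_one_of_dvd_coprimes (show Nat.Coprime 4 _ from (Nat.Coprime.pow_left 2
      (Nat.coprime_two_left.2 hodd'))) h4 (orderOf_dvd_natCard _)
    exact hs4.2 ((QuotientGroup.eq_one_iff s).1 (orderOf_eq_one_iff.1 this))
  exact CfsgLib.Comp.isQuasisimple_quotient ((π.comp φ).subgroupMap D)
    (MonoidHom.subgroupMap_surjective _ _) hqs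

end CfsgLib.GLComponent
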