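import Cfsg.Agent.Lib.Signalizer.Connectivity

/-!
A `p`-group of rank at least three has a normal elementary abelian subgroup of order `p ^ 2`, and the
component of that subgroup in the commuting graph consists of the subgroups with centralizer of rank at least three.
-/

set_option autoImplicit false
set_option maxHeartbeats 1000000

open Cfsg

namespace CfsgLib.Connectivity

variable {P : Type*} [Group P] [Finite P] {p : ℕ} [Fact p.Prime]

omit [Fact p.Prime] in
/-- In a cyclic subgroup there is at most one element of order two. -/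
theorem eq_of_sq {m a b : P} (ha : a ∈ Subgroup.zpowers m) (hb : b ∈ Subgroup.zpowers m)
    (ha2 : a ^ 2 = 1) (hb2 : b ^ 2 = 1) (ha1 : a ≠ 1) (hb1 : b ≠ 1) : a = b := by
  classical
  haveI := Fintype.ofFinite (Subgroup.zpowers m)
  haveI : IsCyclic (Subgroup.zpowers m) := inferInstance
  by_contra hne
  have h := IsCyclic.card_pow_eq_one_le (α := Subgroup.zpowers m) (n := 2) (by norm_num)
  have h3 : ({1, ⟨a, ha⟩, ⟨b, hb⟩} : Finset (Subgroup.zpowers m)).card = 3 := by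
    rw [Finset.card_insert_of_notMem, Finset.card_insert_of_notMem, Finset.card_singleton]
    · simp [hne]
    · simp only [Finset.mem_insert, Finset.mem_singleton, not_or]
      exact ⟨fun e => ha1 (congrArg Subtype.val e).symm, fun e => hb1 (congrArg Subtype.val e).symm⟩
  have hle := Finset.card_le_card (show ({1, ⟨a, ha⟩, ⟨b, hb⟩} : Finset (Subgroup.zpowers m)) ⊆
      Finset.univ.filter (fun x => x ^ 2 = 1) from by
    intro x hx
    simp only [Finset.mem_insert, Finset.mem_singleton] at hx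
    refine Finset.mem_filter.2 ⟨Finset.mem_univ _, ?_⟩
    rcases hx with rfl | rfl | rfl
    · exact one_pow 2
    · exact Subtype.ext ha2
    · exact Subtype.ext hb2)
  omega

omit [Finite P] [Fact p.Prime] in
theorem exponent_cases {n : ℕ} {k : ℤ} (h : (2 : ℤ) ^ n ∣ k ^ 2 - 1) :
    (2 : ℤ) ^ n ∣ 2 * k - 2 ∨ (2 : ℤ) ^ n ∣ 2 * k + 2 := by
  rcases Int.even_or_odd k with ⟨j, hj⟩ | ⟨j, hj⟩
  · rcases Nat.eq_zero_or_pos n with rfl | hn
    · simp
    · exfalso
      have h2 : (2 : ℤ) ∣ k ^ 2 - 1 := (dvd_pow_self 2 hn.ne').trans h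
      rw [hj] at h2
      obtain ⟨c, hc⟩ := h2
      have : (j + j) ^ 2 = 2 * (2 * j * j) := by ring
      omega
  · rw [hj, show (2 * j + 1) ^ 2 - 1 = 4 * (j * (j + 1)) by ring] at h
    rcases Int.even_or_odd j with ⟨i, hi⟩ | ⟨i, hi⟩
    · left
      rw [hj, show 2 * (2 * j + 1) - 2 = 4 * j by ring]
      refine IsCoprime.dvd_of_dvd_mul_right (z := j + 1) ?_ (by rwa [mul_assoc])
      exact (IsCoprime.pow_left ⟨-i, 1, by rw [hi]; ring⟩)
    · right
      rw [hj, show 2 * (2 * j + 1) + 2 = 4 * (j + 1) by ring]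
      refine IsCoprime.dvd_of_dvd_mul_right (z := j) ?_ (by rwa [mul_assoc, mul_comm (j + 1) j])
      exact (IsCoprime.pow_left ⟨-i, 1, by rw [hi]; ring⟩)

/-- The case of a cyclic self-centralizing normal subgroup. -/
theorem exists_normal_klein_of_cyclic (hP : IsPGroup 2 P) {m : P} (hM : (Subgroup.zpowers m).Normal)
    (hC : Subgroup.centralizer ((Subgroup.zpowers m : Subgroup P) : Set P) ≤ Subgroup.zpowers m)
    {E : Subgroup P} (hE : IsElementaryAbelian 2 E) (hEc : 2 ^ 2 < Nat.card E) :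
    ∃ W : Subgroup P, W.Normal ∧ IsElementaryAbelian 2 W ∧ 2 ^ 2 ≤ Nat.card W := by
  classical
  set M := Subgroup.zpowers m with hMdef
  haveI := hM
  haveI : Fact (Nat.Prime 2) := ⟨Nat.prime_two⟩
  have hmM : m ∈ M := Subgroup.mem_zpowers m
  have hMc : ∀ a ∈ M, ∀ b ∈ M, a * b = b * a := by
    rintro _ ⟨i, rfl⟩ _ ⟨j, rfl⟩
    exact (Commute.zpow_zpow (Commute.refl m) i j).eq
  have inM : ∀ g : P, g * m * g⁻¹ = m → g ∈ M := fun g hg => hC (by
    rintro _ ⟨i, rfl⟩
    exact ((show Commute g m from mul_inv_eq_iff_eq_mul.1 hg).zpow_right i).eq.symm)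
  obtain ⟨n, hn⟩ := IsPGroup.iff_orderOf.1 hP m
  have hcases : ∀ e ∈ E, e * m ^ 2 * e⁻¹ = m ^ 2 ∨ e * m ^ 2 * e⁻¹ = (m ^ 2)⁻¹ := by
    intro e he
    obtain ⟨k, hk⟩ := Subgroup.mem_zpowers_iff.1 (hM.conj_mem m hmM e)
    have hee : e * e = 1 := by rw [← pow_two]; exact hE.2 e he
    have hk2 : m ^ (k ^ 2 - 1) = 1 := by
      have h1 : e * (e * m * e⁻¹) * e⁻¹ = m := by
        calc e * (e * m * e⁻¹) * e⁻¹ = (e * e) * m * (e * e)⁻¹ := by group
          _ = m := by rw [hee, inv_one, one_mul, mul_one]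
      rw [← hk, ← conj_zpow, ← hk, ← zpow_mul] at h1
      rw [zpow_sub, zpow_one, pow_two, h1, mul_inv_cancel]
    have hdvd : (2 : ℤ) ^ n ∣ k ^ 2 - 1 := by
      have := orderOf_dvd_iff_zpow_eq_one.2 hk2
      rw [hn] at this
      exact_mod_cast this
    have he2 : e * m ^ 2 * e⁻¹ = m ^ (2 * k) := by
      rw [← conj_pow, ← hk, ← zpow_natCast, ← zpow_mul, mul_comm]; rfl
    have conv : ∀ c : ℤ, (2 : ℤ) ^ n ∣ c → m ^ c = 1 := fun c hc =>
      orderOf_dvd_iff_zpow_eq_one.1 (by rw [hn]; exact_mod_cast hc)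
    rcases exponent_cases hdvd with h | h
    · left
      rw [he2, show 2 * k = (2 * k - 2) + 2 by ring, zpow_add, conv _ h, one_mul]; exact zpow_natCast m 2
    · right
      rw [he2, show 2 * k = (2 * k + 2) + (-2) by ring, zpow_add, conv _ h, one_mul, zpow_neg]
      exact congrArg _ (zpow_natCast m 2)
  -- at most two elements of `E` lie in `M`
  have hEM : Nat.card ↥(E ⊓ M) ≤ 2 := by
    by_contra h
    have h3 : 2 < Nat.card ↥(E ⊓ M) := not_le.1 h
    haveI : Nontrivial ↥(E ⊓ M) := Finite.one_lt_card_iff_nontrivial.1 (by omega)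
    obtain ⟨a, ha⟩ := exists_ne (1 : ↥(E ⊓ M))
    have : Nat.card ↥(E ⊓ M) ≤ Nat.card Bool := by
      refine Nat.card_le_card_of_injective (fun x => decide (x = 1)) fun x y hxy => ?_
      simp only [decide_eq_decide] at hxy
      by_cases hx : x = 1
      · rw [hx, hxy.1 hx]
      · have key : ∀ w : ↥(E ⊓ M), w ≠ 1 → w = a := fun w hw => Subtype.ext (eq_of_sq w.2.2 a.2.2
          (hE.2 _ w.2.1) (hE.2 _ a.2.1) (fun e => hw (Subtype.ext e)) (fun e => ha (Subtype.ext e)))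
        rw [key x hx, key y fun e => hx (hxy.2 e)]
    rw [Nat.card_eq_fintype_card (α := Bool), Fintype.card_bool] at this
    omega
  obtain ⟨e₁, he₁, he₁M⟩ : ∃ e ∈ E, e ∉ M := by
    by_contra h
    push Not at h
    rw [inf_eq_left.2 h] at hEM
    omega
  obtain ⟨e₂, he₂, he₂M, he12⟩ : ∃ e ∈ E, e ∉ M ∧ e₁ * e ∉ M := by
    by_contra h
    push Not at h
    have : Nat.card E ≤ Nat.card (↥(E ⊓ M) × Bool) := by
      let f : E → ↥(E ⊓ M) × Bool := fun e => if hm : (e : P) ∈ M then (⟨e, e.2, hm⟩, false)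
        else (⟨e₁ * e, E.mul_mem he₁ e.2, h e e.2 hm⟩, true)
      refine Nat.card_le_card_of_injective f fun a b hab => ?_
      by_cases ha : (a : P) ∈ M <;> by_cases hb : (b : P) ∈ M <;> simp [f, ha, hb] at hab
      · exact Subtype.ext (congrArg Subtype.val hab :)
      · exact Subtype.ext (mul_left_cancel (congrArg Subtype.val hab :))
    rw [Nat.card_prod, Nat.card_eq_fintype_card (α := Bool), Fintype.card_bool] at this
    omega
  have hinv : ∀ a : P, a ∈ E → a⁻¹ = a := fun a ha => inv_eq_of_mul_eq_one_right (by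
    rw [← pow_two]; exact hE.2 a ha)
  obtain ⟨b, hbE, hbM, hb2⟩ : ∃ b ∈ E, b ∉ M ∧ b * m ^ 2 * b⁻¹ = m ^ 2 := by
    rcases hcases e₁ he₁ with h1 | h1
    · exact ⟨e₁, he₁, he₁M, h1⟩
    rcases hcases e₂ he₂ with h2 | h2
    · exact ⟨e₂, he₂, he₂M, h2⟩
    refine ⟨e₁ * e₂, E.mul_mem he₁ he₂, he12, ?_⟩
    calc e₁ * e₂ * m ^ 2 * (e₁ * e₂)⁻¹ = e₁ * (e₂ * m ^ 2 * e₂⁻¹) * e₁⁻¹ := by group
      _ = (e₁ * m ^ 2 * e₁⁻¹)⁻¹ := by rw [h2]; group
      _ = m ^ 2 := by rw [h1, inv_inv]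
  -- the order of `m` exceeds four
  have hm4 : m ^ 4 ≠ 1 := by
    intro h4
    have hsq : ∀ e ∈ E, e ∉ M → e * m * e⁻¹ = m⁻¹ := by
      intro e _ heM
      obtain ⟨k, hk⟩ := Subgroup.mem_zpowers_iff.1 (hM.conj_mem m hmM e)
      have hne : e * m * e⁻¹ ≠ m := fun h => heM (inM e h)
      have hk4 : m ^ k = m ^ (k % 4) := by
        have h4' : m ^ (4 : ℤ) = 1 := by exact_mod_cast h4
        conv_lhs => rw [← Int.emod_add_mul_ediv k 4, zpow_add, zpow_mul, h4', one_zpow, mul_one]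
      have : k % 4 = 0 ∨ k % 4 = 1 ∨ k % 4 = 2 ∨ k % 4 = 3 := by omega
      have horder : orderOf (e * m * e⁻¹) = orderOf m :=
        orderOf_injective (MulAut.conj e).toMonoidHom (MulAut.conj e).injective m
      rw [← hk, hk4] at horder hne ⊢
      rcases this with h | h | h | h <;> rw [h] at horder hne ⊢
      · rw [zpow_zero, orderOf_one] at horder
        rw [orderOf_eq_one_iff.1 horder.symm]; simp
      · exact absurd (zpow_one m) hne
      · have h2 : (m ^ (2 : ℤ)) ^ 2 = 1 := by rw [← zpow_natCast, ← zpow_mul]; exact_mod_cast h4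
        have h2' := orderOf_dvd_of_pow_eq_one h2
        rw [horder] at h2'
        have h5 := orderOf_dvd_iff_pow_eq_one.1 h2'
        have h6 : m ^ (2 : ℤ) = 1 := by exact_mod_cast h5
        rw [eq_inv_iff_mul_eq_one, h6, one_mul]
        rw [h6, orderOf_one] at horder
        exact orderOf_eq_one_iff.1 horder.symm
      · rw [eq_inv_iff_mul_eq_one, ← zpow_add_one]
        exact_mod_cast h4
    refine he12 (inM _ ?_)
    calc e₁ * e₂ * m * (e₁ * e₂)⁻¹ = e₁ * (e₂ * m * e₂⁻¹) * e₁⁻¹ := by group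
      _ = (e₁ * m * e₁⁻¹)⁻¹ := by rw [hsq e₂ he₂ he₂M]; group
      _ = m := by rw [hsq e₁ he₁ he₁M, inv_inv]
  -- the defect of an element commuting with the square of `m`
  set z := m⁻¹ * (b * m * b⁻¹) with hz
  have hdef : ∀ d : P, d * m ^ 2 * d⁻¹ = m ^ 2 →
      m⁻¹ * (d * m * d⁻¹) ∈ M ∧ (m⁻¹ * (d * m * d⁻¹)) ^ 2 = 1 := by
    intro d hd
    have hcm := hM.conj_mem m hmM d
    refine ⟨M.mul_mem (M.inv_mem hmM) hcm, ?_⟩
    rw [(show Commute m⁻¹ (d * m * d⁻¹) from hMc _ (M.inv_mem hmM) _ hcm).mul_pow, conj_pow, hd, inv_pow,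
      inv_mul_cancel]
  have hzM : z ∈ M := (hdef b hb2).1
  have hz2 : z ^ 2 = 1 := (hdef b hb2).2
  have hz1 : z ≠ 1 := fun h => hbM (inM b (inv_mul_eq_one.1 h).symm)
  have hzfix : ∀ g : P, g * z * g⁻¹ = z := by
    intro g
    refine eq_of_sq (hM.conj_mem z hzM g) hzM (by rw [conj_pow, hz2]; group) hz2 ?_ hz1
    exact fun h => hz1 (conj_eq_one_iff.1 h)
  have hbm : b * m * b⁻¹ = m * z := by rw [hz, mul_inv_cancel_left]
  have hbz : b * z = z * b := mul_inv_eq_iff_eq_mul.1 (hzfix b)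
  have hWc : IsElementaryAbelian 2 (Subgroup.zpowers z ⊔ Subgroup.zpowers b : Subgroup P) := by
    refine elem_sup ⟨inferInstance, ?_⟩ (elem_mono hE (Subgroup.zpowers_le.2 hbE)) ?_
    · rintro _ ⟨i, rfl⟩
      show (z ^ i) ^ 2 = 1
      rw [← zpow_natCast, zpow_comm, zpow_natCast, hz2, one_zpow]
    · rintro _ ⟨i, rfl⟩ _ ⟨j, rfl⟩
      exact (Commute.zpow_zpow hbz.symm i j).eq
  refine ⟨Subgroup.zpowers z ⊔ Subgroup.zpowers b, ?_, hWc, ?_⟩
  swap
  · refine two_le_card hP hWc (Subgroup.mem_sup_left (Subgroup.mem_zpowers z)) hz1 hz2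
      (Subgroup.mem_sup_right (Subgroup.mem_zpowers b)) fun h => hbM ((Subgroup.zpowers_le.2 hzM) h)
  have hgb : ∀ g : P, g * b * g⁻¹ ∈ Subgroup.zpowers z ⊔ Subgroup.zpowers b := by
    intro g
    set d := g * b * g⁻¹ with hd
    have hdd : d * d = 1 := by
      rw [hd, ← pow_two, conj_pow, hE.2 b hbE]; group
    have hdM : d ∉ M := by
      intro h
      have := hM.conj_mem d h g⁻¹
      rw [hd, show g⁻¹ * (g * b * g⁻¹) * g⁻¹⁻¹ = b by group] at this
      exact hbM this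
    have hd2 : d * m ^ 2 * d⁻¹ = m ^ 2 := by
      obtain ⟨i, hi⟩ := Subgroup.mem_zpowers_iff.1 (hM.conj_mem m hmM g⁻¹)
      have hi' : g⁻¹ * m ^ 2 * g⁻¹⁻¹ = (m ^ 2) ^ i := by
        rw [← conj_pow, ← hi, ← zpow_natCast, ← zpow_natCast, ← zpow_mul, ← zpow_mul, mul_comm]
      have hb2i : b * (m ^ 2) ^ i * b⁻¹ = (m ^ 2) ^ i := by rw [← conj_zpow, hb2]
      calc d * m ^ 2 * d⁻¹ = g * (b * (g⁻¹ * m ^ 2 * g⁻¹⁻¹) * b⁻¹) * g⁻¹ := by rw [hd]; group
        _ = g * (g⁻¹ * m ^ 2 * g⁻¹⁻¹) * g⁻¹ := by rw [hi', hb2i]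
        _ = m ^ 2 := by group
    obtain ⟨hsM, hs2⟩ := hdef d hd2
    have hs1 : m⁻¹ * (d * m * d⁻¹) ≠ 1 := fun h => hdM (inM d (inv_mul_eq_one.1 h).symm)
    have hdm : d * m * d⁻¹ = m * z := by
      rw [← eq_of_sq hsM hzM hs2 hz2 hs1 hz1, mul_inv_cancel_left]
    have hdb : d * b ∈ M := inM _ (by
      calc d * b * m * (d * b)⁻¹ = d * (b * m * b⁻¹) * d⁻¹ := by group
        _ = (d * m * d⁻¹) * (d * z * d⁻¹) := by rw [hbm]; group
        _ = m * (z * z) := by rw [hdm, hzfix, mul_assoc]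
        _ = m := by rw [← pow_two, hz2, mul_one])
    obtain ⟨i, hi⟩ := Subgroup.mem_zpowers_iff.1 hdb
    have hdeq : d = m ^ i * b := by rw [hi, mul_assoc, ← pow_two, hE.2 b hbE, mul_one]
    have hbi : b * m ^ i * b⁻¹ = m ^ i * z ^ i := by
      rw [← conj_zpow, hbm, (show Commute m z from hMc m hmM z hzM).mul_zpow]
    have h1 : m ^ i * (m ^ i * z ^ i) = 1 := by
      rw [← hbi, ← hdd, hdeq, hinv b hbE]; simp only [mul_assoc]
    have hzi : z ^ i = 1 := by
      rcases Int.even_or_odd i with ⟨j, hj⟩ | ⟨j, hj⟩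
      · rw [hj, ← two_mul, zpow_mul, show (2 : ℤ) = ((2 : ℕ) : ℤ) from rfl, zpow_natCast, hz2, one_zpow]
      · exfalso
        have h4 : m ^ (4 * i) = 1 := by
          have e1 : (m ^ i * m ^ i) = (z ^ i)⁻¹ := eq_inv_of_mul_eq_one_left (by rwa [mul_assoc])
          rw [show 4 * i = (i + i) * 2 by ring, zpow_mul, zpow_add, e1, inv_zpow, ← zpow_mul,
            mul_comm i 2, zpow_mul, show (2 : ℤ) = ((2 : ℕ) : ℤ) from rfl, zpow_natCast, hz2, one_zpow, inv_one]
        have h5 : (2 : ℤ) ^ n ∣ 4 * i := by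
          have := orderOf_dvd_iff_zpow_eq_one.2 h4
          rw [hn] at this; exact_mod_cast this
        have h6 : (2 : ℤ) ^ n ∣ 4 :=
          IsCoprime.dvd_of_dvd_mul_right (z := i) (IsCoprime.pow_left ⟨-j, 1, by rw [hj]; ring⟩) h5
        refine hm4 (orderOf_dvd_iff_pow_eq_one.1 ?_)
        rw [hn]; exact_mod_cast h6
    rw [hzi, mul_one] at h1
    have hx2 : (m ^ i) ^ 2 = 1 := by rw [pow_two, h1]
    rw [hdeq]
    refine Subgroup.mul_mem _ ?_ (Subgroup.mem_sup_right (Subgroup.mem_zpowers b))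
    by_cases hx1 : m ^ i = 1
    · rw [hx1]; exact one_mem _
    · rw [eq_of_sq (Subgroup.zpow_mem_zpowers m i) hzM hx2 hz2 hx1 hz1]
      exact Subgroup.mem_sup_left (Subgroup.mem_zpowers z)
  refine ⟨fun w hw g => ?_⟩
  have hle : Subgroup.zpowers z ⊔ Subgroup.zpowers b ≤
      (Subgroup.zpowers z ⊔ Subgroup.zpowers b).comap (MulAut.conj g).toMonoidHom := by
    have h1 : g * z * g⁻¹ ∈ Subgroup.zpowers z ⊔ Subgroup.zpowers b := by
      rw [hzfix g]; exact Subgroup.mem_sup_left (Subgroup.mem_zpowers z)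
    exact sup_le (Subgroup.zpowers_le.2 (Subgroup.mem_comap.2 h1))
      (Subgroup.zpowers_le.2 (Subgroup.mem_comap.2 (hgb g)))
  exact hle hw

/-- A `p`-group of rank at least three has a normal elementary abelian subgroup of order `p ^ 2`. -/
theorem exists_normal_sq (hP : IsPGroup p P) {E : Subgroup P} (hE : IsElementaryAbelian p E)
    (hEc : p ^ 2 < Nat.card E) :
    ∃ U : Subgroup P, U.Normal ∧ IsElementaryAbelian p U ∧ Nat.card U = p ^ 2 := by
  have hp : p.Prime := Fact.out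
  haveI : Group.IsNilpotent P := hP.isNilpotent
  suffices h : ∃ W : Subgroup P, W.Normal ∧ IsElementaryAbelian p W ∧ p ^ 2 ≤ Nat.card W by
    obtain ⟨W, hWn, hW, hWc⟩ := h
    haveI := hWn
    obtain ⟨U, hU, hUW, hUc⟩ := CfsgLib.PGroupRankTwo.exists_normal_card hP W 2 hWc
    exact ⟨U, hU, elem_mono hW hUW, hUc⟩
  obtain ⟨M, hMn, hMc, hCM⟩ := CfsgLib.UniqueSubgroup.exists_self_centralizing P
  haveI := hMn
  let W : Subgroup P :=
    { carrier := {x | x ∈ M ∧ x ^ p = 1}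
      one_mem' := ⟨M.one_mem, one_pow p⟩
      mul_mem' := fun {a b} ha hb => ⟨M.mul_mem ha.1 hb.1, by
        rw [(show Commute a b from hMc a ha.1 b hb.1).mul_pow, ha.2, hb.2, one_mul]⟩
      inv_mem' := fun {a} ha => ⟨M.inv_mem ha.1, by rw [inv_pow, ha.2, inv_one]⟩ }
  have hWe : IsElementaryAbelian p W :=
    ⟨⟨⟨fun a b => Subtype.ext (hMc a a.2.1 b b.2.1)⟩⟩, fun a ha => ha.2⟩
  by_cases hWc : p ^ 2 ≤ Nat.card W
  · exact ⟨W, ⟨fun x hx g => ⟨hMn.conj_mem x hx.1 g, by rw [conj_pow, hx.2]; group⟩⟩, hWe, hWc⟩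
  -- otherwise `M` is cyclic
  haveI : Nontrivial P := (Finite.one_lt_card_iff_nontrivial).1
    (lt_of_lt_of_le (lt_trans (Nat.one_lt_pow two_ne_zero hp.one_lt) hEc) (Subgroup.card_le_card_group E))
  have hMne : M ≠ ⊥ := by
    intro h
    rw [h] at hCM
    haveI := hP.center_nontrivial
    obtain ⟨c, hc⟩ := exists_ne (1 : Subgroup.center P)
    exact hc (Subtype.ext (Subgroup.mem_bot.1 (hCM fun u _ => Subgroup.mem_center_iff.1 c.2 u)))
  obtain ⟨z, hz⟩ := exists_prime_orderOf_dvd_card' (G := M) p (by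
    obtain ⟨k, hk⟩ := (hP.to_subgroup M).exists_card_eq
    rw [hk]
    refine dvd_pow_self p fun h => hMne (Subgroup.eq_bot_of_card_eq _ ?_)
    rw [hk, h, pow_zero])
  obtain ⟨a, -, ha⟩ := CfsgLib.UniqueSubgroup.exists_generator (hP.to_subgroup M) hz (fun x hx => by
    by_contra hxz
    apply hWc
    have hzW : (z : P) ∈ W := ⟨z.2, by rw [← hz, ← Subgroup.orderOf_coe, pow_orderOf_eq_one]⟩
    refine two_le_card hP hWe hzW ?_ hzW.2 (show (x : P) ∈ W from ⟨x.2, congrArg Subtype.val hx⟩) ?_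
    · intro h
      rw [show z = 1 from Subtype.ext h, orderOf_one] at hz
      exact hp.one_lt.ne hz
    · rintro ⟨i, hi⟩
      exact hxz ⟨i, Subtype.ext (by simpa using hi)⟩)
    ⊤ (fun x _ y _ => Subtype.ext (hMc x x.2 y y.2))
  have hMz : M = Subgroup.zpowers (a : P) := by
    refine le_antisymm (fun x hx => ?_) (Subgroup.zpowers_le.2 a.2)
    obtain ⟨i, hi⟩ : (⟨x, hx⟩ : M) ∈ Subgroup.zpowers a := ha ▸ Subgroup.mem_top _
    exact ⟨i, by simpa using congrArg Subtype.val hi⟩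
  by_cases hp2 : p = 2
  · subst hp2
    rw [hMz] at hMn hCM
    exact exists_normal_klein_of_cyclic hP hMn hCM hE hEc
  · obtain ⟨U, -, hUn, hU, hUc⟩ := CfsgLib.CyclicMax.exists_normal_sq hP hp2 (⊤ : Subgroup P) fun hcyc => by
      haveI : IsCyclic P := (Subgroup.topEquiv (G := P)).isCyclic.mp hcyc
      haveI : IsCyclic E := inferInstance
      have hexp := IsCyclic.exponent_eq_card (α := E)
      have hle : Monoid.exponent E ∣ p :=
        Monoid.exponent_dvd_of_forall_pow_eq_one fun x => Subtype.ext (hE.2 x x.2)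
      rw [hexp] at hle
      have := Nat.le_of_dvd hp.pos hle
      nlinarith [hp.two_le]
    exact ⟨U, hUn, hU, hUc.ge⟩

/-- An elementary abelian subgroup centralizes a subgroup of index at most `p` in a normal `p ^ 2`. -/
theorem card_le_mul_centralizer (hP : IsPGroup p P) {U E : Subgroup P} [U.Normal] (hU : IsElementaryAbelian p U)
    (hUc : Nat.card U = p ^ 2) :
    Nat.card E ≤ p * Nat.card ↥(E ⊓ Subgroup.centralizer (U : Set P)) := by
  have hp : p.Prime := Fact.out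
  obtain ⟨Z, hZn, hZU, hZc⟩ := CfsgLib.PGroupRankTwo.exists_normal_card hP U 1
    (by rw [hUc]; exact Nat.pow_le_pow_right hp.pos one_le_two)
  rw [pow_one] at hZc
  haveI := hZn
  have hZcen : ∀ (g : P), ∀ c ∈ Z, g * c * g⁻¹ = c := fun g c hc => by
    have := CfsgLib.PGroupRankTwo.step_central hP (bot_le (a := Z))
      (by rw [Subgroup.card_bot, one_mul, hZc]) g hc
    exact (inv_mul_eq_one.1 (Subgroup.mem_bot.1 this)).symm
  have hstep : ∀ (g : P), ∀ c ∈ U, c⁻¹ * (g * c * g⁻¹) ∈ Z := fun g c hc =>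
    CfsgLib.PGroupRankTwo.step_central hP hZU (by rw [hUc, hZc, pow_two]) g hc
  have hlt : Z < U := lt_of_le_of_ne hZU fun e => by
    rw [e, hUc] at hZc
    nlinarith [hp.two_le]
  obtain ⟨u, huU, huZ⟩ := SetLike.exists_of_lt hlt
  let f : E →* Z := MonoidHom.mk' (fun e => ⟨_, hstep e u huU⟩) (fun e₁ e₂ => by
    apply Subtype.ext
    show u⁻¹ * ((e₁ * e₂ : P) * u * (e₁ * e₂ : P)⁻¹) =
      (u⁻¹ * (e₁ * u * (e₁ : P)⁻¹)) * (u⁻¹ * (e₂ * u * (e₂ : P)⁻¹))
    have h2 := hZcen e₁ _ (hstep e₂ u huU)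
    calc u⁻¹ * ((e₁ * e₂ : P) * u * (e₁ * e₂ : P)⁻¹)
        = u⁻¹ * (e₁ * u * (e₁ : P)⁻¹) * (e₁ * (u⁻¹ * (e₂ * u * (e₂ : P)⁻¹)) * (e₁ : P)⁻¹) := by group
      _ = _ := by rw [h2])
  have hker : Nat.card f.ker ≤ Nat.card ↥(E ⊓ Subgroup.centralizer (U : Set P)) := by
    refine Nat.card_le_card_of_injective (fun x => ⟨((x : E) : P), (x : E).2, ?_⟩) fun a b hab =>
      Subtype.ext (Subtype.ext (congrArg Subtype.val hab :))
    have hx : u⁻¹ * ((x : E) * u * ((x : E) : P)⁻¹) = 1 := congrArg Subtype.val x.2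
    have hxu : ((x : E) : P) * u = u * (x : E) := mul_inv_eq_iff_eq_mul.1 (inv_mul_eq_one.1 hx).symm
    have hgen : U ≤ Subgroup.centralizer ({((x : E) : P)} : Set P) := by
      set K := U ⊓ Subgroup.centralizer ({((x : E) : P)} : Set P) with hK
      have hZK : Z < K := by
        refine lt_of_le_of_ne (le_inf hZU fun c hc => Subgroup.mem_centralizer_singleton_iff.2
          (mul_inv_eq_iff_eq_mul.1 (hZcen _ c hc)).symm) fun e => huZ (e ▸ ?_)
        exact ⟨huU, Subgroup.mem_centralizer_singleton_iff.2 hxu.symm⟩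
      have h1 : Nat.card Z < Nat.card K := by
        by_contra h
        exact hZK.ne (Subgroup.eq_of_le_of_card_ge hZK.le (not_lt.1 h))
      obtain ⟨k, hk⟩ := (hP.to_subgroup K).exists_card_eq
      rw [hZc, hk] at h1
      have h2 : 2 ≤ k := (Nat.pow_lt_pow_iff_right hp.one_lt).1 (lt_of_le_of_lt (pow_one p).le h1)
      have h3 : K = U := Subgroup.eq_of_le_of_card_ge inf_le_left (by
        rw [hUc, hk]; exact Nat.pow_le_pow_right hp.pos h2)
      exact h3 ▸ inf_le_right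
    exact fun c hc => Subgroup.mem_centralizer_singleton_iff.1 (hgen hc)
  calc Nat.card E = f.ker.index * Nat.card f.ker := (f.ker.index_mul_card).symm
    _ ≤ p * _ := Nat.mul_le_mul (by
      rw [Subgroup.index_ker]; exact (Subgroup.card_le_card_group _).trans hZc.le) hker

omit [Fact p.Prime] [Finite P] in
theorem elem_map_subtype {C : Subgroup P} {A : Subgroup C} (hA : IsMulCommutative A) (hAp : ∀ a ∈ A, a ^ p = 1) :
    IsElementaryAbelian p (A.map C.subtype) := by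
  refine ⟨⟨⟨?_⟩⟩, ?_⟩
  · rintro ⟨_, a, ha, rfl⟩ ⟨_, b, hb, rfl⟩
    exact Subtype.ext (congrArg Subtype.val
      (congrArg Subtype.val (hA.is_comm.comm ⟨a, ha⟩ ⟨b, hb⟩) : a * b = b * a) :)
  · rintro _ ⟨a, ha, rfl⟩
    rw [← map_pow, hAp a ha, map_one]

omit [Fact p.Prime] in
theorem not_rankLE {C E : Subgroup P} (hE : IsElementaryAbelian p E) (hEC : E ≤ C) (hc : p ^ 2 < Nat.card E) :
    ¬ PRankLE p 2 C := by
  intro h
  have := h (E.subgroupOf C) ⟨⟨fun a b => Subtype.ext (Subtype.ext (mul_comm_of_elem hE a.2 b.2))⟩⟩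
    fun a ha => Subtype.ext (hE.2 _ ha)
  rw [Nat.card_congr (Subgroup.subgroupOfEquivOfLe hEC).toEquiv] at this
  omega

theorem criterion (hP : IsPGroup p P) {A₀ U : Subgroup P} [U.Normal] (hA₀ : IsElementaryAbelian p A₀)
    (hA₀c : p ^ 2 < Nat.card A₀) (hU : IsElementaryAbelian p U) (hUc : Nat.card U = p ^ 2) {X : Subgroup P}
    (hX : IsElementaryAbelian p X) (hXc : p ^ 2 ≤ Nat.card X) :
    Relation.ReflTransGen (Rel p) X U ↔ ¬ PRankLE p 2 ↥(Subgroup.centralizer (X : Set P)) := by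
  have hp : p.Prime := Fact.out
  have big : ∀ E : Subgroup P, p ^ 2 < Nat.card E →
      p ^ 2 ≤ Nat.card ↥(E ⊓ Subgroup.centralizer (U : Set P)) := by
    intro E hEc
    obtain ⟨k, hk⟩ := (hP.to_subgroup (E ⊓ Subgroup.centralizer (U : Set P))).exists_card_eq
    have h := card_le_mul_centralizer hP (E := E) hU hUc
    rw [hk, ← pow_succ'] at h
    have h2 := (Nat.pow_lt_pow_iff_right hp.one_lt).1 (lt_of_lt_of_le hEc h)
    rw [hk]
    exact Nat.pow_le_pow_right hp.pos (by omega)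
  have le_cent : ∀ (Y : Subgroup P), IsElementaryAbelian p Y → Y ≤ Subgroup.centralizer (Y : Set P) :=
    fun Y hY a ha b hb => mul_comm_of_elem hY hb ha
  constructor
  · intro h
    have step : ∀ Y B : Subgroup P, IsElementaryAbelian p Y → IsElementaryAbelian p B →
        p ^ 2 ≤ Nat.card Y → p ^ 2 ≤ Nat.card B → (∀ a ∈ Y, ∀ b ∈ B, a * b = b * a) →
        ¬ PRankLE p 2 ↥(Subgroup.centralizer (Y : Set P)) ∨ Y = B := by
      intro Y B hY hB hYc hBc hc
      by_cases hbig : p ^ 2 < Nat.card ↥(Y ⊔ B)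
      · exact Or.inl (not_rankLE (elem_sup hY hB hc)
          (sup_le (le_cent Y hY) fun b hb a ha => hc a ha b hb) hbig)
      · right
        have h1 := Subgroup.eq_of_le_of_card_ge (le_sup_left : Y ≤ Y ⊔ B) ((not_lt.1 hbig).trans hYc)
        have h2 := Subgroup.eq_of_le_of_card_ge (le_sup_right : B ≤ Y ⊔ B) ((not_lt.1 hbig).trans hBc)
        exact h1.trans h2.symm
    induction h using Relation.ReflTransGen.head_induction_on with
    | refl =>
      set C := A₀ ⊓ Subgroup.centralizer (U : Set P) with hC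
      rcases step U C hU (elem_mono hA₀ inf_le_left) hUc.ge (big A₀ hA₀c)
        (fun a ha b hb => hb.2 a ha) with h1 | h1
      · exact h1
      · refine not_rankLE hA₀ (fun a ha u hu => ?_) hA₀c
        have hu' : u ∈ C := h1 ▸ hu
        exact mul_comm_of_elem hA₀ hu'.1 ha
    | @head Y B hYB _ ih =>
      obtain ⟨hY, hYc, hB, hBc, hc⟩ := hYB
      rcases step Y B hY hB hYc hBc hc with h1 | h1
      · exact h1
      · exact h1 ▸ ih hB hBc
  · intro h
    simp only [PRankLE, not_forall, not_le] at h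
    obtain ⟨A, hA, hAp, hAc⟩ := h
    set E := A.map (Subgroup.centralizer (X : Set P)).subtype with hE
    have hEe : IsElementaryAbelian p E := elem_map_subtype hA hAp
    have hEc : p ^ 2 < Nat.card E := by
      rw [hE, Subgroup.card_map_of_injective (Subgroup.subtype_injective _)]; exact hAc
    have hEX : E ≤ Subgroup.centralizer (X : Set P) := Subgroup.map_subtype_le A
    refine .head (b := E) ⟨hX, hXc, hEe, hEc.le, fun a ha b hb => hEX hb a ha⟩ ?_
    refine .head (b := E ⊓ Subgroup.centralizer (U : Set P))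
      ⟨hEe, hEc.le, elem_mono hEe inf_le_left, big E hEc, fun a ha b hb => mul_comm_of_elem hEe ha hb.1⟩ ?_
    exact .single ⟨elem_mono hEe inf_le_left, big E hEc, hU, hUc.ge, fun a ha b hb => (ha.2 b hb).symm⟩

end CfsgLib.Connectivity
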