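import Mathlib
import Cfsg.Prelude.Def_Local
import Cfsg.Agent.Lib.Components
import Cfsg.Agent.Lib.Comp.LayerMore
import Cfsg.Agent.Lib.SLPerfect
import Cfsg.Agent.S0249

/-!
The layer of the centralizer of `diag(-1, …, -1, 1)` is a standard subgroup of `SL(m + 1, F)`, `m` even.
-/

set_option autoImplicit false
set_option maxHeartbeats 1000000

open Cfsg

namespace CfsgLib.SLStandard

open Matrix

variable {F : Type*} [Field F] {m : ℕ}

/-- A block diagonal matrix with blocks of sizes `m` and `1`. -/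
def bfun (g : Matrix (Fin m) (Fin m) F) (a : F) : Matrix (Fin (m + 1)) (Fin (m + 1)) F :=
  Matrix.of fun i j =>
    Fin.lastCases (Fin.lastCases a (fun _ => 0) j) (fun i' => Fin.lastCases 0 (fun j' => g i' j') j) i

theorem bfun_mul (a b : F) (g h : Matrix (Fin m) (Fin m) F) :
    bfun (g * h) (a * b) = bfun g a * bfun h b := by
  ext i j
  refine Fin.lastCases ?_ (fun i' => ?_) i <;> refine Fin.lastCases ?_ (fun j' => ?_) j <;>
    simp [bfun, Matrix.mul_apply, Fin.sum_univ_castSucc]

theorem bfun_one : bfun (1 : Matrix (Fin m) (Fin m) F) (1 : F) = 1 := by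
  ext i j
  refine Fin.lastCases ?_ (fun i' => ?_) i <;> refine Fin.lastCases ?_ (fun j' => ?_) j <;>
    simp [bfun, Matrix.one_apply, (Fin.castSucc_lt_last _).ne, (Fin.castSucc_lt_last _).ne']

theorem bfun_injective {a b : F} {g h : Matrix (Fin m) (Fin m) F} (e : bfun g a = bfun h b) : g = h ∧ a = b :=
  ⟨Matrix.ext fun i j => by simpa [bfun] using congrFun (congrFun e i.castSucc) j.castSucc,
    by simpa [bfun] using congrFun (congrFun e (Fin.last m)) (Fin.last m)⟩

theorem det_bfun (g : Matrix (Fin m) (Fin m) F) (a : F) : (bfun g a).det = g.det * a := by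
  have e : bfun g a = Matrix.reindex finSumFinEquiv finSumFinEquiv
      (Matrix.fromBlocks g 0 0 (Matrix.of fun _ _ : Fin 1 => a)) := by
    ext i j
    have hl : (Fin.last m : Fin (m + 1)) = Fin.natAdd m (0 : Fin 1) := by ext; simp
    refine Fin.lastCases ?_ (fun i' => ?_) i <;> refine Fin.lastCases ?_ (fun j' => ?_) j
    · rw [hl]; simp [bfun, ← hl, -Fin.natAdd_zero]
    · simp only [bfun, Matrix.of_apply, Fin.lastCases_last, Fin.lastCases_castSucc, Matrix.reindex_apply,
        Matrix.submatrix_apply]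
      rw [hl, finSumFinEquiv_symm_apply_natAdd, show j'.castSucc = Fin.castAdd 1 j' from rfl,
        finSumFinEquiv_symm_apply_castAdd]
      simp
    · simp only [bfun, Matrix.of_apply, Fin.lastCases_last, Fin.lastCases_castSucc, Matrix.reindex_apply,
        Matrix.submatrix_apply]
      rw [hl, finSumFinEquiv_symm_apply_natAdd, show i'.castSucc = Fin.castAdd 1 i' from rfl,
        finSumFinEquiv_symm_apply_castAdd]
      simp
    · simp only [bfun, Matrix.of_apply, Fin.lastCases_castSucc, Matrix.reindex_apply,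
        Matrix.submatrix_apply]
      rw [show i'.castSucc = Fin.castAdd 1 i' from rfl, show j'.castSucc = Fin.castAdd 1 j' from rfl,
        finSumFinEquiv_symm_apply_castAdd, finSumFinEquiv_symm_apply_castAdd]
      simp
  rw [e, Matrix.det_reindex_self, Matrix.det_fromBlocks_zero₁₂, Matrix.det_fin_one]
  rfl

theorem bfun_diag (c d : F) : bfun (Matrix.diagonal fun _ : Fin m => c) d =
    Matrix.diagonal (fun i : Fin (m + 1) => if (i : ℕ) = m then d else c) := by
  ext i j
  refine Fin.lastCases ?_ (fun i' => ?_) i <;> refine Fin.lastCases ?_ (fun j' => ?_) j <;>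
    simp [bfun, Matrix.diagonal_apply, (Fin.castSucc_lt_last _).ne, (Fin.castSucc_lt_last _).ne',
      Fin.castSucc_inj]
  rw [if_neg i'.isLt.ne]

/-- The embedding of `SL(m, F)` into the first block. -/
def emb : Matrix.SpecialLinearGroup (Fin m) F →* Matrix.SpecialLinearGroup (Fin (m + 1)) F where
  toFun g := ⟨bfun g.1 1, by rw [det_bfun, g.2, mul_one]⟩
  map_one' := Subtype.ext bfun_one
  map_mul' g h := Subtype.ext (by
    show bfun (g.1 * h.1) 1 = bfun g.1 1 * bfun h.1 1
    rw [← bfun_mul, one_mul])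

theorem emb_injective : Function.Injective (emb (F := F) (m := m)) := fun _ _ h =>
  Subtype.ext (bfun_injective (congrArg Subtype.val h)).1

/-- What centralizes the image of `SL(m, F)` is scalar on the block. -/
theorem scalar_of_centralizes (hm : 2 ≤ m) {M : Matrix (Fin (m + 1)) (Fin (m + 1)) F}
    (h : ∀ i j : Fin m, i ≠ j → M * Matrix.single i.castSucc j.castSucc (1 : F) =
      Matrix.single i.castSucc j.castSucc (1 : F) * M) :
    ∃ a b : F, M = bfun (Matrix.diagonal fun _ => a) b := by
  have hother : ∀ i : Fin m, ∃ j : Fin m, j ≠ i := fun i => by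
    haveI : Nontrivial (Fin m) := Fin.nontrivial_iff_two_le.mpr hm
    exact exists_ne i
  have hcol : ∀ (i : Fin m) (x : Fin (m + 1)), x ≠ i.castSucc → M x i.castSucc = 0 := fun i x hx => by
    obtain ⟨j, hj⟩ := hother i
    have := congrFun (congrFun (h i j hj.symm) x) j.castSucc
    rwa [Matrix.mul_single_apply_same, Matrix.single_mul_apply_of_ne (h := hx), mul_one] at this
  have hrow : ∀ (j : Fin m) (y : Fin (m + 1)), y ≠ j.castSucc → M j.castSucc y = 0 := fun j y hy => by
    obtain ⟨i, hi⟩ := hother j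
    have := congrFun (congrFun (h i j hi) i.castSucc) y
    rw [Matrix.mul_single_apply_of_ne (hbj := hy), Matrix.single_mul_apply_same, one_mul] at this
    exact this.symm
  have heq : ∀ i j : Fin m, M i.castSucc i.castSucc = M j.castSucc j.castSucc := fun i j => by
    rcases eq_or_ne i j with rfl | hij
    · rfl
    · have := congrFun (congrFun (h i j hij) i.castSucc) j.castSucc
      rwa [Matrix.mul_single_apply_same, Matrix.single_mul_apply_same, mul_one, one_mul] at this
  let i₀ : Fin m := ⟨0, by omega⟩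
  refine ⟨M i₀.castSucc i₀.castSucc, M (Fin.last m) (Fin.last m), ?_⟩
  ext x y
  refine Fin.lastCases ?_ (fun i => ?_) x <;> refine Fin.lastCases ?_ (fun j => ?_) y
  · simp [bfun]
  · simp [bfun, hcol j (Fin.last m) (Fin.castSucc_lt_last j).ne']
  · simp [bfun, hrow i (Fin.last m) (Fin.castSucc_lt_last i).ne']
  · rcases eq_or_ne i j with rfl | hij
    · simp [bfun, heq i i₀]
    · simp [bfun, hij, hrow i j.castSucc (fun e => hij (Fin.castSucc_injective m e).symm)]

theorem eq_bfun_of_commute (h2 : (2 : F) ≠ 0) {M : Matrix (Fin (m + 1)) (Fin (m + 1)) F}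
    (h : bfun (Matrix.diagonal fun _ => (-1 : F)) 1 * M = M * bfun (Matrix.diagonal fun _ => (-1 : F)) 1) :
    ∃ g a, M = bfun g a := by
  have hne : ∀ x : F, -x = x → x = 0 := fun x hx => by
    have : 2 * x = 0 := by linear_combination -hx
    exact (mul_eq_zero.1 this).resolve_left h2
  refine ⟨Matrix.of fun i j => M i.castSucc j.castSucc, M (Fin.last m) (Fin.last m), ?_⟩
  rw [bfun_diag] at h
  ext x y
  refine Fin.lastCases ?_ (fun i => ?_) x <;> refine Fin.lastCases ?_ (fun j => ?_) y
  · simp [bfun]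
  · have e := congrFun (congrFun h (Fin.last m)) j.castSucc
    rw [Matrix.diagonal_mul, Matrix.mul_diagonal] at e
    simp [j.isLt.ne] at e
    simpa [bfun] using hne _ e.symm
  · have e := congrFun (congrFun h i.castSucc) (Fin.last m)
    rw [Matrix.diagonal_mul, Matrix.mul_diagonal] at e
    simp [i.isLt.ne] at e
    simpa [bfun] using hne _ e
  · simp [bfun]

theorem isQuasisimple_SL [Finite F] (hm : 3 ≤ m) : IsQuasisimple (Matrix.SpecialLinearGroup (Fin m) F) :=
  ⟨⟨CfsgLib.SLPerfect.commutator_eq_top hm⟩, Cfsg.Agent.S0249.result m hm⟩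

local notation "G" => Matrix.SpecialLinearGroup (Fin (m + 1)) F

theorem main [Finite F] (h2 : (2 : F) ≠ 0) (hm : 3 ≤ m) (hev : Even m) (t : G)
    (ht : t.1 = bfun (Matrix.diagonal fun _ => (-1 : F)) 1) :
    IsStandardSubgroup ((Cfsg.layer ↥(Subgroup.centralizer ({t} : Set G))).map
      (Subgroup.centralizer ({t} : Set G)).subtype) := by
  set C := Subgroup.centralizer ({t} : Set G) with hC
  set L : Subgroup G := (emb (F := F) (m := m)).range with hL
  have ht2 : t * t = 1 := Subtype.ext (by
    show t.1 * t.1 = 1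
    rw [ht, ← bfun_mul, Matrix.diagonal_mul_diagonal]
    simp [bfun_one])
  have hdet : ∀ c : F, (Matrix.diagonal fun _ : Fin m => c).det = c ^ m := fun c => by simp
  have hLC : L ≤ C := by
    rintro _ ⟨g, rfl⟩
    refine Subgroup.mem_centralizer_singleton_iff.2 (Subtype.ext ?_)
    show bfun g.1 1 * t.1 = t.1 * bfun g.1 1
    rw [ht, ← bfun_mul, ← bfun_mul, one_mul]
    congr 1
    ext i j
    simp [Matrix.mul_diagonal, Matrix.diagonal_mul]
  have hblock : ∀ c ∈ C, ∃ g a, c.1 = bfun g a := fun c hc => eq_bfun_of_commute h2 (by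
    have := congrArg (fun s : G => s.1) (Subgroup.mem_centralizer_singleton_iff.1 hc)
    change c.1 * t.1 = t.1 * c.1 at this
    rw [ht] at this
    exact this.symm)
  have hnorm : C ≤ Subgroup.normalizer (L : Set G) := by
    intro c hc
    refine Subgroup.mem_normalizer_fintype ?_
    rintro _ ⟨g, rfl⟩
    obtain ⟨h, a, hca⟩ := hblock c hc
    obtain ⟨h', a', hca'⟩ := hblock c⁻¹ (C.inv_mem hc)
    have h1 : bfun (h * h') (a * a') = bfun 1 1 := by
      rw [bfun_mul, ← hca, ← hca', bfun_one, ← Matrix.SpecialLinearGroup.coe_mul, mul_inv_cancel]; rfl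
    obtain ⟨hhh, haa⟩ := bfun_injective h1
    refine ⟨⟨h * g.1 * h', ?_⟩, Subtype.ext ?_⟩
    · rw [Matrix.det_mul, Matrix.det_mul, g.2, mul_one, ← Matrix.det_mul, hhh, Matrix.det_one]
    · show bfun (h * g.1 * h') 1 = c.1 * bfun g.1 1 * (c⁻¹).1
      rw [hca, hca', ← bfun_mul, ← bfun_mul, mul_one, haa]
  -- the centralizer of `L`
  set K := Subgroup.centralizer (L : Set G) with hK
  have hKscal : ∀ k ∈ K, ∃ a b : F, k.1 = bfun (Matrix.diagonal fun _ => a) b ∧ a ^ m * b = 1 := by
    intro k hk
    obtain ⟨a, b, hab⟩ := scalar_of_centralizes (by omega) (M := k.1) fun i j hij => by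
      have h := congrArg Subtype.val (hk _ ⟨Matrix.SpecialLinearGroup.transvection hij 1, rfl⟩)
      have hb : bfun (1 + Matrix.single i j (1 : F)) 1 = 1 + Matrix.single i.castSucc j.castSucc (1 : F) := by
        ext x y
        refine Fin.lastCases ?_ (fun i' => ?_) x <;> refine Fin.lastCases ?_ (fun j' => ?_) y <;>
          simp [bfun, Matrix.one_apply, Matrix.single_apply, (Fin.castSucc_lt_last _).ne,
            (Fin.castSucc_lt_last _).ne', Fin.castSucc_inj]
      change bfun (1 + Matrix.single i j (1 : F)) 1 * k.1 = k.1 * bfun (1 + Matrix.single i j (1 : F)) 1 at h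
      rw [hb, Matrix.add_mul, Matrix.mul_add, Matrix.one_mul, Matrix.mul_one] at h
      exact (add_left_cancel h).symm
    refine ⟨a, b, hab, ?_⟩
    have := k.2
    rw [hab, det_bfun, hdet] at this
    exact this
  have hKcomm : ∀ x ∈ K, ∀ y ∈ K, x * y = y * x := by
    intro x hx y hy
    obtain ⟨a, b, hab, -⟩ := hKscal x hx
    obtain ⟨a', b', hab', -⟩ := hKscal y hy
    apply Subtype.ext
    show x.1 * y.1 = y.1 * x.1
    rw [hab, hab', ← bfun_mul, ← bfun_mul, Matrix.diagonal_mul_diagonal, Matrix.diagonal_mul_diagonal,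
      mul_comm b b']
    simp only [mul_comm]
  have htK : t ∈ K := fun l hl => Subgroup.mem_centralizer_singleton_iff.1 (hLC hl)
  have ht1 : t ≠ 1 := fun e => by
    have := congrArg (fun s : G => s.1 (⟨0, by omega⟩ : Fin m).castSucc (⟨0, by omega⟩ : Fin m).castSucc) e
    change t.1 _ _ = (1 : Matrix (Fin (m + 1)) (Fin (m + 1)) F) _ _ at this
    rw [ht, bfun_diag, Matrix.diagonal_apply_eq, Matrix.one_apply_eq, if_neg (by simp; omega)] at this
    exact h2 (by linear_combination -this)
  have huniq : ∀ u ∈ K, u * u = 1 → u ≠ 1 → u = t := by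
    intro u hu hu2 hu1
    obtain ⟨a, b, hab, habm⟩ := hKscal u hu
    have h := congrArg Subtype.val hu2
    rw [Matrix.SpecialLinearGroup.coe_mul, Matrix.SpecialLinearGroup.coe_one, hab, ← bfun_mul,
      Matrix.diagonal_mul_diagonal, ← bfun_one] at h
    obtain ⟨h1, hb⟩ := bfun_injective h
    have ha : a * a = 1 := by simpa using congrFun (congrFun h1 ⟨0, by omega⟩) ⟨0, by omega⟩
    obtain ⟨j, rfl⟩ := hev
    have hb1 : b = 1 := by rwa [pow_add, ← mul_pow, ha, one_pow, one_mul] at habm
    rcases mul_self_eq_one_iff.1 ha with rfl | rfl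
    · exact absurd (Subtype.ext (by rw [hab, hb1, Matrix.diagonal_one, bfun_one]; rfl)) hu1
    · exact Subtype.ext (by rw [hab, hb1, ht])
  -- the layer of `C` is `L`
  have hLq : IsQuasisimple ↥L :=
    CfsgLib.isQuasisimple_of_equiv (MonoidHom.ofInjective emb_injective) (isQuasisimple_SL hm)
  have hnotK : ∀ J : Subgroup G, IsQuasisimple ↥J → ¬ J ≤ K := fun J hJ hle => by
    haveI := CfsgLib.isQuasisimple_nontrivial hJ
    haveI := hJ.1
    refine CfsgLib.isQuasisimple_not_isSolvable hJ ?_
    haveI : Group.IsNilpotent ↥J := CfsgLib.Comp.nilpotent_of_comm fun x hx y hy => hKcomm x (hle hx) y (hle hy)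
    infer_instance
  haveI hLn : (L.subgroupOf C).Normal := (Subgroup.normal_subgroupOf_iff_le_normalizer hLC).2 hnorm
  have hLcomp : IsComponent (L.subgroupOf C) :=
    ⟨hLn.isSubnormal, CfsgLib.isQuasisimple_of_equiv (Subgroup.subgroupOfEquivOfLe hLC).symm hLq⟩
  have hlayer : (Cfsg.layer ↥C).map C.subtype = L := by
    have : Cfsg.layer ↥C = L.subgroupOf C := by
      refine le_antisymm (sSup_le fun J hJ => ?_) (CfsgLib.le_layer hLcomp)
      rcases CfsgLib.components_eq_or_commute hJ hLcomp with h | h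
      · exact h.le
      · exfalso
        refine hnotK (J.map C.subtype) (CfsgLib.isQuasisimple_of_equiv
          (J.equivMapOfInjective _ C.subtype_injective) hJ.2) ?_
        rintro _ ⟨j, hj, rfl⟩ l hl
        exact congrArg Subtype.val
          (CfsgLib.Comp.comm_of_commutator_eq_bot h hj (show (⟨l, hLC hl⟩ : C) ∈ L.subgroupOf C from hl)).symm
    rw [this, Subgroup.map_subgroupOf_eq_of_le hLC]
  rw [hlayer]
  have hNL : Subgroup.normalizer (L : Set G) ≤ Subgroup.normalizer (K : Set G) := by
    intro g hg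
    refine Subgroup.mem_normalizer_fintype fun k hk l hl => ?_
    have hl' : g⁻¹ * l * g ∈ L := by
      have := (Subgroup.mem_normalizer_iff.1 ((Subgroup.normalizer (L : Set G)).inv_mem hg) l).1 hl
      rwa [inv_inv] at this
    have h := hk _ hl'
    calc l * (g * k * g⁻¹) = g * ((g⁻¹ * l * g) * k) * g⁻¹ := by group
      _ = g * (k * (g⁻¹ * l * g)) * g⁻¹ := by rw [h]
      _ = g * k * g⁻¹ * l := by group
  have hfix : ∀ g : G, g * t * g⁻¹ ∈ K → g ∈ Subgroup.normalizer (L : Set G) := by
    intro g hg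
    refine hnorm (Subgroup.mem_centralizer_singleton_iff.2 ?_)
    have : g * t * g⁻¹ = t := huniq _ hg
      (by calc g * t * g⁻¹ * (g * t * g⁻¹) = g * (t * t) * g⁻¹ := by group
            _ = 1 := by rw [ht2]; group)
      (fun e => ht1 (conj_eq_one_iff.1 e))
    exact mul_inv_eq_iff_eq_mul.1 this
  refine ⟨hLq, ⟨?_, ?_⟩, ?_, ?_⟩
  · have : orderOf t = 2 := orderOf_eq_prime (by rw [pow_two, ht2]) ht1
    rw [even_iff_two_dvd, ← this, ← Subgroup.orderOf_mk t htK]
    exact orderOf_dvd_natCard _
  · intro g hg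
    by_contra hodd
    rw [Nat.not_odd_iff_even, even_iff_two_dvd] at hodd
    obtain ⟨u, hu⟩ := exists_prime_orderOf_dvd_card' 2 hodd
    obtain ⟨huK, k, hk, hkg⟩ := u.2
    have hu1 : (u : G) ≠ 1 := fun e => by
      rw [← Subgroup.orderOf_coe, e, orderOf_one] at hu; omega
    have hu2 : (u : G) * u = 1 := by
      rw [← pow_two, ← hu, ← Subgroup.orderOf_coe, pow_orderOf_eq_one]
    have hkt : k = t := huniq k hk
      ((MulAut.conj g).injective (by rw [map_mul, map_one]; change MulAut.conj g k = _ at hkg; rw [hkg, hu2]))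
      (fun e => hu1 (by rw [← hkg, e, map_one]))
    refine hg (hNL (hfix g ?_))
    rw [← hkt]
    change MulAut.conj g k = _ at hkg
    rw [show g * k * g⁻¹ = (u : G) from hkg]
    exact huK
  · intro g hne hcomm
    refine hnotK (L.map (MulAut.conj g).toMonoidHom) (CfsgLib.isQuasisimple_of_equiv
      (L.equivMapOfInjective _ (MulAut.conj g).injective) hLq) ?_
    intro x hx l hl
    exact CfsgLib.Comp.comm_of_commutator_eq_bot hcomm hl hx
  · refine le_antisymm hNL fun g hg => hfix g ?_
    exact (Subgroup.mem_normalizer_iff.1 hg t).1 htK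

end CfsgLib.SLStandard
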