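import Mathlib
import Cfsg.Agent.Lib.Signalizer.Coprime

/-!
An elementary abelian group of order `q ^ 2` with exactly two subgroups of order `q` having fixed points
on a `p`-group.
-/

set_option autoImplicit false
set_option maxHeartbeats 1000000

open Cfsg
open scoped commutatorElement

namespace CfsgLib.TwoFixed

universe u
variable {S : Type u} [Group S] [Finite S]

theorem split {p q : ℕ} [Fact p.Prime] [Fact q.Prime] (hpq : p ≠ q) (P : Sylow p S) [hPn : (P : Subgroup S).Normal]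
    (Q : Subgroup S) (hQ : Cfsg.IsElementaryAbelian q Q) (hQc : Nat.card Q = q ^ 2) (X₁ X₂ : Subgroup S)
    (h₁ : X₁ ≤ Q) (h₂ : X₂ ≤ Q) (h₁₂ : X₁ ≠ X₂) (hc₁ : Nat.card X₁ = q) (hc₂ : Nat.card X₂ = q)
    (honly : ∀ X : Subgroup S, X ≤ Q → Nat.card X = q →
      (P : Subgroup S) ⊓ Subgroup.centralizer (X : Set S) ≠ ⊥ → X = X₁ ∨ X = X₂) :
    ⁅(P : Subgroup S) ⊓ Subgroup.centralizer (X₁ : Set S), (P : Subgroup S) ⊓ Subgroup.centralizer (X₂ : Set S)⁆ = ⊥ ∧
    ((P : Subgroup S) ⊓ Subgroup.centralizer (X₁ : Set S)) ⊓ ((P : Subgroup S) ⊓ Subgroup.centralizer (X₂ : Set S)) = ⊥ ∧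
    ((P : Subgroup S) ⊓ Subgroup.centralizer (X₁ : Set S)) ⊔ ((P : Subgroup S) ⊓ Subgroup.centralizer (X₂ : Set S)) = P := by
  classical
  have hq : q.Prime := Fact.out
  have hp : p.Prime := Fact.out
  set PS : Subgroup S := (P : Subgroup S) with hPS
  set C₁ := PS ⊓ Subgroup.centralizer (X₁ : Set S) with hC₁
  set C₂ := PS ⊓ Subgroup.centralizer (X₂ : Set S) with hC₂
  have hPp : IsPGroup p PS := P.2
  -- the two lines generate `Q`
  have hsup : X₁ ⊔ X₂ = Q := by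
    have hlt : X₁ < X₁ ⊔ X₂ := lt_of_le_of_ne le_sup_left fun e => h₁₂ <|
      (Subgroup.eq_of_le_of_card_ge (e.symm ▸ le_sup_right) (by rw [hc₁, hc₂])).symm
    refine Subgroup.eq_of_le_of_card_ge (sup_le h₁ h₂) ?_
    obtain ⟨k, -, hk⟩ := (Nat.dvd_prime_pow hq).1 (hQc ▸ Subgroup.card_dvd_of_le (sup_le h₁ h₂))
    have h : Nat.card X₁ < Nat.card ↥(X₁ ⊔ X₂) := by
      by_contra h
      exact hlt.ne (Subgroup.eq_of_le_of_card_ge hlt.le (not_lt.1 h))
    rw [hc₁, hk] at h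
    rw [hQc, hk]
    exact Nat.pow_le_pow_right hq.pos ((Nat.pow_lt_pow_iff_right hq.one_lt).1 (lt_of_le_of_lt (pow_one q).le h))
  have hQcomm : ∀ a ∈ Q, ∀ b ∈ Q, a * b = b * a := fun a ha b hb => CfsgLib.Signalizer.ea_comm hQ ha hb
  obtain ⟨x₁, hx₁, hx₁1⟩ := (Subgroup.bot_or_exists_ne_one X₁).resolve_left fun h => by
    rw [h, Subgroup.card_bot] at hc₁; exact hq.ne_one hc₁.symm
  obtain ⟨x₂, hx₂, hx₂1⟩ := (Subgroup.bot_or_exists_ne_one X₂).resolve_left fun h => by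
    rw [h, Subgroup.card_bot] at hc₂; exact hq.ne_one hc₂.symm
  have hline : ∀ (X : Subgroup S), X ≤ Q → Nat.card X = q → ∀ y ∈ X, y ≠ 1 → X = Subgroup.zpowers y := by
    intro X hX hXc y hy hy1
    refine (Subgroup.eq_of_le_of_card_ge (Subgroup.zpowers_le.2 hy) ?_).symm
    rw [Nat.card_zpowers, orderOf_eq_prime (hQ.2 y (hX hy)) hy1, hXc]
  have hdis : ∀ y, y ∈ X₁ → y ∈ X₂ → y = 1 := fun y h1 h2 => by
    by_contra hy
    exact h₁₂ ((hline X₁ h₁ hc₁ y h1 hy).trans (hline X₂ h₂ hc₂ y h2 hy).symm)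
  -- no fixed points of `Q`
  have hfree : PS ⊓ Subgroup.centralizer (Q : Set S) = ⊥ := by
    by_contra hne
    have hw : x₁ * x₂ ∈ Q := Q.mul_mem (h₁ hx₁) (h₂ hx₂)
    have hw1 : x₁ * x₂ ≠ 1 := fun h => hx₁1 (hdis x₁ hx₁ (by
      rw [eq_inv_of_mul_eq_one_left h]; exact X₂.inv_mem hx₂))
    have hcard : Nat.card (Subgroup.zpowers (x₁ * x₂)) = q := by
      rw [Nat.card_zpowers]; exact orderOf_eq_prime (hQ.2 _ hw) hw1
    rcases honly _ (Subgroup.zpowers_le.2 hw) hcard (fun h => hne (le_bot_iff.1 (h ▸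
        inf_le_inf_left PS (Subgroup.centralizer_le (Subgroup.zpowers_le.2 hw : _ ≤ Q))))) with h | h
    · have h' : x₁ * x₂ ∈ X₁ := h ▸ Subgroup.mem_zpowers _
      have := X₁.mul_mem (X₁.inv_mem hx₁) h'
      rw [inv_mul_cancel_left] at this
      exact hx₂1 (hdis x₂ this hx₂)
    · have h' : x₁ * x₂ ∈ X₂ := h ▸ Subgroup.mem_zpowers _
      have := X₂.mul_mem h' (X₂.inv_mem hx₂)
      rw [mul_inv_cancel_right] at this
      exact hx₁1 (hdis x₁ hx₁ this)
  have hPnorm : ∀ x : S, x ∈ Subgroup.normalizer (PS : Set S) := fun x => by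
    rw [Subgroup.normalizer_eq_top PS]; trivial
  have hdvd : ∀ L : Subgroup S, L ≤ PS → ¬ q ∣ Nat.card L := by
    intro L hL h
    obtain ⟨k, hk⟩ := (hPp.to_le hL).exists_card_eq
    rw [hk] at h
    exact hpq ((Nat.prime_dvd_prime_iff_eq hq hp).1 (hq.dvd_of_dvd_pow h)).symm
  -- decomposition of the invariant subgroups
  have hdec : ∀ L : Subgroup S, L ≤ PS → Q ≤ Subgroup.normalizer (L : Set S) → L ≤ (L ⊓ C₁) ⊔ (L ⊓ C₂) := by
    intro L hL hQL
    conv_lhs => rw [CfsgLib.Signalizer.gen_index hQ (hdvd L hL) hQL]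
    refine iSup_le ?_
    rintro ⟨B, hB, hidx⟩
    have hcardB : q ≤ Nat.card B := by
      have h := Subgroup.relIndex_mul_relIndex (⊥ : Subgroup S) B Q bot_le hB
      rw [Subgroup.relIndex_bot_left, Subgroup.relIndex_bot_left, hQc] at h
      by_contra hlt
      have h2 : Nat.card B * B.relIndex Q < q * q :=
        Nat.mul_lt_mul_of_lt_of_le (not_le.1 hlt) hidx hq.pos
      rw [h, pow_two] at h2
      exact lt_irrefl _ h2
    obtain ⟨k, hk2, hk⟩ := (Nat.dvd_prime_pow hq).1 (hQc ▸ Subgroup.card_dvd_of_le hB)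
    have hk1 : 1 ≤ k := by
      by_contra h
      rw [Nat.lt_one_iff.1 (not_le.1 h), pow_zero] at hk
      rw [hk] at hcardB
      exact absurd hcardB (not_le.2 hq.one_lt)
    show L ⊓ Subgroup.centralizer ((B : Subgroup S) : Set S) ≤ _
    by_cases htriv : PS ⊓ Subgroup.centralizer (B : Set S) = ⊥
    · exact le_trans (le_trans (inf_le_inf_right _ hL) htriv.le) bot_le
    have hBq : Nat.card B = q := by
      rcases Nat.lt_or_ge k 2 with h | h
      · rw [hk, show k = 1 by omega, pow_one]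
      · exfalso
        have : B = Q := Subgroup.eq_of_le_of_card_ge hB (by rw [hQc, hk]; exact Nat.pow_le_pow_right hq.pos h)
        exact htriv (this.symm ▸ hfree)
    rcases honly B hB hBq htriv with h | h
    · exact le_sup_of_le_left (le_inf inf_le_left (le_inf (inf_le_left.trans hL) (h ▸ inf_le_right)))
    · exact le_sup_of_le_right (le_inf inf_le_left (le_inf (inf_le_left.trans hL) (h ▸ inf_le_right)))
  have hCinf : C₁ ⊓ C₂ = ⊥ := by
    rw [eq_bot_iff, ← hfree, ← hsup]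
    rintro c ⟨hc1, hc2⟩
    refine ⟨hc1.1, ?_⟩
    have hle : X₁ ⊔ X₂ ≤ Subgroup.centralizer ({c} : Set S) := sup_le
      (fun x hx => Subgroup.mem_centralizer_singleton_iff.2 (hc1.2 x hx))
      (fun x hx => Subgroup.mem_centralizer_singleton_iff.2 (hc2.2 x hx))
    exact fun x hx => Subgroup.mem_centralizer_singleton_iff.1 (hle hx)
  refine ⟨?_, hCinf, le_antisymm (sup_le inf_le_left inf_le_left) ?_⟩
  swap
  · exact le_trans (hdec PS le_rfl fun x _ => hPnorm x)
      (sup_le_sup inf_le_right inf_le_right)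
  haveI : Group.IsNilpotent PS := hPp.isNilpotent
  let M : ℕ → Subgroup S := fun k => (Subgroup.upperCentralSeries PS k).map PS.subtype
  have hMP : ∀ k, M k ≤ PS := fun k => Subgroup.map_subtype_le _
  have hMn : ∀ k, (M k).Normal := fun k => by
    show ((Subgroup.upperCentralSeries PS k).map PS.subtype).Normal
    infer_instance
  -- invariance
  have hCinv : ∀ (X : Subgroup S), X ≤ Q →
      Q ≤ Subgroup.normalizer ((PS ⊓ Subgroup.centralizer (X : Set S) : Subgroup S) : Set S) := fun X hX =>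
    CfsgLib.Signalizer.inf_normalizes (fun x _ => hPnorm x)
      (CfsgLib.Signalizer.le_normalizer_centralizer hQ hX)
  have hgen : ∀ (X Y : Subgroup S), X ≤ Q → Y ≤ Q → X ⊔ Y = Q →
      ⁅PS ⊓ Subgroup.centralizer (X : Set S), Y⁆ = PS ⊓ Subgroup.centralizer (X : Set S) := by
    intro X Y hX hY hXY
    set C := PS ⊓ Subgroup.centralizer (X : Set S) with hC
    have hYn : Y ≤ Subgroup.normalizer (C : Set S) := hY.trans (hCinv X hX)
    have h := CfsgLib.coprime_commutator_sup hYn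
      (CfsgLib.Signalizer.ea_coprime (CfsgLib.Signalizer.ea_le hQ hY) (hdvd C inf_le_left))
      (Or.inl (CfsgLib.Signalizer.ea_solvable (CfsgLib.Signalizer.ea_le hQ hY)))
    have hbot : C ⊓ Subgroup.centralizer (Y : Set S) = ⊥ := by
      rw [eq_bot_iff, ← hfree, ← hXY]
      rintro c ⟨hc1, hc2⟩
      refine ⟨hc1.1, ?_⟩
      have hle : X ⊔ Y ≤ Subgroup.centralizer ({c} : Set S) := sup_le
        (fun x hx => Subgroup.mem_centralizer_singleton_iff.2 (hc1.2 x hx))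
        (fun x hx => Subgroup.mem_centralizer_singleton_iff.2 (hc2 x hx))
      exact fun x hx => Subgroup.mem_centralizer_singleton_iff.1 (hle hx)
    rwa [hbot, sup_bot_eq] at h
  -- descent along the upper central series
  have step : ∀ (X Y : Subgroup S), X ≤ Q → Y ≤ Q → X ⊔ Y = Q → (∀ L : Subgroup S, L ≤ PS →
        Q ≤ Subgroup.normalizer (L : Set S) → L ≤ (L ⊓ (PS ⊓ Subgroup.centralizer (X : Set S))) ⊔
          (L ⊓ (PS ⊓ Subgroup.centralizer (Y : Set S)))) → ∀ k,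
      (∀ a ∈ PS ⊓ Subgroup.centralizer (X : Set S), ∀ b ∈ PS ⊓ Subgroup.centralizer (Y : Set S), ⁅a, b⁆ ∈ M (k + 1)) →
      ∀ a ∈ PS ⊓ Subgroup.centralizer (X : Set S), ∀ b ∈ PS ⊓ Subgroup.centralizer (Y : Set S),
        ∃ z, z ∈ M (k + 1) ∧ z ∈ Subgroup.centralizer (X : Set S) ∧ ⁅a, b⁆ * z⁻¹ ∈ M k := by
    intro X Y hX hY hXY hdecXY k hk
    haveI := hMn k
    let π := QuotientGroup.mk' (M k)
    set A := PS ⊓ Subgroup.centralizer (X : Set S) with hA
    set B := PS ⊓ Subgroup.centralizer (Y : Set S) with hB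
    set L := M (k + 1) with hL
    have hπ : ∀ w, π w = 1 ↔ w ∈ M k := fun w => QuotientGroup.eq_one_iff (N := M k) w
    -- `L` is central modulo `M k`
    have hcentral : ∀ l ∈ L, ∀ w ∈ PS, Commute (π l) (π w) := by
      rintro _ ⟨l, hl, rfl⟩ w hw
      have h := (Subgroup.mem_upperCentralSeries_succ_iff.1 hl) ⟨w, hw⟩
      show π (PS.subtype l) * π w = π w * π (PS.subtype l)
      rw [← mul_inv_eq_one, ← map_mul, ← map_mul, ← map_inv, ← map_mul, hπ]
      exact ⟨_, h, by simp [commutatorElement_def, mul_assoc]⟩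
    intro a ha
    let U : Subgroup S :=
      { carrier := {u | u ∈ A ∧ ∀ b ∈ B, ∃ z, z ∈ L ∧ z ∈ Subgroup.centralizer (X : Set S) ∧ π ⁅u, b⁆ = π z}
        one_mem' := ⟨A.one_mem, fun b _ => ⟨1, L.one_mem, Subgroup.one_mem _, by rw [commutatorElement_one_left]⟩⟩
        mul_mem' := by
          intro u v hu hv
          refine ⟨A.mul_mem hu.1 hv.1, fun b hb => ?_⟩
          obtain ⟨z, hzL, hzX, hz⟩ := hu.2 b hb
          obtain ⟨w, hwL, hwX, hw⟩ := hv.2 b hb
          refine ⟨w * z, L.mul_mem hwL hzL, Subgroup.mul_mem _ hwX hzX, ?_⟩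
          have e : ⁅u * v, b⁆ = u * ⁅v, b⁆ * u⁻¹ * ⁅u, b⁆ := by simp only [commutatorElement_def]; group
          have hc : Commute (π w) (π u) := hcentral w hwL u hu.1.1
          rw [e, map_mul, map_mul, map_mul, hw, hz, map_inv, ← hc.eq, mul_inv_cancel_right, map_mul]
        inv_mem' := by
          intro u hu
          refine ⟨A.inv_mem hu.1, fun b hb => ?_⟩
          obtain ⟨z, hzL, hzX, hz⟩ := hu.2 b hb
          refine ⟨z⁻¹, L.inv_mem hzL, Subgroup.inv_mem _ hzX, ?_⟩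
          have e : ⁅u⁻¹, b⁆ = u⁻¹ * ⁅u, b⁆⁻¹ * u := by simp only [commutatorElement_def]; group
          have hc : Commute (π z) (π u) := hcentral z hzL u hu.1.1
          rw [e, map_mul, map_mul, map_inv, map_inv, hz, map_inv, (hc.inv_left.inv_right).eq.symm,
            inv_mul_cancel_right] }
    suffices hAU : A ≤ U by
      intro b hb
      obtain ⟨z, hzL, hzX, hz⟩ := (hAU ha).2 b hb
      exact ⟨z, hzL, hzX, (hπ _).1 (by rw [map_mul, map_inv, hz, mul_inv_cancel])⟩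
    conv_lhs => rw [hA, ← hgen X Y hX hY hXY]
    rw [Subgroup.commutator_le]
    intro c hc y hy
    have hcY : y * c⁻¹ * y⁻¹ ∈ A :=
      (Subgroup.mem_normalizer_iff.1 (hCinv X hX (hY hy)) c⁻¹).1 (A.inv_mem hc)
    refine ⟨by rw [commutatorElement_def, mul_assoc c, mul_assoc c]; exact A.mul_mem hc hcY, fun b hb => ?_⟩
    have hyb : y * b = b * y := hb.2 y hy
    obtain ⟨s, hs, hs'⟩ : ∃ s, s ∈ L ∧ ⁅c⁻¹, b⁆ = s := ⟨_, hk c⁻¹ (A.inv_mem hc) b hb, rfl⟩
    obtain ⟨z₁, ⟨hz₁L, hz₁A⟩, z₂, ⟨hz₂L, hz₂B⟩, hzs⟩ :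
        ∃ z₁ ∈ L ⊓ A, ∃ z₂ ∈ L ⊓ B, π s = π z₁ * π z₂ := by
      have hmem : s ∈ (L ⊓ A) ⊔ (L ⊓ B) :=
        hdecXY L (hMP _) (fun x _ => by rw [Subgroup.normalizer_eq_top L (h := hMn _)]; trivial) hs
      have hcomm : ⁅(L ⊓ A).map π, (L ⊓ B).map π⁆ = ⊥ := by
        rw [Subgroup.commutator_eq_bot_iff_le_centralizer]
        rintro _ ⟨u, hu, rfl⟩ _ ⟨v, hv, rfl⟩
        exact (hcentral u hu.1 v (hMP _ hv.1)).eq.symm
      have hmem' : π s ∈ (L ⊓ A).map π ⊔ (L ⊓ B).map π := by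
        rw [← Subgroup.map_sup]; exact ⟨s, hmem, rfl⟩
      obtain ⟨_, ⟨u, hu, rfl⟩, _, ⟨v, hv, rfl⟩, e⟩ := CfsgLib.Comp.mem_sup_of_commutator_eq_bot hcomm hmem'
      exact ⟨u, hu, v, hv, e⟩
    have hyz : y * z₂ = z₂ * y := hz₂B.2 y hy
    -- the commutator of `[c, y]` with `b`
    refine ⟨(y * z₁ * y⁻¹) * z₁⁻¹, L.mul_mem ((hMn _).conj_mem z₁ hz₁L y) (L.inv_mem hz₁L),
      Subgroup.mul_mem _ ?_ (Subgroup.inv_mem _ hz₁A.2), ?_⟩
    · exact ((Subgroup.mem_normalizer_iff.1 (hCinv X hX (hY hy)) z₁).1 hz₁A).2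
    have e1 : ⁅⁅c, y⁆, b⁆ = c * (y * ⁅c⁻¹, b⁆ * y⁻¹) * c⁻¹ * ⁅c, b⁆ := by
      have hyb' : y⁻¹ * b * y = b := by rw [mul_assoc, ← hyb, inv_mul_cancel_left]
      calc ⁅⁅c, y⁆, b⁆ = c * (y * (c⁻¹ * (y⁻¹ * b * y) * c) * y⁻¹) * c⁻¹ * b⁻¹ := by
            simp only [commutatorElement_def]; group
        _ = c * (y * (c⁻¹ * b * c) * y⁻¹) * c⁻¹ * b⁻¹ := by rw [hyb']
        _ = c * (y * ⁅c⁻¹, b⁆ * (b * y⁻¹)) * c⁻¹ * b⁻¹ := by simp only [commutatorElement_def]; group
        _ = c * (y * ⁅c⁻¹, b⁆ * (y⁻¹ * b)) * c⁻¹ * b⁻¹ := by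
          rw [((show Commute y b from hyb).inv_left).eq]
        _ = _ := by simp only [commutatorElement_def]; group
    have e2 : π ⁅c, b⁆ = (π s)⁻¹ := by
      have e : ⁅c, b⁆ = c * ⁅c⁻¹, b⁆⁻¹ * c⁻¹ := by simp only [commutatorElement_def]; group
      rw [e, hs', map_mul, map_mul, map_inv, map_inv, ((hcentral s hs c hc.1).inv_left).eq.symm,
        mul_inv_cancel_right]
    have e3 : π (c * (y * ⁅c⁻¹, b⁆ * y⁻¹) * c⁻¹) = π (y * s * y⁻¹) := by
      have h : Commute (π (y * s * y⁻¹)) (π c) := hcentral _ ((hMn _).conj_mem s hs y) c hc.1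
      rw [hs', map_mul, map_mul, map_inv, ← h.eq, mul_inv_cancel_right]
    rw [e1, map_mul, e3, e2, map_mul, map_mul, map_inv, hzs, map_mul, map_mul, map_inv]
    have h12 : Commute (π z₁) (π z₂) := hcentral z₁ hz₁L z₂ (hMP _ hz₂L)
    have hy2 : Commute (π y) (π z₂) := (show Commute y z₂ from hyz).map π
    calc π y * (π z₁ * π z₂) * (π y)⁻¹ * (π z₁ * π z₂)⁻¹
        = π y * π z₁ * (π z₂ * (π y)⁻¹) * (π z₂)⁻¹ * (π z₁)⁻¹ := by group
      _ = π y * π z₁ * ((π y)⁻¹ * π z₂) * (π z₂)⁻¹ * (π z₁)⁻¹ := by rw [hy2.inv_left.symm.eq]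
      _ = π y * π z₁ * (π y)⁻¹ * π z₁⁻¹ := by rw [map_inv]; group
      _ = _ := by simp only [map_mul, map_inv]
  obtain ⟨n, hn⟩ := Group.IsNilpotent.nilpotent PS
  have hall : ∀ j, j ≤ n → ∀ a ∈ C₁, ∀ b ∈ C₂, ⁅a, b⁆ ∈ M (n - j) := by
    intro j
    induction j with
    | zero =>
      intro _ a ha b hb
      refine ⟨⟨⁅a, b⁆, ?_⟩, hn ▸ Subgroup.mem_top _, rfl⟩
      rw [commutatorElement_def]
      exact PS.mul_mem (PS.mul_mem (PS.mul_mem ha.1 hb.1) (PS.inv_mem ha.1)) (PS.inv_mem hb.1)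
    | succ j ih =>
      intro hj a ha b hb
      obtain ⟨k, hk⟩ : ∃ k, n - j = k + 1 := ⟨n - (j + 1), by omega⟩
      have hk' : n - (j + 1) = k := by omega
      rw [hk']
      have h12 : ∀ a ∈ C₁, ∀ b ∈ C₂, ⁅a, b⁆ ∈ M (k + 1) := hk ▸ ih (by omega)
      obtain ⟨z, hzL, hzX, hz⟩ := step X₁ X₂ h₁ h₂ hsup hdec k h12 a ha b hb
      obtain ⟨w, hwL, hwX, hw⟩ := step X₂ X₁ h₂ h₁ (by rw [sup_comm, hsup])
        (fun L hL hQL => (hdec L hL hQL).trans (by rw [sup_comm])) k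
        (fun u hu v hv => by rw [← commutatorElement_inv]; exact (M (k + 1)).inv_mem (h12 v hv u hu)) b hb a ha
      haveI := hMn k
      have hwz : w * z ∈ M k := by
        have h1 : ⁅b, a⁆ * w⁻¹ * (w * z) ∈ M k := by
          have := (inferInstance : (M k).Normal).conj_mem _ ((M k).inv_mem hz) z⁻¹
          convert this using 1
          simp only [commutatorElement_def]
          group
        have h2 := (M k).mul_mem ((M k).inv_mem hw) h1
        rwa [inv_mul_cancel_left] at h2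
      -- the class of `z` is fixed by `Q`
      have hzk : z ∈ M k := by
        obtain ⟨c, hc, hcz⟩ := CfsgLib.coprime_fixed_quotient (A := Q) (K := PS) (N := M k) (k := z)
          (fun x _ => hPnorm x) (CfsgLib.Signalizer.ea_coprime hQ (hdvd PS le_rfl))
          (Or.inl (CfsgLib.Signalizer.ea_solvable hQ)) (hMP k)
          (fun x _ => by rw [Subgroup.normalizer_eq_top (M k)]; trivial)
          (fun x _ => by rw [Subgroup.normalizer_eq_top (M k)]; trivial) (hMP _ hzL) (fun y hy => by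
            let K : Subgroup S := (Subgroup.centralizer ({(z : S ⧸ M k)} : Set (S ⧸ M k))).comap (QuotientGroup.mk' (M k))
            have hle : X₁ ⊔ X₂ ≤ K := by
              refine sup_le (fun x hx => ?_) (fun x hx => ?_)
              · refine Subgroup.mem_centralizer_singleton_iff.2 ?_
                exact (show Commute x z from hzX x hx).map (QuotientGroup.mk' (M k))
              · refine Subgroup.mem_centralizer_singleton_iff.2 ?_
                have e : (z : S ⧸ M k) = (w : S ⧸ M k)⁻¹ :=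
                  eq_inv_of_mul_eq_one_right (by rw [← QuotientGroup.mk_mul]; exact (QuotientGroup.eq_one_iff _).2 hwz)
                rw [e]
                exact ((show Commute x w from hwX x hx).map (QuotientGroup.mk' (M k))).inv_right
            have h := Subgroup.mem_centralizer_singleton_iff.1 (hle (hsup.symm ▸ hy))
            exact (QuotientGroup.eq_one_iff (N := M k) _).1 (by
              rw [QuotientGroup.mk_mul, QuotientGroup.mk_mul, QuotientGroup.mk_inv, QuotientGroup.mk_inv]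
              exact mul_inv_eq_one.2 (mul_inv_eq_iff_eq_mul.2 h)))
        rw [hfree, Subgroup.mem_bot] at hc
        rw [hc, mul_one] at hcz
        simpa using (M k).inv_mem hcz
      have := (M k).mul_mem hz hzk
      rwa [inv_mul_cancel_right] at this
  rw [eq_bot_iff, Subgroup.commutator_le]
  intro a ha b hb
  have h := hall n le_rfl a ha b hb
  rw [Nat.sub_self] at h
  obtain ⟨x, hx, hx'⟩ := h
  simp only [Subgroup.upperCentralSeries_zero, Subgroup.mem_bot] at hx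
  rw [Subgroup.mem_bot, ← hx', hx, map_one]

end CfsgLib.TwoFixed
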